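import Mathlib

set_option autoImplicit false

namespace Cfsg.Agent.Lib.Helper65

open scoped commutatorElement

universe u

/-- In a nontrivial finite solvable group there is a nontrivial normal abelian `p`-subgroup. -/
theorem exists_normal_abelian_pgroup (G : Type u) [Group G] [Finite G] [Group.IsSolvable G]
    [Nontrivial G] :
    ∃ (p : ℕ) (A : Subgroup G), p.Prime ∧ A.Normal ∧ A ≠ ⊥ ∧ IsPGroup p A ∧
      ∀ a ∈ A, ∀ b ∈ A, a * b = b * a := by
  classical
  -- the last nontrivial term of the derived series
  obtain ⟨n, hn⟩ := (Group.isSolvable_def G).mp inferInstance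
  have hex : ∃ n, derivedSeries G n = ⊥ := ⟨n, hn⟩
  set m := Nat.find hex with hm
  have hm0 : m ≠ 0 := by
    intro h0
    have := Nat.find_spec hex
    rw [← hm, h0, derivedSeries_zero] at this
    exact top_ne_bot this
  obtain ⟨k, hk⟩ := Nat.exists_eq_succ_of_ne_zero hm0
  have hkne : derivedSeries G k ≠ ⊥ := by
    have := Nat.find_min hex (m := k) (by omega)
    exact this
  have hk1 : derivedSeries G (k + 1) = ⊥ := by
    have := Nat.find_spec hex
    rwa [← hm, hk] at this
  set A0 := derivedSeries G k with hA0
  have hA0n : A0.Normal := derivedSeries_normal G k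
  have hcomm : ∀ a ∈ A0, ∀ b ∈ A0, a * b = b * a := by
    intro a ha b hb
    have : ⁅a, b⁆ ∈ derivedSeries G (k + 1) := by
      rw [derivedSeries_succ]
      exact Subgroup.commutator_mem_commutator ha hb
    rw [hk1, Subgroup.mem_bot, commutatorElement_eq_one_iff_mul_comm] at this
    exact this
  -- a prime dividing the order of A0
  have hcard : Nat.card A0 ≠ 1 := by
    intro h1
    exact hkne (Subgroup.card_eq_one.mp h1)
  obtain ⟨p, hp, hpd⟩ := Nat.exists_prime_and_dvd hcard
  have : Fact p.Prime := ⟨hp⟩
  obtain ⟨a0, ha0⟩ := exists_prime_orderOf_dvd_card' p hpd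
  -- the p-power torsion of A0
  let A : Subgroup G :=
    { carrier := {a | a ∈ A0 ∧ ∃ j : ℕ, a ^ (p ^ j) = 1}
      one_mem' := ⟨A0.one_mem, 0, by simp⟩
      mul_mem' := by
        rintro a b ⟨ha, i, hi⟩ ⟨hb, j, hj⟩
        refine ⟨A0.mul_mem ha hb, i + j, ?_⟩
        have hc : Commute a b := hcomm a ha b hb
        rw [hc.mul_pow, pow_add, pow_mul, hi, one_pow, one_mul, mul_comm (p ^ i), pow_mul, hj,
          one_pow]
      inv_mem' := by
        rintro a ⟨ha, i, hi⟩
        exact ⟨A0.inv_mem ha, i, by rw [inv_pow, hi, inv_one]⟩ }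
  have hAmem : ∀ a, a ∈ A ↔ a ∈ A0 ∧ ∃ j : ℕ, a ^ (p ^ j) = 1 := fun a => Iff.rfl
  refine ⟨p, A, hp, ?_, ?_, ?_, ?_⟩
  · constructor
    intro a ha g
    rw [hAmem] at ha ⊢
    obtain ⟨ha0', j, hj⟩ := ha
    refine ⟨hA0n.conj_mem a ha0' g, j, ?_⟩
    rw [conj_pow, hj, mul_one, mul_inv_cancel]
  · intro hbot
    have hmem : (a0 : G) ∈ A := by
      rw [hAmem]
      refine ⟨a0.2, 1, ?_⟩
      rw [pow_one, ← Subgroup.coe_pow, ← ha0, pow_orderOf_eq_one]
      rfl
    rw [hbot, Subgroup.mem_bot] at hmem
    have : a0 = 1 := Subtype.ext hmem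
    rw [this, orderOf_one] at ha0
    exact hp.one_lt.ne ha0
  · intro a
    obtain ⟨_, j, hj⟩ := (hAmem a.1).mp a.2
    exact ⟨j, Subtype.ext (by rw [Subgroup.coe_pow, hj]; rfl)⟩
  · intro a ha b hb
    exact hcomm a ((hAmem a).mp ha).1 b ((hAmem b).mp hb).1

/-- the order of a preimage subgroup under the quotient map -/
theorem card_comap_mk'_eq {G : Type u} [Group G] [Finite G] (A : Subgroup G) [A.Normal]
    (B : Subgroup (G ⧸ A)) :
    Nat.card (B.comap (QuotientGroup.mk' A)) = Nat.card A * Nat.card B := by
  have h1 : (B.comap (QuotientGroup.mk' A)).index = B.index :=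
    Subgroup.index_comap_of_surjective B (QuotientGroup.mk'_surjective A)
  have h2 := (B.comap (QuotientGroup.mk' A)).card_mul_index
  have h3 := B.card_mul_index
  have h4 := A.card_eq_card_quotient_mul_card_subgroup
  have h5 : B.index ≠ 0 := Subgroup.index_ne_zero_of_finite
  rw [h1] at h2
  have : Nat.card (B.comap (QuotientGroup.mk' A)) * B.index =
      (Nat.card A * Nat.card B) * B.index := by
    rw [h2, h4, ← h3]; ring
  exact Nat.eq_of_mul_eq_mul_right (Nat.pos_of_ne_zero h5) this

theorem exists_hall_aux (π : Set ℕ) : ∀ (n : ℕ) (G : Type u) [Group G] [Finite G]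
    [Group.IsSolvable G], Nat.card G = n →
    ∃ H : Subgroup G, (∀ p : ℕ, p.Prime → p ∣ Nat.card H → p ∈ π) ∧
      (∀ p : ℕ, p.Prime → p ∣ H.index → p ∉ π) := by
  intro n
  induction n using Nat.strong_induction_on with
  | _ n ih =>
    intro G _ _ _ hn
    rcases subsingleton_or_nontrivial G with hs | hnt
    · refine ⟨⊥, ?_, ?_⟩
      · intro p hp hd
        rw [Subgroup.card_bot] at hd
        exact absurd (Nat.dvd_one.mp hd) hp.ne_one
      · intro p hp hd
        rw [Subgroup.index_bot, Nat.card_unique] at hd
        exact absurd (Nat.dvd_one.mp hd) hp.ne_one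
    · obtain ⟨p, A, hp, hAn, hAne, hAp, -⟩ := exists_normal_abelian_pgroup G
      have : Fact p.Prime := ⟨hp⟩
      obtain ⟨j, hj⟩ := IsPGroup.iff_card.mp hAp
      have hAcard : 1 < Nat.card A := by
        rcases Nat.lt_or_ge 1 (Nat.card A) with h | h
        · exact h
        · exfalso
          have : Nat.card A = 1 := le_antisymm h Nat.card_pos
          exact hAne (Subgroup.card_eq_one.mp this)
      have hlt : Nat.card (G ⧸ A) < n := by
        have h4 := A.card_eq_card_quotient_mul_card_subgroup
        have hpos : 0 < Nat.card (G ⧸ A) := Nat.card_pos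
        rw [← hn, h4]
        nlinarith
      obtain ⟨Hbar, h1, h2⟩ := ih _ hlt (G ⧸ A) rfl
      set K := Hbar.comap (QuotientGroup.mk' A) with hK
      have hKidx : K.index = Hbar.index :=
        Subgroup.index_comap_of_surjective Hbar (QuotientGroup.mk'_surjective A)
      have hKcard : Nat.card K = Nat.card A * Nat.card Hbar := card_comap_mk'_eq A Hbar
      by_cases hpπ : p ∈ π
      · refine ⟨K, ?_, ?_⟩
        · intro q hq hd
          rw [hKcard] at hd
          rcases (Nat.Prime.dvd_mul hq).mp hd with h | h
          · rw [hj] at h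
            have := (Nat.prime_dvd_prime_iff_eq hq hp).mp (hq.dvd_of_dvd_pow h)
            rw [this]
            exact hpπ
          · exact h1 q hq h
        · intro q hq hd
          rw [hKidx] at hd
          exact h2 q hq hd
      · -- Schur-Zassenhaus inside K
        have hAK : A ≤ K := by
          intro a ha
          rw [hK, Subgroup.mem_comap]
          have : (QuotientGroup.mk' A) a = 1 := by
            rw [QuotientGroup.mk'_apply, QuotientGroup.eq_one_iff]
            exact ha
          rw [this]
          exact Hbar.one_mem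
        have hA'card : Nat.card (A.subgroupOf K) = Nat.card A :=
          Nat.card_congr (Subgroup.subgroupOfEquivOfLe hAK).toEquiv
        have hA'idx : (A.subgroupOf K).index = Nat.card Hbar := by
          have h5 := (A.subgroupOf K).card_mul_index
          rw [hA'card, hKcard] at h5
          exact Nat.eq_of_mul_eq_mul_left Nat.card_pos h5
        have hnd : ¬ p ∣ Nat.card Hbar := fun h => hpπ (h1 p hp h)
        have hcop : Nat.Coprime (Nat.card (A.subgroupOf K)) (A.subgroupOf K).index := by
          rw [hA'card, hA'idx, hj]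
          exact Nat.Coprime.pow_left _ ((Nat.Prime.coprime_iff_not_dvd hp).mpr hnd)
        obtain ⟨H', hH'⟩ := Subgroup.exists_right_complement'_of_coprime hcop
        have hH'idx : H'.index = Nat.card A := by
          rw [hH'.index_eq_card, hA'card]
        have hH'card : Nat.card H' = Nat.card Hbar := by
          have h6 := hH'.card_mul_card
          rw [hA'card, hKcard] at h6
          exact Nat.eq_of_mul_eq_mul_left Nat.card_pos h6
        refine ⟨H'.map K.subtype, ?_, ?_⟩
        · intro q hq hd
          rw [Subgroup.card_subtype, hH'card] at hd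
          exact h1 q hq hd
        · intro q hq hd
          rw [Subgroup.index_map_subtype, hH'idx, hKidx] at hd
          rcases (Nat.Prime.dvd_mul hq).mp hd with h | h
          · rw [hj] at h
            have := (Nat.prime_dvd_prime_iff_eq hq hp).mp (hq.dvd_of_dvd_pow h)
            rw [this]
            exact hpπ
          · exact h2 q hq h

/-- **Hall's theorem** (existence): a finite solvable group has a Hall `π`-subgroup for every set
`π` of primes: a subgroup whose order involves only primes of `π` and whose index involves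
no prime of `π`. -/
theorem exists_hall (G : Type u) [Group G] [Finite G] [Group.IsSolvable G] (π : Set ℕ) :
    ∃ H : Subgroup G, (∀ p : ℕ, p.Prime → p ∣ Nat.card H → p ∈ π) ∧
      (∀ p : ℕ, p.Prime → p ∣ H.index → p ∉ π) :=
  exists_hall_aux π (Nat.card G) G rfl

end Cfsg.Agent.Lib.Helper65
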