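import Mathlib
import Cfsg.Agent.S0064
import Cfsg.Agent.S1394
import Cfsg.Agent.S1395
import Cfsg.Agent.S1396
import Cfsg.Agent.S1410
import Cfsg.Agent.Lib.Helper01.BGNarrow
import Cfsg.Agent.Lib.Helper40.NarrowGlue
import Cfsg.Agent.Lib.Helper26.Rank2Amb
import Cfsg.Agent.Lib.Helper55.Uniq2
import Cfsg.Agent.Lib.Helper31.Transitivity
import Cfsg.Agent.Lib.Helper31.TransRank
import Cfsg.Agent.Lib.Helper91.BGFusion
import Cfsg.Agent.Lib.Helper99.Thompson

set_option autoImplicit false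
set_option linter.unusedSectionVars false
set_option linter.unusedVariables false

/-! Bender–Glauberman Lemma 10.10 (b), (c): if `A ∈ E_p^2(G) ∩ E*_p(G)`, `q ≠ p` divides `|C_G(A)|`
and `Q` is a maximal `A`-invariant `q`-subgroup, then some Sylow `p`-subgroup `P ≥ A` of `G` lies in
`N_G(Q)'`, and centralizes `Q` when `Q` is narrow.  Consequence `centralizes`: an `A`-invariant
`r`-subgroup `S` containing a member of `E_r^2(G) ∩ E*_r(G)` with `C_S(A) ≠ 1` is centralized by `A`. -/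

namespace Cfsg.Agent.Lib.Helper65.BG1010

open Cfsg

variable {G : Type*} [Group G] [Finite G]

section basic

variable {p : ℕ} [Fact p.Prime] {A : Subgroup G}

/-- `A = Ω₁(C_G(A))` for a maximal elementary abelian subgroup -/
theorem mem_of_cent (hA : IsElementaryAbelian p A)
    (hAmax : ∀ B : Subgroup G, IsElementaryAbelian p B → A ≤ B → B = A) {x : G}
    (hx : x ∈ Subgroup.centralizer (A : Set G)) (hxp : x ^ p = 1) : x ∈ A := by
  have hZ : IsElementaryAbelian p (Subgroup.zpowers x) := by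
    refine ⟨inferInstance, ?_⟩
    intro y hy
    obtain ⟨k, rfl⟩ := Subgroup.mem_zpowers_iff.mp hy
    rw [← zpow_natCast, ← zpow_mul, mul_comm, zpow_mul, zpow_natCast, hxp, one_zpow]
  have hc : ∀ a ∈ A, ∀ b ∈ Subgroup.zpowers x, a * b = b * a := by
    intro a ha b hb
    obtain ⟨k, rfl⟩ := Subgroup.mem_zpowers_iff.mp hb
    have h1 : Commute a x := (Subgroup.mem_centralizer_iff.mp hx a ha)
    exact (h1.zpow_right k).eq
  have h2 := hAmax _ (Cfsg.Agent.Lib.Helper99.isEA_sup hA hZ hc) le_sup_left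
  rw [← h2]
  exact (le_sup_right : Subgroup.zpowers x ≤ A ⊔ Subgroup.zpowers x) (Subgroup.mem_zpowers x)

theorem transHyp (hG : IsMinSimpleOddOrder G) (hA : IsElementaryAbelian p A)
    (hA2 : Nat.card A = p ^ 2)
    (hAmax : ∀ B : Subgroup G, IsElementaryAbelian p B → A ≤ B → B = A) :
    TransitivityHypothesis A := by
  have hpG : p ∣ Nat.card G :=
    dvd_trans (by rw [hA2]; exact dvd_pow_self p two_ne_zero) (Subgroup.card_subgroup_dvd_card A)
  exact Cfsg.Agent.S1396.result hG p hpG A (IsPGroup.of_card hA2) hA.1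
    (Or.inl ⟨fun x hx => ⟨fun hxp => mem_of_cent hA hAmax hx hxp, fun hxA => hA.2 x hxA⟩,
      fun H hH => Cfsg.Agent.S1410.result hG p H hH⟩)

theorem le_centralizer_self (hA : IsElementaryAbelian p A) :
    A ≤ Subgroup.centralizer (A : Set G) := by
  intro a ha
  rw [Subgroup.mem_centralizer_iff]
  intro b hb
  have := hA.1.is_comm.comm (⟨b, hb⟩ : A) ⟨a, ha⟩
  exact congrArg Subtype.val this

theorem not_rankLE_one (hA : IsElementaryAbelian p A) (hA2 : Nat.card A = p ^ 2) :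
    ¬ RankLE 1 ↥(A ⊓ Subgroup.centralizer (A : Set G)) := by
  intro h
  have hp : p.Prime := Fact.out
  have heq : A ⊓ Subgroup.centralizer (A : Set G) = A :=
    inf_eq_left.mpr (le_centralizer_self hA)
  have h1 := h p hp (⊤ : Subgroup ↥(A ⊓ Subgroup.centralizer (A : Set G))) ?_ ?_
  · rw [Subgroup.card_top, heq, hA2] at h1
    have : p ^ 1 < p ^ 2 := Nat.pow_lt_pow_right hp.one_lt (by norm_num)
    omega
  · refine ⟨⟨fun a b => ?_⟩⟩
    apply Subtype.ext
    apply Subtype.ext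
    have h3 : (a : G) * (b : G) = (b : G) * (a : G) :=
      congrArg Subtype.val (hA.1.is_comm.comm (⟨(a : G), a.1.2.1⟩ : A) ⟨(b : G), b.1.2.1⟩)
    exact h3
  · intro a _
    apply Subtype.ext
    have := hA.2 (a : G) a.2.1
    simpa using this

theorem not_dvd_card {q : ℕ} (hq : q.Prime) (hqp : q ≠ p) (hA2 : Nat.card A = p ^ 2) :
    ¬ q ∣ Nat.card A := by
  intro h
  rw [hA2] at h
  exact hqp ((Nat.prime_dvd_prime_iff_eq hq Fact.out).mp (hq.dvd_of_dvd_pow h))

end basic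

section narrow

/-- a `p`-element of `N_G(Q)'` centralizes the narrow `q`-group `Q` (`q ≠ p`). -/
theorem mem_centralizer_of_narrow (hG : IsMinSimpleOddOrder G) {p q : ℕ} [Fact p.Prime]
    [Fact q.Prime] (hqp : q ≠ p) (Q : Subgroup G) (hQq : IsPGroup q Q) (hQn : IsNarrow q Q)
    {x : G} (hx : x ∈ ⁅Subgroup.normalizer (Q : Set G), Subgroup.normalizer (Q : Set G)⁆)
    {j : ℕ} (hxp : x ^ (p ^ j) = 1) : x ∈ Subgroup.centralizer (Q : Set G) := by
  by_cases hQ1 : Q = ⊥
  · subst hQ1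
    rw [Subgroup.mem_centralizer_iff]
    intro y hy
    rw [SetLike.mem_coe, Subgroup.mem_bot] at hy
    subst hy
    simp
  have hq2 : q ≠ 2 := Cfsg.Agent.Lib.Helper55.ms_prime_ne_two hG hQq hQ1
  have hNtop : Subgroup.normalizer (Q : Set G) ≠ ⊤ :=
    Cfsg.Agent.Lib.Helper91.BGFusion.ms_normalizer_ne_top_of_pgroup hG hQ1 hQq
  have hNs : Group.IsSolvable (Subgroup.normalizer (Q : Set G)) :=
    Cfsg.Agent.Lib.Helper55.ms_solvable hG hNtop
  have hNodd : Odd (Nat.card (Subgroup.normalizer (Q : Set G))) :=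
    Cfsg.Agent.Lib.Helper55.ms_odd hG _
  have key : ∃ k : ℕ, x ^ (q ^ k) ∈ Subgroup.centralizer (Q : Set G) := by
    by_cases hrk : PRankLE q 2 Q
    · exact (Cfsg.Agent.Lib.Helper26.Rank2Amb.ambient hq2 Q _ hQq hrk le_rfl hNs hNodd).1 x hx
    · obtain ⟨y, E, w⟩ := Cfsg.Agent.Lib.Helper40.NarrowGlue.exists_wit_of_isNarrow hQq hQn hrk
      exact (Cfsg.Agent.Lib.Helper40.NarrowGlue.ambient hq2 Q _ hQq hrk w le_rfl).1 x hx
  obtain ⟨k, hk⟩ := key
  have hord : orderOf x ∣ p ^ j := orderOf_dvd_of_pow_eq_one hxp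
  have hcop : (q ^ k).Coprime (orderOf x) := by
    apply Nat.Coprime.coprime_dvd_right hord
    apply Nat.Coprime.pow
    exact (Nat.coprime_primes Fact.out Fact.out).mpr hqp
  obtain ⟨m, hm⟩ := exists_pow_eq_self_of_coprime hcop
  rw [← hm]
  exact Subgroup.pow_mem _ hk m

end narrow

section main

variable {p : ℕ} [Fact p.Prime] {A : Subgroup G}

/-- **BG Lemma 10.10 (b), (c).** -/
theorem exists_sylow (hG : IsMinSimpleOddOrder G) (hA : IsElementaryAbelian p A)
    (hA2 : Nat.card A = p ^ 2)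
    (hAmax : ∀ B : Subgroup G, IsElementaryAbelian p B → A ≤ B → B = A)
    (q : ℕ) [Fact q.Prime] (hqp : q ≠ p)
    (hqC : q ∣ Nat.card (Subgroup.centralizer (A : Set G)))
    (Q : Subgroup G) (hQ : Q ∈ maxInvSubgroups ⊤ A {q}) :
    ∃ P : Sylow p G, A ≤ (P : Subgroup G) ∧
      (P : Subgroup G) ≤ ⁅Subgroup.normalizer (Q : Set G), Subgroup.normalizer (Q : Set G)⁆ ∧
      (IsNarrow q Q → (P : Subgroup G) ≤ Subgroup.centralizer (Q : Set G)) := by
  have hp : p.Prime := Fact.out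
  have hq : q.Prime := Fact.out
  have hAp : IsPGroup p A := IsPGroup.of_card hA2
  have hTH := transHyp hG hA hA2 hAmax
  have hZ := not_rankLE_one hA hA2
  have hqA : ¬ q ∣ Nat.card A := not_dvd_card hq hqp hA2
  have htr := Cfsg.Agent.S1394.result hG A hTH hZ q hq hqA hqC
  obtain ⟨P₀, hAP₀⟩ := hAp.exists_le_sylow
  have hP₀top : (P₀ : Subgroup G) ≠ ⊤ := Cfsg.Agent.Lib.Helper55.ms_pgroup_ne_top hG P₀.isPGroup'
  have hpA : p ∣ Nat.card A := by rw [hA2]; exact dvd_pow_self p two_ne_zero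
  have hPπ : ∀ r : ℕ, r.Prime → r ∣ Nat.card (P₀ : Subgroup G) → r ∣ Nat.card A := by
    intro r hr hrP
    obtain ⟨n, hn⟩ := IsPGroup.iff_card.mp P₀.isPGroup'
    rw [hn] at hrP
    have : r = p := (Nat.prime_dvd_prime_iff_eq hr hp).mp (hr.dvd_of_dvd_pow hrP)
    rw [this]
    exact hpA
  have hsn : (A.subgroupOf (P₀ : Subgroup G)).IsSubnormal := by
    haveI : Group.IsNilpotent (P₀ : Subgroup G) := P₀.isPGroup'.isNilpotent
    exact Cfsg.Agent.S0064.result.mp inferInstance _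
  obtain ⟨-, -, hc, hd⟩ :=
    Cfsg.Agent.S1395.result hG A hTH q hq hqA (P₀ : Subgroup G) hP₀top hPπ hAP₀ hsn htr
  obtain ⟨Q', hQ', -⟩ := Cfsg.Agent.Lib.Helper31.exists_maxInv_ge (P₀ : Subgroup G) {q} ⊥
    (Cfsg.Agent.Lib.Helper31.bot_mem_invSubgroups (P₀ : Subgroup G) {q})
  obtain ⟨k, hk, hQk⟩ := htr Q' (hc hQ') Q hQ
  have hkC : k ∈ Subgroup.centralizer (A : Set G) :=
    Cfsg.Agent.Lib.Helper31.piCoreOf_le _ _ hk
  have hloc : Cfsg.Agent.Lib.Helper91.BGFusion.LocCtl p G :=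
    Cfsg.Agent.Lib.Helper91.BGFusion.ms_locCtl hG (fun H hH => Cfsg.Agent.S1410.result hG p H hH)
  have h1 : (P₀ : Subgroup G) ≤ ⁅Subgroup.normalizer ((P₀ : Subgroup G) : Set G),
      Subgroup.normalizer ((P₀ : Subgroup G) : Set G)⁆ :=
    le_trans (Cfsg.Agent.Lib.Helper91.BGFusion.sylow_le_commutator_normalizer hloc P₀
      (Cfsg.Agent.Lib.Helper91.BGFusion.ms_perfect hG))
      (Subgroup.commutator_mono Subgroup.le_normalizer le_rfl)
  have h2 : (P₀ : Subgroup G) ≤ ⁅Subgroup.normalizer (Q' : Set G),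
      Subgroup.normalizer (Q' : Set G)⁆ := fun x hx => (hd Q' hQ').1 ⟨hx, h1 hx⟩
  -- conjugate by `k`
  have hPk : ((k • P₀ : Sylow p G) : Subgroup G) =
      (P₀ : Subgroup G).map (MulAut.conj k).toMonoidHom := by
    rw [Sylow.coe_subgroup_smul, Subgroup.pointwise_smul_def]
    rfl
  have hAk : A ≤ ((k • P₀ : Sylow p G) : Subgroup G) := by
    intro a ha
    rw [hPk]
    refine ⟨a, hAP₀ ha, ?_⟩
    have h3 : k * a = a * k := (Subgroup.mem_centralizer_iff.mp hkC a ha).symm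
    change k * a * k⁻¹ = a
    rw [h3, mul_inv_cancel_right]
  have hPkN : ((k • P₀ : Sylow p G) : Subgroup G) ≤
      ⁅Subgroup.normalizer (Q : Set G), Subgroup.normalizer (Q : Set G)⁆ := by
    rw [hPk, hQk, ← Subgroup.map_equiv_normalizer_eq, ← Subgroup.map_commutator]
    exact Subgroup.map_mono h2
  refine ⟨k • P₀, hAk, hPkN, ?_⟩
  intro hQn x hx
  have hQq : IsPGroup q Q := Cfsg.Agent.Lib.Helper31.isPGroup_of_forall_prime q Q hQ.1.2.1
  obtain ⟨j, hj⟩ := (k • P₀).isPGroup' ⟨x, hx⟩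
  have hxp : x ^ (p ^ j) = 1 := by simpa using congrArg Subtype.val hj
  exact mem_centralizer_of_narrow hG hqp Q hQq hQn (hPkN hx) hxp

/-- **Endgame lemma.** Let `A ∈ E_p^2(G) ∩ E*_p(G)` and let `S` be an `A`-invariant `r`-subgroup
(`r ≠ p`) containing some `B ∈ E_r^2(G) ∩ E*_r(G)`, with `C_S(A) ≠ 1`.  Then `A` centralizes `S`. -/
theorem centralizes (hG : IsMinSimpleOddOrder G) (hA : IsElementaryAbelian p A)
    (hA2 : Nat.card A = p ^ 2)
    (hAmax : ∀ B : Subgroup G, IsElementaryAbelian p B → A ≤ B → B = A)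
    (r : ℕ) [Fact r.Prime] (hrp : r ≠ p) (S : Subgroup G) (hS : IsPGroup r S)
    (hAS : A ≤ Subgroup.normalizer (S : Set G))
    (B : Subgroup G) (hBS : B ≤ S) (hB : IsElementaryAbelian r B) (hB2 : Nat.card B = r ^ 2)
    (hBmax : ∀ B' : Subgroup G, IsElementaryAbelian r B' → B ≤ B' → B' = B)
    (hC : S ⊓ Subgroup.centralizer (A : Set G) ≠ ⊥) :
    A ≤ Subgroup.centralizer (S : Set G) := by
  have hr : r.Prime := Fact.out
  have hS1 : S ≠ ⊥ := by
    rintro rfl
    exact hC (by simp)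
  have hr2 : r ≠ 2 := Cfsg.Agent.Lib.Helper55.ms_prime_ne_two hG hS hS1
  have hrC : r ∣ Nat.card (Subgroup.centralizer (A : Set G)) := by
    have h1 : IsPGroup r (S ⊓ Subgroup.centralizer (A : Set G) : Subgroup G) :=
      hS.to_le inf_le_left
    exact dvd_trans (Cfsg.Agent.Lib.Helper55.ms_prime_dvd_card hG h1 hC)
      (Subgroup.card_dvd_of_le inf_le_right)
  obtain ⟨Q, hQ, hSQ⟩ := Cfsg.Agent.Lib.Helper31.exists_maxInv_ge A {r} S
    (Cfsg.Agent.Lib.Helper31.mem_invSubgroups_of_isPGroup r A S hS hAS)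
  have hQr : IsPGroup r Q := Cfsg.Agent.Lib.Helper31.isPGroup_of_forall_prime r Q hQ.1.2.1
  have hBQ : B ≤ Q := hBS.trans hSQ
  have hQn : IsNarrow r Q := by
    by_cases hrk : PRankLE r 2 Q
    · exact Or.inl hrk
    · refine Cfsg.Agent.Lib.Helper01.BGNarrow.isNarrow_of_maximal r hr2 hQr hrk
        (B.subgroupOf Q) ?_ ?_ ?_
      · refine ⟨⟨⟨fun a b => ?_⟩⟩, ?_⟩
        · apply Subtype.ext
          apply Subtype.ext
          have h3 : ((a : Q) : G) * ((b : Q) : G) = ((b : Q) : G) * ((a : Q) : G) :=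
            congrArg Subtype.val (hB.1.is_comm.comm (⟨((a : Q) : G), a.2⟩ : B) ⟨((b : Q) : G), b.2⟩)
          exact h3
        · intro a ha
          apply Subtype.ext
          have := hB.2 (a : G) ha
          simpa using this
      · rw [Nat.card_congr (Subgroup.subgroupOfEquivOfLe hBQ).toEquiv, hB2]
      · intro B' hB' hle
        have hmapEA : IsElementaryAbelian r (B'.map Q.subtype) := by
          refine ⟨⟨⟨fun a b => ?_⟩⟩, ?_⟩
          · obtain ⟨a', ha', haa⟩ := a.2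
            obtain ⟨b', hb', hbb⟩ := b.2
            apply Subtype.ext
            have := hB'.1.is_comm.comm (⟨a', ha'⟩ : B') ⟨b', hb'⟩
            have h3 : a' * b' = b' * a' := congrArg Subtype.val this
            change (a : G) * (b : G) = (b : G) * (a : G)
            rw [← haa, ← hbb]
            exact congrArg Subtype.val h3
          · rintro _ ⟨a', ha', rfl⟩
            have := hB'.2 a' ha'
            simpa using congrArg Subtype.val this
        have hBle : B ≤ B'.map Q.subtype := by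
          intro b hb
          exact ⟨⟨b, hBQ hb⟩, hle (by simpa [Subgroup.mem_subgroupOf] using hb), rfl⟩
        have heq := hBmax _ hmapEA hBle
        apply le_antisymm
        · intro x hx
          rw [Subgroup.mem_subgroupOf, ← heq]
          exact ⟨x, hx, rfl⟩
        · exact hle
  obtain ⟨P, hAP, -, hPC⟩ := exists_sylow hG hA hA2 hAmax r hrp hrC Q hQ
  exact (hAP.trans (hPC hQn)).trans (Subgroup.centralizer_le (SetLike.coe_subset_coe.mpr hSQ))

end main

end Cfsg.Agent.Lib.Helper65.BG1010
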