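import Mathlib
import Cfsg.Agent.Lib.Helper65.BG1010
import Cfsg.Agent.Lib.Helper71.BG11c

set_option autoImplicit false

/-! Instantiation of `Cfsg.Agent.Lib.Helper71.BG11.HypCent` by `BG1010.centralizes`. -/

namespace Cfsg.Agent.Lib.Helper65.BG1010

open Cfsg

theorem hypCent {G : Type*} [Group G] [Finite G] (hG : IsMinSimpleOddOrder G) :
    Cfsg.Agent.Lib.Helper71.BG11.HypCent G := by
  intro p _ A hA hA2 hAmax r _ hrp S hS hAS B hBS hB hB2 hBmax hC
  exact centralizes hG hA hA2 hAmax r hrp S hS hAS B hBS hB hB2 hBmax hC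

end Cfsg.Agent.Lib.Helper65.BG1010
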