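import Mathlib
import Cfsg.Agent.S0027
import Cfsg.Agent.S1415
import Cfsg.Agent.Lib.Helper55.Uniq
import Cfsg.Agent.Lib.Helper55.SylowIn
import Cfsg.Agent.Lib.Helper71.BG11b
import Cfsg.Agent.Lib.Helper76.Fitting

set_option autoImplicit false
set_option linter.unusedSectionVars false
set_option linter.unusedVariables false

/-! Steps 4-5 of the outer layer (K9) of Bender–Glauberman 11.7: if the `p`-subgroup `A` of the
complement `E` centralizes every normal `r`-subgroup (`r ≠ p`) of `E`, then `A` centralizes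
`O_{p'}(E)`. -/

namespace Cfsg.Agent.Lib.Helper65.BG117

open Cfsg Cfsg.Agent.Lib.Helper55
open scoped commutatorElement

variable {G : Type*} [Group G] [Finite G]

theorem le_normalizer_commutator_self (E : Subgroup G) :
    E ≤ Subgroup.normalizer ((⁅E, E⁆ : Subgroup G) : Set G) := by
  intro e he
  rw [Subgroup.mem_normalizer_iff]
  have key : ∀ f : G, f ∈ E → ∀ x : G, x ∈ ⁅E, E⁆ → f * x * f⁻¹ ∈ ⁅E, E⁆ := by
    intro f hf x hx
    have h1 : (⁅E, E⁆ : Subgroup G).map (MulAut.conj f).toMonoidHom ≤ ⁅E, E⁆ := by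
      rw [Subgroup.map_commutator]
      have h2 : E.map (MulAut.conj f).toMonoidHom ≤ E := by
        rintro _ ⟨y, hy, rfl⟩
        exact E.mul_mem (E.mul_mem hf hy) (E.inv_mem hf)
      exact Subgroup.commutator_mono h2 h2
    exact h1 ⟨x, hx, rfl⟩
  intro x
  constructor
  · intro hx
    exact key e he x hx
  · intro hx
    have := key e⁻¹ (E.inv_mem he) _ hx
    simpa [mul_assoc] using this

theorem commutator_le_of_le_normalizer {D A : Subgroup G}
    (h : A ≤ Subgroup.normalizer (D : Set G)) : ⁅D, A⁆ ≤ D := by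
  rw [Subgroup.commutator_le]
  intro d hd a ha
  have h1 : a * d⁻¹ * a⁻¹ ∈ D :=
    (Subgroup.mem_normalizer_iff.mp (h ha) d⁻¹).mp (D.inv_mem hd)
  have : ⁅d, a⁆ = d * (a * d⁻¹ * a⁻¹) := by
    rw [commutatorElement_def]; group
  rw [this]
  exact D.mul_mem hd h1

theorem centralizes_opc_of_crux (hG : IsMinSimpleOddOrder G) {M A E : Subgroup G} {p : ℕ}
    [Fact p.Prime] (hM : IsCoatom M) (hE : IsComplIn E (sigmaCore M) M) (hAE : A ≤ E)
    (hA : IsPGroup p A)
    (hcrux : ∀ (r : ℕ) [Fact r.Prime] (R : Subgroup G), r ≠ p → IsPGroup r R → R ≤ E →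
      E ≤ Subgroup.normalizer (R : Set G) → A ≤ Subgroup.centralizer (R : Set G)) :
    A ≤ Subgroup.centralizer ((Cfsg.Agent.Lib.Helper55.opc p E : Subgroup G) : Set G) := by
  have hp : p.Prime := Fact.out
  set D : Subgroup G := opc p E with hD
  have hDE : D ≤ E := opc_le p E
  have hED : E ≤ Subgroup.normalizer (D : Set G) :=
    Subgroup.le_normalizer.trans (normalizer_le_normalizer_opc p E)
  have hDcop : (Nat.card D).Coprime p := card_opc_coprime E
  have hnil : Group.IsNilpotent ↥(⁅E, E⁆ : Subgroup G) :=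
    (Cfsg.Agent.S1415.result hG M hM E hE).1
  set N : Subgroup G := ⁅E, E⁆ ⊓ D with hN
  have hNE : N ≤ E := inf_le_right.trans hDE
  have hNnil : Group.IsNilpotent ↥N := by
    have e : (N.subgroupOf (⁅E, E⁆ : Subgroup G)) ≃* N :=
      Subgroup.subgroupOfEquivOfLe (inf_le_left : N ≤ ⁅E, E⁆)
    exact (Group.isNilpotent_congr e).mp inferInstance
  have hEN : E ≤ Subgroup.normalizer (N : Set G) := by
    intro e he
    rw [Subgroup.mem_normalizer_iff]
    intro x
    have h1 := Subgroup.mem_normalizer_iff.mp (le_normalizer_commutator_self E he) x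
    have h2 := Subgroup.mem_normalizer_iff.mp (hED he) x
    simp only [hN, Subgroup.mem_inf]
    rw [h1, h2]
  have hNcop : (Nat.card N).Coprime p :=
    Nat.Coprime.coprime_dvd_left (Subgroup.card_dvd_of_le inf_le_right) hDcop
  -- `A` centralizes `N`
  have hNA : N ≤ Subgroup.centralizer (A : Set G) := by
    set K : Subgroup ↥N := (Subgroup.centralizer (A : Set G)).subgroupOf N with hK
    let ι := {r : ℕ // r.Prime ∧ r ∣ Nat.card ↥N}
    have hf : ∀ r : ℕ, r.Prime → r ∣ Nat.card ↥N → ∃ i : ι, (fun i : ι => (i : ℕ)) i = r :=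
      fun r hr hrd => ⟨⟨r, hr, hrd⟩, rfl⟩
    have hfact : ∀ i : ι, Fact (i : ℕ).Prime := fun i => ⟨i.2.1⟩
    let P : ∀ i : ι, Sylow (i : ℕ) ↥N := fun i => default
    have htop := Cfsg.Agent.Lib.Helper76.iSup_sylow_eq_top (G := ↥N) (fun i : ι => (i : ℕ)) hf P
    have hle : ∀ i : ι, ((P i : Sylow (i : ℕ) ↥N) : Subgroup ↥N) ≤ K := by
      intro i
      haveI : Fact (i : ℕ).Prime := hfact i
      have hsyl : IsSylowIn (i : ℕ) N (((P i : Sylow (i : ℕ) ↥N) : Subgroup ↥N).map N.subtype) :=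
        isSylowIn_of_sylow (P i)
      have hET := Cfsg.Agent.Lib.Helper71.BG11.sylow_normal_of_nilpotent hNnil hsyl hEN
      have hrp : (i : ℕ) ≠ p := by
        intro h
        have h1 : p ∣ Nat.card ↥N := h ▸ i.2.2
        have h2 := Nat.Coprime.eq_one_of_dvd hNcop.symm h1
        exact hp.one_lt.ne' h2
      have hAT := hcrux (i : ℕ) _ hrp hsyl.2.1 (hsyl.1.trans hNE) hET
      have hTA := Subgroup.le_centralizer_iff.mp hAT
      intro x hx
      rw [hK, Subgroup.mem_subgroupOf]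
      exact hTA ⟨x, hx, rfl⟩
    have hKtop : K = ⊤ := by
      rw [eq_top_iff, ← htop]
      exact iSup_le hle
    intro x hx
    have : (⟨x, hx⟩ : ↥N) ∈ K := hKtop ▸ Subgroup.mem_top _
    rw [hK, Subgroup.mem_subgroupOf] at this
    exact this
  -- `[D, A] ≤ N`
  have hAD : A ≤ Subgroup.normalizer (D : Set G) := hAE.trans hED
  have hDA : ⁅D, A⁆ ≤ N :=
    le_inf (Subgroup.commutator_mono hDE hAE) (commutator_le_of_le_normalizer hAD)
  have h3 : ⁅⁅D, A⁆, A⁆ = ⊥ := by
    rw [eq_bot_iff]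
    calc ⁅⁅D, A⁆, A⁆ ≤ ⁅N, A⁆ := Subgroup.commutator_mono hDA le_rfl
      _ = ⊥ := Subgroup.commutator_eq_bot_iff_le_centralizer.mpr hNA
  have hAsolv : Group.IsSolvable A := by
    haveI : Group.IsNilpotent A := hA.isNilpotent
    infer_instance
  have hcop : (Nat.card A).Coprime (Nat.card D) := by
    obtain ⟨n, hn⟩ := IsPGroup.iff_card.mp hA
    rw [hn]
    exact Nat.Coprime.pow_left n hDcop.symm
  have h4 := Cfsg.Agent.S0027.result A D hAD hcop (Or.inl hAsolv)
  rw [h3] at h4
  have h5 : D ≤ Subgroup.centralizer (A : Set G) :=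
    Subgroup.commutator_eq_bot_iff_le_centralizer.mp h4.symm
  exact Subgroup.le_centralizer_iff.mp h5

end Cfsg.Agent.Lib.Helper65.BG117
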