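import Cfsg.Agent.Lib.Helper31.BG134Defs
import Cfsg.Agent.Lib.Helper16.BG134Ctx
import Cfsg.Agent.Lib.Helper55.SylowIn
import Cfsg.Agent.Lib.Helper55.BG1213b
import Cfsg.Agent.Lib.Helper55.Uniq3
import Cfsg.Agent.Lib.Helper13.BG12B
import Cfsg.Agent.Lib.Helper91.BG125e
import Cfsg.Agent.Lib.Helper69.BGSigmaTrans
import Cfsg.Agent.Lib.Helper29.Coprime
import Cfsg.Agent.S1350
import Cfsg.Agent.S1417
import Cfsg.Agent.S1418

/-!
# Keystone 142817 (K-S1428-D4): in the BG 13.4 context no prime divisor of `|C_{M_σ}(P)|` lies in `τ₂(H)`.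

`q_not_tau2_core` is context free; `Ctx.q_not_tau2` is the keystone (context of helper31),
`q_not_mem_tau2` is the same statement in the context of helper16 (keystone 142853).
-/

set_option autoImplicit false

namespace Cfsg.Agent.Lib.Helper65.BG134

open Cfsg Cfsg.Agent.Lib.Helper55

variable {G : Type*} [Group G] [Finite G]

/-- step (a): `q ∈ τ₂(H)`, `X ≤ H` of order `q` with `C_{H_σ}(X) ≠ 1`: `C_G(X) ≤ H`. -/
theorem centralizer_le_of_tau2 (hG : IsMinSimpleOddOrder G) {H : Subgroup G} (hH : IsCoatom H)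
    {q : ℕ} [Fact q.Prime] (hq2 : q ∈ tau2 H) {X : Subgroup G} (hXH : X ≤ H) (hXc : Nat.card X = q)
    (hne : sigmaCore H ⊓ Subgroup.centralizer (X : Set G) ≠ ⊥) :
    Subgroup.centralizer (X : Set G) ≤ H := by
  have hHall := (Cfsg.Agent.S1350.result hG H hH).1
  have hK : ∀ p : ℕ, p.Prime → p ∣ Nat.card X → p ∉ sigma H := by
    intro p hp hpd
    rw [hXc] at hpd
    have : p = q := (Nat.prime_dvd_prime_iff_eq hp (Fact.out)).mp hpd
    rw [this]; exact hq2.2.1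
  obtain ⟨E, hE, hXE⟩ := Cfsg.Agent.Lib.Helper13.BG12.exists_complIn_ge hG hH hHall hXH hK
  obtain ⟨A, hAE, hAel, hAc⟩ :=
    Cfsg.Agent.Lib.Helper13.BG12.exists_elemAb_sq_le_compl hG hH hHall hq2 hE
  obtain ⟨⟨_, ha2⟩, _, hc⟩ := Cfsg.Agent.S1418.result hG H hH E hE q hq2 A ⟨hAE, hAel, hAc⟩
  exact (hc X (ha2 X hXE hXc) hXc hne).1

/-- a subgroup centralized by `y` contains... : if `y * s * y⁻¹ = s` then `y` centralizes `zpowers (s ^ n)`. -/
theorem mem_centralizer_zpowers_pow {y s : G} (h : y * s * y⁻¹ = s) (n : ℕ) :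
    y ∈ Subgroup.centralizer ((Subgroup.zpowers (s ^ n) : Subgroup G) : Set G) := by
  have hs : s ∈ Subgroup.centralizer ({y} : Set G) := by
    rw [Subgroup.mem_centralizer_iff]
    intro z hz
    rw [Set.mem_singleton_iff] at hz
    subst hz
    calc z * s = (z * s * z⁻¹) * z := by group
      _ = s * z := by rw [h]
  have hle : Subgroup.zpowers (s ^ n) ≤ Subgroup.centralizer ({y} : Set G) := by
    rw [Subgroup.zpowers_le]
    exact Subgroup.pow_mem _ hs n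
  rw [Subgroup.mem_centralizer_iff]
  intro t ht
  exact ((Subgroup.mem_centralizer_iff.1 (hle ht)) y rfl).symm

/-- **D4, context free.** -/
theorem q_not_tau2_core (hG : IsMinSimpleOddOrder G) {M H P : Subgroup G} (hM : IsCoatom M)
    (hH : IsCoatom H) (hMH : M ≠ H) {p : ℕ} [Fact p.Prime] (hpσ : p ∈ sigma H) (hPp : IsPGroup p P)
    (hP1 : P ≠ ⊥) (hPM : P ≤ M) (hPH : P ≤ H)
    (hC : sigmaCore M ⊓ H = sigmaCore M ⊓ Subgroup.centralizer (P : Set G))
    {q : ℕ} (hq : q.Prime)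
    (hqC : q ∣ Nat.card ↥(sigmaCore M ⊓ Subgroup.centralizer (P : Set G))) : q ∉ tau2 H := by
  intro hq2
  haveI : Fact q.Prime := ⟨hq⟩
  have hCH : sigmaCore M ⊓ Subgroup.centralizer (P : Set G) ≤ H := by rw [← hC]; exact inf_le_right
  have hCMs : sigmaCore M ⊓ Subgroup.centralizer (P : Set G) ≤ sigmaCore M := inf_le_left
  have hMsM : sigmaCore M ≤ M := (Cfsg.Agent.S1350.result hG M hM).1.1
  have hPHs : P ≤ sigmaCore H :=
    Cfsg.Agent.Lib.Helper91.BG125.le_sigmaCore_of_mem_sigma hG hH hpσ hPp hPH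
  -- step (a)
  have stepa : ∀ X : Subgroup G, X ≤ sigmaCore M ⊓ Subgroup.centralizer (P : Set G) → Nat.card X = q →
      Subgroup.centralizer (X : Set G) ≤ H := by
    intro X hXC hXc
    apply centralizer_le_of_tau2 hG hH hq2 (hXC.trans hCH) hXc
    intro hbot
    apply hP1
    have hPle : P ≤ sigmaCore H ⊓ Subgroup.centralizer (X : Set G) := by
      refine le_inf hPHs ?_
      rw [Subgroup.le_centralizer_iff]
      exact hXC.trans inf_le_right
    rw [hbot] at hPle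
    exact le_bot_iff.1 hPle
  -- an element of order q in C
  obtain ⟨x, hx⟩ := exists_prime_orderOf_dvd_card' q hqC
  have hxo : orderOf (x : G) = q := by rw [Subgroup.orderOf_coe]; exact hx
  have hXC : Subgroup.zpowers (x : G) ≤ sigmaCore M ⊓ Subgroup.centralizer (P : Set G) := by
    rw [Subgroup.zpowers_le]; exact x.2
  have hXc : Nat.card (Subgroup.zpowers (x : G)) = q := by rw [Nat.card_zpowers]; exact hxo
  have hXq : IsPGroup q (Subgroup.zpowers (x : G)) := IsPGroup.of_card (n := 1) (by rw [hXc, pow_one])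
  obtain ⟨Q, hQ, hXQ⟩ := exists_isSylowIn_ge (p := q) hXC hXq
  obtain ⟨T, hT, hQT⟩ := exists_isSylowIn_ge (p := q) (hQ.1.trans hCMs) hQ.2.1
  -- |Q| = q ^ k, k ≠ 0
  obtain ⟨k, hk⟩ := (IsPGroup.iff_card).1 hQ.2.1
  have hk0 : k ≠ 0 := by
    intro h0
    rw [h0, pow_zero] at hk
    have h1 : q ∣ Nat.card Q := hXc ▸ Subgroup.card_dvd_of_le hXQ
    rw [hk] at h1
    exact hq.one_lt.ne' (Nat.dvd_one.1 h1)
  -- T = Q
  have hTQ : T = Q := by
    apply hQ.eq_of_normalizer_le hT.2.1 hQT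
    intro y hy
    have hYq : IsPGroup q ↥(T ⊓ Subgroup.normalizer (Q : Set G)) := hT.2.1.to_le inf_le_left
    have hinv : ∀ g ∈ T ⊓ Subgroup.normalizer (Q : Set G), ∀ s ∈ ((Q : Set G) \ {1}),
        g * s * g⁻¹ ∈ ((Q : Set G) \ {1}) := by
      intro g hg s hs
      refine ⟨(Subgroup.mem_normalizer_iff.1 hg.2 s).1 hs.1, ?_⟩
      intro h1
      apply hs.2
      rw [Set.mem_singleton_iff] at h1 ⊢
      calc s = g⁻¹ * (g * s * g⁻¹) * g := by group
        _ = 1 := by rw [h1]; group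
    have hcard : ¬ q ∣ Nat.card ↥((Q : Set G) \ {1}) := by
      rw [Nat.card_coe_set_eq, Set.ncard_sdiff_singleton_of_mem (Q.one_mem), ← Nat.card_coe_set_eq]
      have hQc : Nat.card ↥(Q : Set G) = q ^ k := hk
      rw [hQc]
      intro hd
      have h1 : q ∣ q ^ k := dvd_pow_self q hk0
      have h2 : q ∣ q ^ k - (q ^ k - 1) := Nat.dvd_sub h1 hd
      have h3 : q ^ k - (q ^ k - 1) = 1 := by
        have : 1 ≤ q ^ k := Nat.one_le_pow _ _ hq.pos
        omega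
      rw [h3] at h2
      exact hq.one_lt.ne' (Nat.dvd_one.1 h2)
    obtain ⟨s, hsS, hsfix⟩ := Cfsg.Agent.Lib.Helper29.exists_conj_fixed_of_pgroup
      (T ⊓ Subgroup.normalizer (Q : Set G)) hYq ((Q : Set G) \ {1}) hinv hcard
    have hsQ : s ∈ Q := hsS.1
    have hs1 : s ≠ 1 := fun h => hsS.2 (Set.mem_singleton_iff.2 h)
    obtain ⟨j, hj⟩ := (IsPGroup.iff_orderOf.1 hQ.2.1) ⟨s, hsQ⟩
    rw [Subgroup.orderOf_mk] at hj
    have hj0 : j ≠ 0 := by
      intro h0
      rw [h0, pow_zero] at hj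
      exact hs1 (orderOf_eq_one_iff.1 hj)
    have hqs : q ∣ orderOf s := by rw [hj]; exact dvd_pow_self q hj0
    have hos : orderOf s ≠ 0 := by rw [hj]; exact pow_ne_zero _ hq.ne_zero
    have hx0 : orderOf (s ^ (orderOf s / q)) = q := orderOf_pow_orderOf_div hos hqs
    have hX0C : Subgroup.zpowers (s ^ (orderOf s / q)) ≤
        sigmaCore M ⊓ Subgroup.centralizer (P : Set G) := by
      rw [Subgroup.zpowers_le]
      exact hQ.1 (Subgroup.pow_mem _ hsQ _)
    have hX0c : Nat.card (Subgroup.zpowers (s ^ (orderOf s / q))) = q := by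
      rw [Nat.card_zpowers]; exact hx0
    have hcH := stepa _ hX0C hX0c
    have hyH : y ∈ H := hcH (mem_centralizer_zpowers_pow (hsfix y hy) _)
    have hyMs : y ∈ sigmaCore M := hT.1 hy.1
    rw [← hC]
    exact ⟨hyMs, hyH⟩
  subst hTQ
  -- T is a Sylow q-subgroup of G
  have hqM : q ∈ sigma M :=
    (Cfsg.Agent.S1350.result hG M hM).1.2.1 q hq (dvd_trans hqC (Subgroup.card_dvd_of_le hCMs))
  obtain ⟨S0, hS0⟩ := Cfsg.Agent.Lib.Helper69.BG10.exists_good_of_sigma (p := q) hqM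
  have hS0Ms : S0 ≤ sigmaCore M :=
    Cfsg.Agent.Lib.Helper91.BG125.le_sigmaCore_of_mem_sigma hG hM hqM hS0.1.2.1 hS0.2.1
  have hS0syl : IsSylowIn q (sigmaCore M) S0 :=
    ⟨hS0Ms, hS0.1.2.1, fun T' _ hT'p hle => hS0.1.2.2 T' le_top hT'p hle⟩
  obtain ⟨k1, _, hkS⟩ := hS0syl.exists_conj hT
  have hTtop : IsSylowIn q ⊤ T := by
    have := isSylowIn_cj hS0.1 k1
    rwa [cj_top, hkS] at this
  have hTH : IsSylowIn q H T :=
    ⟨hQ.1.trans hCH, hTtop.2.1, fun T' _ hT'p hle => hTtop.2.2 T' le_top hT'p hle⟩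
  -- an E_{q^2} inside T
  obtain ⟨B0, hB0H, hB0el, hB0c⟩ := Cfsg.Agent.Lib.Helper13.BG12.exists_elemAb_sq_of_tau2 hq2
  have hB0q : IsPGroup q B0 := IsPGroup.of_card hB0c
  obtain ⟨k2, _, hk2B⟩ := hTH.exists_conj_le hB0H hB0q
  have hBel := isEA_cj k2 hB0el
  have hBc : Nat.card (cj k2 B0) = q ^ 2 := by rw [card_cj]; exact hB0c
  have hBH : cj k2 B0 ≤ H := hk2B.trans hTH.1
  obtain ⟨_, _, _, _, he, _⟩ := Cfsg.Agent.S1417.result hG H hH q hq2 (cj k2 B0) ⟨hBH, hBel, hBc⟩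
  have hbot := he M hM hMH (hk2B.trans (hQ.1.trans (hCMs.trans hMsM)))
  apply hP1
  have hPle : P ≤ sigmaCore H ⊓ M := le_inf hPHs hPM
  rw [hbot] at hPle
  exact le_bot_iff.1 hPle

/-- **KEYSTONE 142817 (K-S1428-D4).** -/
theorem Ctx.q_not_tau2 {M P R H : Subgroup G} {p r : ℕ}
    (c : Cfsg.Agent.Lib.Helper31.BG134.Ctx M P R H p r)
    (hnc : ∀ g : G, cj g M ≠ H) (hpσ : p ∈ sigma H)
    (hC : sigmaCore M ⊓ H = Cfsg.Agent.Lib.Helper31.BG134.CP M P)
    {q : ℕ} (hq : q.Prime) (hqC : q ∣ Nat.card ↥(Cfsg.Agent.Lib.Helper31.BG134.CP M P)) :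
    q ∉ tau2 H := by
  haveI : Fact p.Prime := ⟨c.hp.1⟩
  have hMH : M ≠ H := by
    have := hnc 1
    rwa [cj_one] at this
  have hPp : IsPGroup p P := IsPGroup.of_card (n := 1) (by rw [c.hPc, pow_one])
  have hP1 : P ≠ ⊥ := by
    intro h
    have h1 := c.hPc
    rw [h, Subgroup.card_bot] at h1
    exact c.hp.1.one_lt.ne h1
  exact q_not_tau2_core c.hG c.hM c.hH hMH hpσ hPp hP1 c.hPM
    (Subgroup.le_normalizer.trans c.hNH) hC hq hqC

/-- the same in the context of helper16 (keystone 142853). -/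
theorem q_not_mem_tau2 {M E P R H : Subgroup G} {p : ℕ}
    (c : Cfsg.Agent.Lib.Helper16.BG134.Ctx M E P R H p)
    (hnc : ∀ g : G, cj g M ≠ H) (hpσ : p ∈ sigma H)
    (hK : sigmaCore M ⊓ H = sigmaCore M ⊓ Subgroup.centralizer (P : Set G))
    {q : ℕ} (hq : q.Prime)
    (hqC : q ∣ Nat.card ↥(sigmaCore M ⊓ Subgroup.centralizer (P : Set G))) :
    q ∉ tau2 H := by
  haveI : Fact p.Prime := ⟨c.hp.1⟩
  have hMH : M ≠ H := by
    have := hnc 1
    rwa [cj_one] at this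
  have hPp : IsPGroup p P := IsPGroup.of_card (n := 1) (by rw [c.hP, pow_one])
  have hP1 : P ≠ ⊥ := by
    intro h
    have h1 := c.hP
    rw [h, Subgroup.card_bot] at h1
    exact c.hp.1.one_lt.ne h1
  exact q_not_tau2_core c.hG c.hM c.hH hMH hpσ hPp hP1 (c.hPE.trans c.hE.1)
    (Subgroup.le_normalizer.trans c.hNP) hK hq hqC

end Cfsg.Agent.Lib.Helper65.BG134
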