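import Cfsg.Agent.Lib.Helper69.BGSigmaTrans
import Cfsg.Agent.Lib.Helper91.BGFusion
import Cfsg.Agent.S1410

/-!
# Keystone 142801 (K-S1428-G1): for `s ∈ σ(H)` every `s`-subgroup of `H` lies in `H'`.
-/

set_option autoImplicit false

namespace Cfsg.Agent.Lib.Helper65.BG134

open Cfsg Cfsg.Agent.Lib.Helper55
open scoped commutatorElement

variable {G : Type*} [Group G] [Finite G]

/-- `⁅H, H⁆` is normalized by `H` (elementwise form). -/
theorem conj_mem_commutator_self {H : Subgroup G} {h c : G} (hh : h ∈ H) (hc : c ∈ ⁅H, H⁆) :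
    h * c * h⁻¹ ∈ ⁅H, H⁆ := by
  have hcH : c ∈ H := by
    have hle : ⁅H, H⁆ ≤ H := by
      rw [Subgroup.commutator_le]
      intro a ha b hb
      rw [commutatorElement_def]
      exact H.mul_mem (H.mul_mem (H.mul_mem ha hb) (H.inv_mem ha)) (H.inv_mem hb)
    exact hle hc
  have h1 : ⁅h, c⁆ ∈ ⁅H, H⁆ := Subgroup.commutator_mem_commutator hh hcH
  have e : h * c * h⁻¹ = ⁅h, c⁆ * c := by rw [commutatorElement_def]; group
  rw [e]
  exact Subgroup.mul_mem _ h1 hc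

/-- **KEYSTONE 142801 (K-S1428-G1).**  `s ∈ σ(H)`: every `s`-subgroup of `H` lies in `H'`. -/
theorem le_commutator_of_mem_sigma (hG : IsMinSimpleOddOrder G) {H : Subgroup G} (hH : IsCoatom H)
    {s : ℕ} [Fact s.Prime] (hs : s ∈ sigma H) {X : Subgroup G} (hXH : X ≤ H) (hXs : IsPGroup s X) :
    X ≤ ⁅H, H⁆ := by
  obtain ⟨S, hS⟩ := Cfsg.Agent.Lib.Helper69.BG10.exists_good_of_sigma (p := s) hs
  have hST : IsSylowIn s ⊤ S := hS.1
  let Ph : Sylow s G := ⟨S, hST.2.1, fun {Q} hQ hle => hST.2.2 Q le_top hQ hle⟩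
  have hPh : (Ph : Subgroup G) = S := rfl
  have hloc : Cfsg.Agent.Lib.Helper91.BGFusion.LocCtl s G :=
    Cfsg.Agent.Lib.Helper91.BGFusion.ms_locCtl hG (fun K hK => Cfsg.Agent.S1410.result hG s K hK)
  have h1 := Cfsg.Agent.Lib.Helper91.BGFusion.sylow_le_commutator_normalizer hloc Ph
    (Cfsg.Agent.Lib.Helper91.BGFusion.ms_perfect hG)
  rw [hPh] at h1
  have h2 : S ≤ ⁅H, H⁆ := h1.trans (Subgroup.commutator_mono hS.2.1 hS.2.2)
  obtain ⟨k, hk, hkX⟩ := hS.sylowIn.exists_conj_le hXH hXs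
  intro x hx
  have h3 : k * x * k⁻¹ ∈ ⁅H, H⁆ := h2 (hkX (conj_mem_cj hx))
  have h4 := conj_mem_commutator_self (H.inv_mem hk) h3
  have e : k⁻¹ * (k * x * k⁻¹) * k⁻¹⁻¹ = x := by group
  rwa [e] at h4

end Cfsg.Agent.Lib.Helper65.BG134
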