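import Mathlib
import Cfsg.Agent.S1406
import Cfsg.Agent.Lib.Helper12.CNMaxSub

/-!
# Keystone K-S1428-NR (142813 / 142841): `normalizer_le_of_rank`

BG 10.3 (S1406) makes `H ⊓ C(Q)` a uniqueness subgroup, the unique maximal subgroup over it
being `H`; the normalizer of `Q` lies in some maximal subgroup, which contains `H ⊓ C(Q)`.
-/

set_option autoImplicit false

namespace Cfsg.Agent.Lib.Helper65.BG134

open Cfsg

variable {G : Type*} [Group G] [Finite G]

/-- KEYSTONE 142813  K-S1428-NR. -/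
theorem normalizer_le_of_rank (hG : IsMinSimpleOddOrder G) {H : Subgroup G} (hH : IsCoatom H)
    {Q : Subgroup G} (hQH : Q ≤ H) (hQ1 : Q ≠ ⊥)
    (hQα : ∀ q : ℕ, q.Prime → q ∣ Nat.card Q → q ∉ alpha H)
    (hrk : ¬ RankLE 1 ↥(alphaCore H ⊓ Subgroup.centralizer (Q : Set G))) :
    Subgroup.normalizer (Q : Set G) ≤ H := by
  have hQtop : Q ≠ ⊤ := by
    intro h
    apply hH.1
    rw [eq_top_iff, ← h]
    exact hQH
  obtain ⟨L, hL, hNL⟩ :=
    Cfsg.Agent.Lib.Helper12.CNMaxSub.exists_coatom_normalizer_le hG hQ1 hQtop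
  obtain ⟨M, -, huniq⟩ := Cfsg.Agent.S1406.result hG H hH Q hQH hQα hrk
  have h1 : H = M := huniq H ⟨hH, inf_le_left⟩
  have h2 : L = M := by
    refine huniq L ⟨hL, ?_⟩
    intro x hx
    apply hNL
    have hxc : x ∈ Subgroup.centralizer (Q : Set G) := hx.2
    exact Subgroup.centralizer_le_normalizer (Q : Set G) hxc
  rw [h1, ← h2]
  exact hNL

end Cfsg.Agent.Lib.Helper65.BG134
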