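import Mathlib
import Cfsg.Agent.Lib.Helper15.BG142Defs2
import Cfsg.Agent.Lib.Helper31.BG12a
import Cfsg.Agent.Lib.Helper12.CNMaxSub
import Cfsg.Agent.Lib.Helper71.BG11a
import Cfsg.Agent.S1404
import Cfsg.Agent.S1425

/-!
# K-F (keystone 143036, architect helper15): clauses 1, 2, 4 of S1431 from `KS` + `HA`
-/

set_option autoImplicit false

namespace Cfsg.Agent.Lib.Helper65.BG142

open Cfsg Cfsg.Agent.Lib.Helper55 Cfsg.Agent.Lib.Helper31.BG134 Cfsg.Agent.Lib.Helper15.BG139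
  Cfsg.Agent.Lib.Helper15.BG142

variable {G : Type*} [Group G] [Finite G]

/-- a nontrivial finite subgroup contains a subgroup of prime order -/
theorem exists_prime_sub {K : Subgroup G} (hK : K ≠ ⊥) :
    ∃ P : Subgroup G, P ≤ K ∧ (Nat.card P).Prime := by
  have hc : Nat.card K ≠ 1 := fun h => hK (Subgroup.card_eq_one.mp h)
  obtain ⟨p, hp, hpd⟩ := Nat.exists_prime_and_dvd hc
  have : Fact p.Prime := ⟨hp⟩
  obtain ⟨x, hx⟩ := exists_prime_orderOf_dvd_card' p hpd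
  refine ⟨Subgroup.zpowers (x : G), ?_, ?_⟩
  · rw [Subgroup.zpowers_le]; exact x.2
  · rw [Nat.card_zpowers, Subgroup.orderOf_coe, hx]; exact hp

/-- the key step: a subgroup `Y₀` of prime order of `K*` is conjugated into `M` only by elements of `M` -/
theorem KS.mem_of_cj_le (hG : IsMinSimpleOddOrder G) (hA : HA G) {M K E : Subgroup G} (hM : IsCoatom M)
    (ks : KS M K E) {Y₀ : Subgroup G} (hY₀ : Y₀ ≤ KStar M K) (hY₀p : (Nat.card Y₀).Prime)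
    {g : G} (hg : cj g Y₀ ≤ M) : g ∈ M := by
  obtain ⟨X, hXK, hXp⟩ := exists_prime_sub ks.hK1
  have hEM : E ≤ M := ks.hE.1
  have hXM : X ≤ M := hXK.trans (ks.hKE.trans hEM)
  have hKsCP : KStar M K ≤ CP M X :=
    inf_le_inf le_rfl (Subgroup.centralizer_le (by exact_mod_cast hXK))
  have hY₀CP : Y₀ ≤ CP M X := hY₀.trans hKsCP
  have hY₀σ : Y₀ ≤ sigmaCore M := hY₀.trans inf_le_left
  have hY₀M : Y₀ ≤ M := hY₀σ.trans (Cfsg.Agent.Lib.Helper71.BG11.sigmaCore_le M)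
  have hY₀1 : Y₀ ≠ ⊥ := by
    intro h
    rw [h, Subgroup.card_bot] at hY₀p
    exact Nat.not_prime_one hY₀p
  have hY₀top : Y₀ ≠ ⊤ := by
    intro h
    apply hM.1
    rw [eq_top_iff, ← h]
    exact hY₀M
  set q := Nat.card Y₀ with hq
  have : Fact q.Prime := ⟨hY₀p⟩
  have hqσ : q ∈ sigma M :=
    Cfsg.Agent.Lib.Helper71.BG11.sigmaCore_pi hG hM hY₀p (Subgroup.card_dvd_of_le hY₀σ)
  obtain ⟨M2, hM2, hNM2⟩ := Cfsg.Agent.Lib.Helper12.CNMaxSub.exists_coatom_normalizer_le hG hY₀1 hY₀top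
  have hM2M : M2 = M := hA M X Y₀ (Nat.card X) hM hXM rfl (ks.h13 X hXK hXp) hY₀CP hY₀p M2 hM2 hNM2
  have hNM : Subgroup.normalizer (Y₀ : Set G) ≤ M := hM2M ▸ hNM2
  have hCM : Subgroup.centralizer (Y₀ : Set G) ≤ M :=
    (Subgroup.centralizer_le_normalizer _).trans hNM
  have hpg : IsPGroup q Y₀ := IsPGroup.of_card (n := 1) (by rw [pow_one])
  obtain ⟨m, hm, c, hc, hgmc⟩ := (Cfsg.Agent.S1404.result hG M hM q hqσ Y₀ hpg hY₀1 hY₀M).1 g hg
  rw [hgmc]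
  exact M.mul_mem hm (hCM hc)

/-- KEYSTONE 143036  K-F  `KS.s1431_rest`: clauses 1, 2, 4 of S1431 from `KS` + `HA`. -/
theorem KS.s1431_rest (hG : IsMinSimpleOddOrder G) (hA : HA G) {M K E : Subgroup G} (hM : IsCoatom M)
    (ks : KS M K E) :
    (∀ g : G, g ∉ M → KStar M K ⊓ M.map (MulAut.conj g).toMonoidHom = ⊥) ∧
    (∀ g ∈ M, g ∉ K ⊔ KStar M K → K ⊓ K.map (MulAut.conj g).toMonoidHom = ⊥) ∧
    ∀ Y : Subgroup G, (∀ p : ℕ, p.Prime → p ∣ Nat.card Y → p ∈ sigma M) →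
      Y ⊓ KStar M K ≠ ⊥ → Y ≤ sigmaCore M := by
  refine ⟨?_, ?_, ?_⟩
  · -- clause 1
    intro g hgM
    by_contra hne
    obtain ⟨Y₀, hY₀le, hY₀p⟩ := exists_prime_sub hne
    have h1 : Y₀ ≤ KStar M K := hY₀le.trans inf_le_left
    have h2 : Y₀ ≤ cj g M := hY₀le.trans inf_le_right
    have h3 : cj g⁻¹ Y₀ ≤ M := le_cj_iff.mp h2
    have h4 := KS.mem_of_cj_le hG hA hM ks h1 hY₀p h3
    exact hgM (by simpa using M.inv_mem h4)
  · -- clause 2
    intro g hgM hgn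
    by_contra hne
    obtain ⟨X', hX'le, hX'p⟩ := exists_prime_sub hne
    have h1 : X' ≤ K := hX'le.trans inf_le_left
    have h2 : X' ≤ cj g K := hX'le.trans inf_le_right
    have h3 : cj g⁻¹ X' ≤ K := le_cj_iff.mp h2
    have h4 : cj g⁻¹ X' = X' := ks.huniq X' (cj g⁻¹ X') h1 h3 hX'p (card_cj g⁻¹ X')
    have h5 : g⁻¹ ∈ Subgroup.normalizer (X' : Set G) := cj_eq_self_iff.mp h4
    have h6 : g ∈ Subgroup.normalizer (X' : Set G) := by
      simpa using (Subgroup.normalizer (X' : Set G)).inv_mem h5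
    have h7 : g ∈ M ⊓ Subgroup.normalizer (X' : Set G) := ⟨hgM, h6⟩
    rw [ks.hN X' h1 hX'p] at h7
    exact hgn h7
  · -- clause 4
    intro Y hYσ hYK
    have hY1 : Y ≠ ⊥ := by
      intro h
      apply hYK
      rw [h, bot_inf_eq]
    obtain ⟨g, hg⟩ := Cfsg.Agent.S1425.result hG M hM Y hY1 hYσ
    obtain ⟨Y₀, hY₀le, hY₀p⟩ := exists_prime_sub hYK
    have h1 : Y₀ ≤ KStar M K := hY₀le.trans inf_le_right
    have h2 : Y₀ ≤ Y := hY₀le.trans inf_le_left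
    have h3 : cj g Y₀ ≤ M :=
      (cj_mono h2).trans (hg.trans (Cfsg.Agent.Lib.Helper71.BG11.sigmaCore_le M))
    have hgM : g ∈ M := KS.mem_of_cj_le hG hA hM ks h1 hY₀p h3
    have h4 : Y ≤ cj g⁻¹ (sigmaCore M) := cj_le_iff.mp hg
    have h5 : cj g⁻¹ (sigmaCore M) = sigmaCore M :=
      cj_eq_self_iff.mpr (Cfsg.Agent.Lib.Helper71.BG11.le_normalizer_sigmaCore M (M.inv_mem hgM))
    rw [h5] at h4
    exact h4

end Cfsg.Agent.Lib.Helper65.BG142
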