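import Mathlib

/-!
# Keystone 135506 (K-151-F1): if `X = H E` with `H` normal then `X' ≤ H E'`.
-/

set_option autoImplicit false

namespace Cfsg.Agent.Lib.Helper65.BG151

open scoped commutatorElement

/-- K-151-F1 -/
theorem commutator_le_sup {X : Type*} [Group X] (H E : Subgroup X) [H.Normal]
    (hHE : H ⊔ E = ⊤) : commutator X ≤ H ⊔ ⁅E, E⁆ := by
  rw [commutator_def, Subgroup.commutator_le]
  intro x _ y _
  have hx : x ∈ H ⊔ E := hHE ▸ Subgroup.mem_top x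
  have hy : y ∈ H ⊔ E := hHE ▸ Subgroup.mem_top y
  rw [Subgroup.mem_sup_of_normal_left] at hx hy
  obtain ⟨h1, hh1, e1, he1, rfl⟩ := hx
  obtain ⟨h2, hh2, e2, he2, rfl⟩ := hy
  have key : ⁅h1 * e1, h2 * e2⁆ * ⁅e1, e2⁆⁻¹ ∈ H := by
    rw [← QuotientGroup.eq_one_iff]
    have e1' : ((h1 : X) : X ⧸ H) = 1 := (QuotientGroup.eq_one_iff h1).2 hh1
    have e2' : ((h2 : X) : X ⧸ H) = 1 := (QuotientGroup.eq_one_iff h2).2 hh2
    simp only [commutatorElement_def, QuotientGroup.mk_mul, QuotientGroup.mk_inv, e1', e2',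
      one_mul, mul_inv_rev, inv_inv]
    group
  have hmem : ⁅h1 * e1, h2 * e2⁆ = (⁅h1 * e1, h2 * e2⁆ * ⁅e1, e2⁆⁻¹) * ⁅e1, e2⁆ := by group
  rw [hmem]
  exact Subgroup.mul_mem_sup key (Subgroup.commutator_mem_commutator he1 he2)

end Cfsg.Agent.Lib.Helper65.BG151
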