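import Mathlib
import Cfsg.Agent.Lib.Helper71.BG1366Defs
import Cfsg.Agent.Lib.Helper15.BG142Defs
import Cfsg.Agent.Lib.Helper55.Basic
import Cfsg.Agent.Lib.Helper12.CNMaxSub
import Cfsg.Agent.Lib.Helper71.BG10Sub
import Cfsg.Agent.Lib.Helper71.BG11a
import Cfsg.Agent.Lib.Helper28.BG147H
import Cfsg.Agent.Lib.Helper77.BG147N

set_option autoImplicit false
set_option linter.unusedSimpArgs false
set_option linter.unusedSectionVars false
set_option linter.unusedVariables false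
set_option maxHeartbeats 1000000

/-!
# K-1366-K (136612): the partner `M*` of a `P`-pair exists (BG 14.7, pack K-1366, architect helper71)
-/

namespace Cfsg.Agent.Lib.Helper65.BG1366

open Cfsg Subgroup Cfsg.Agent.Lib.Helper55 Cfsg.Agent.Lib.Helper11.BG14D Cfsg.Agent.Lib.Helper11.BG144
  Cfsg.Agent.Lib.Helper31.BG147 Cfsg.Agent.Lib.Helper71.BG1366

variable {G : Type*} [Group G] [Finite G]

/-- Cauchy inside a subgroup: a subgroup of order `r` for every prime divisor `r` of `|K|` -/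
theorem exists_sub_card_eq {K : Subgroup G} {r : ℕ} (hr : r.Prime) (hrd : r ∣ Nat.card K) :
    ∃ X : Subgroup G, X ≤ K ∧ Nat.card X = r := by
  have : Fact r.Prime := ⟨hr⟩
  obtain ⟨k, hk⟩ := exists_prime_orderOf_dvd_card' r hrd
  refine ⟨Subgroup.zpowers (k : G), ?_, ?_⟩
  · rw [Subgroup.zpowers_le]
    exact k.2
  · rw [Nat.card_zpowers, Subgroup.orderOf_coe, hk]

/-- KEYSTONE 136612  K-1366-K -/
theorem exists_partner (hG : IsMinSimpleOddOrder G) (h30 : H1430 G) (h31 : H1431 G) {M K : Subgroup G}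
    (hp : PPair M K)
    (hNbr : ∀ X J : Subgroup G, X ≤ K → (Nat.card X).Prime → IsCoatom J → normalizer (X : Set G) ≤ J →
      ∃ KJ : Subgroup G, Nbr M K J KJ ∧ X ≤ Ks J KJ)
    (hU : ∀ X X' J J' : Subgroup G, X ≤ K → (Nat.card X).Prime → X' ≤ K → (Nat.card X').Prime →
      IsCoatom J → normalizer (X : Set G) ≤ J → IsCoatom J' → normalizer (X' : Set G) ≤ J' → J = J') :
    ∃ Mstar : Subgroup G, IsCoatom Mstar ∧
      K = sigmaCore Mstar ⊓ centralizer ((Ks M K : Subgroup G) : Set G) ∧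
      IsPiHallOf (kappa Mstar) (Ks M K) Mstar ∧ M ⊓ Mstar = K ⊔ Ks M K := by
  have hKM : K ≤ M := hp.hall.1
  have hMtop : M ≠ ⊤ := hp.coatom.1
  -- homes exist
  have hhome : ∀ X : Subgroup G, X ≤ K → (Nat.card X).Prime →
      ∃ J : Subgroup G, IsCoatom J ∧ normalizer (X : Set G) ≤ J := by
    intro X hXK hXc
    have hX1 : X ≠ ⊥ := by
      intro h
      rw [h, Subgroup.card_bot] at hXc
      exact Nat.not_prime_one hXc
    have hXtop : X ≠ ⊤ := by
      intro h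
      apply hMtop
      rw [eq_top_iff, ← h]
      exact hXK.trans hKM
    exact Cfsg.Agent.Lib.Helper12.CNMaxSub.exists_coatom_normalizer_le hG hX1 hXtop
  -- a first subgroup of prime order
  have hK1 : Nat.card K ≠ 1 := fun h => hp.ne (Subgroup.card_eq_one.mp h)
  obtain ⟨p0, hp0, hp0d⟩ := Nat.exists_prime_and_dvd hK1
  obtain ⟨X0, hX0K, hX0c⟩ := exists_sub_card_eq hp0 hp0d
  have hX0p : (Nat.card X0).Prime := hX0c ▸ hp0
  obtain ⟨J, hJ, hNJ⟩ := hhome X0 hX0K hX0p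
  obtain ⟨KJ, nbr, hX0J⟩ := hNbr X0 J hX0K hX0p hJ hNJ
  -- `K ≤ J`
  have hKJle : K ≤ J := by
    have h1 : K ≤ M ⊓ J := by
      rw [nbr.inter]
      exact le_sup_left
    exact h1.trans inf_le_right
  -- every prime of `|K|` is in `σ(J)`
  have hKσ : ∀ r : ℕ, r.Prime → r ∣ Nat.card K → r ∈ sigma J := by
    intro r hr hrd
    obtain ⟨X, hXK, hXc⟩ := exists_sub_card_eq hr hrd
    have hXp : (Nat.card X).Prime := hXc ▸ hr
    obtain ⟨J', hJ', hNJ'⟩ := hhome X hXK hXp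
    have hJJ : J' = J := hU X X0 J' J hXK hXp hX0K hX0p hJ' hNJ' hJ hNJ
    subst hJJ
    obtain ⟨KJ', nbr', hXJ'⟩ := hNbr X J' hXK hXp hJ' hNJ'
    have hXσ : X ≤ sigmaCore J' := hXJ'.trans inf_le_left
    have hdvd : r ∣ Nat.card (sigmaCore J') := by
      rw [← hXc]
      exact Subgroup.card_dvd_of_le hXσ
    exact Cfsg.Agent.Lib.Helper71.BG11.sigmaCore_pi hG hJ' hr hdvd
  -- `K ≤ J_σ`
  have hKσle : K ≤ sigmaCore J :=
    Cfsg.Agent.Lib.Helper71.BG10.le_of_isPiHallOf_normal (Cfsg.Agent.S1350.result hG J hJ).1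
      (Cfsg.Agent.Lib.Helper71.BG11.le_normalizer_sigmaCore J) hKJle hKσ
  -- `Ks J KJ = K`
  have hKsJ : Ks J KJ = K := by
    rw [nbr.ksJ]
    exact inf_eq_left.mpr hKσle
  -- `KJ = K*`
  have hcopJ : (Nat.card KJ).Coprime (Nat.card K) := by
    have := Cfsg.Agent.Lib.Helper77.BG147.coprime_card_Ks hG hJ nbr.pj.hall
    rwa [hKsJ] at this
  have hcopM : (Nat.card K).Coprime (Nat.card (Ks M K)) :=
    Cfsg.Agent.Lib.Helper77.BG147.coprime_card_Ks hG hp.coatom hp.hall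
  have hc1 : K ≤ centralizer (KJ : Set G) := by
    have h1 : Ks J KJ ≤ centralizer (KJ : Set G) := inf_le_right
    rwa [hKsJ] at h1
  have hcard1 : Nat.card ↥(KJ ⊔ K) = Nat.card KJ * Nat.card K :=
    Cfsg.Agent.Lib.Helper28.BG147.card_sup_of_commute hc1 (Subgroup.disjoint_of_coprime_natCard hcopJ).eq_bot
  have hcard2 : Nat.card ↥(K ⊔ Ks M K) = Nat.card K * Nat.card (Ks M K) :=
    Cfsg.Agent.Lib.Helper28.BG147.card_sup_of_commute (inf_le_right : Ks M K ≤ centralizer (K : Set G))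
      (Subgroup.disjoint_of_coprime_natCard hcopM).eq_bot
  have hzeq : KJ ⊔ K = K ⊔ Ks M K := by
    have := nbr.zeq
    rwa [hKsJ] at this
  have hcardeq : Nat.card KJ = Nat.card (Ks M K) := by
    have h1 : Nat.card KJ * Nat.card K = Nat.card K * Nat.card (Ks M K) := by
      rw [← hcard1, ← hcard2, hzeq]
    have hpos : 0 < Nat.card K := Nat.card_pos
    rw [mul_comm] at h1
    exact Nat.eq_of_mul_eq_mul_left hpos h1
  have hKJeq : Ks M K = KJ :=
    Subgroup.eq_of_le_of_card_ge nbr.ks_le (le_of_eq hcardeq)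
  refine ⟨J, hJ, ?_, ?_, nbr.inter⟩
  · rw [hKJeq]
    exact hKsJ.symm
  · rw [hKJeq]
    exact nbr.pj.hall

end Cfsg.Agent.Lib.Helper65.BG1366
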