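import Mathlib
import Cfsg.Agent.Lib.Helper71.BG1366Defs
import Cfsg.Agent.Lib.Helper15.BG142Defs
import Cfsg.Agent.Lib.Helper55.Basic
import Cfsg.Agent.Lib.Helper55.Uniq2
import Cfsg.Agent.Lib.Helper71.BG11a
import Cfsg.Agent.Lib.Helper28.BG147H
import Cfsg.Agent.Lib.Helper77.BG147N
import Cfsg.Agent.Lib.Helper31.FittingHall
import Cfsg.Agent.Lib.Helper13.BG12B
import Cfsg.Agent.Lib.Helper54.BG134A3a
import Cfsg.Agent.Lib.Helper57.BG142D4
import Cfsg.Agent.Lib.Helper64.BG14K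
import Cfsg.Agent.Lib.Helper31.BG12a
import Cfsg.Agent.Lib.Helper65.BG1366K
import Cfsg.Agent.S1350
import Cfsg.Agent.S1415
import Cfsg.Agent.S1429

set_option autoImplicit false
set_option linter.unusedSimpArgs false
set_option linter.unusedSectionVars false
set_option linter.unusedVariables false
set_option linter.style.haveILetI false
set_option maxHeartbeats 1000000

/-!
# K-1366-L (136613): `K` and `K*` are abelian (BG 14.7, pack K-1366, architect helper71)
-/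

namespace Cfsg.Agent.Lib.Helper65.BG1366

open Cfsg Subgroup Cfsg.Agent.Lib.Helper55 Cfsg.Agent.Lib.Helper11.BG14D Cfsg.Agent.Lib.Helper11.BG144
  Cfsg.Agent.Lib.Helper31.BG147 Cfsg.Agent.Lib.Helper71.BG1366

variable {G : Type*} [Group G] [Finite G]

/-- a nilpotent `κ(M)`-subgroup of `M` is cyclic -/
theorem isCyclic_of_nilpotent_kappa {M J Y : Subgroup G} (hJ : IsCoatom J) (hYJ : Y ≤ J)
    (hκ : ∀ p : ℕ, p.Prime → p ∣ Nat.card Y → p ∈ kappa J) (hnil : Group.IsNilpotent ↥Y) :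
    IsCyclic Y := by
  have hZ : IsZGroup ↥Y := by
    refine ⟨fun p hp P => ?_⟩
    haveI : Fact p.Prime := ⟨hp⟩
    by_cases hpK : p ∣ Nat.card Y
    · exact (Cfsg.Agent.Lib.Helper57.BG142.kappa_facts hJ (hκ p hp hpK)).2.2 Y hYJ P
    · have h1 : Nat.card ↥(P : Subgroup ↥Y) = 1 := by
        obtain ⟨k, hk⟩ := IsPGroup.iff_card.mp P.2
        have hdvd : Nat.card ↥(P : Subgroup ↥Y) ∣ Nat.card ↥Y := Subgroup.card_subgroup_dvd_card _
        rcases Nat.eq_zero_or_pos k with h0 | h0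
        · rw [hk, h0, pow_zero]
        · exfalso
          apply hpK
          refine dvd_trans ?_ hdvd
          rw [hk]
          exact dvd_pow_self p (by omega)
      haveI : Subsingleton ↥(P : Subgroup ↥Y) := (Nat.card_eq_one_iff_unique.mp h1).1
      exact isCyclic_of_subsingleton
  haveI := hZ
  haveI := hnil
  infer_instance

/-- elements of a cyclic subgroup commute -/
theorem comm_of_isCyclic {Y : Subgroup G} (h : IsCyclic Y) : ∀ a ∈ Y, ∀ b ∈ Y, a * b = b * a := by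
  intro a ha b hb
  obtain ⟨g, hg⟩ := IsCyclic.exists_generator (α := Y)
  obtain ⟨m, hm⟩ := hg ⟨a, ha⟩
  obtain ⟨n, hn⟩ := hg ⟨b, hb⟩
  have h1 : (⟨a, ha⟩ : Y) * ⟨b, hb⟩ = ⟨b, hb⟩ * ⟨a, ha⟩ := by
    rw [← hm, ← hn]
    simp only [← zpow_add, add_comm]
  exact congrArg Subtype.val h1

/-- (a): a nonabelian Hall `κ(J)`-subgroup forces type `P₁` -/
theorem isP1_of_hall_not_comm (hG : IsMinSimpleOddOrder G) (hD : Cfsg.Agent.Lib.Helper15.BG142.HD G)
    {J KJ : Subgroup G} (hJ : IsCoatom J) (hKJ : IsPiHallOf (kappa J) KJ J)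
    (hnc : ¬ ∀ a ∈ KJ, ∀ b ∈ KJ, a * b = b * a) : IsP1 J := by
  have hHall := (Cfsg.Agent.S1350.result hG J hJ).1
  obtain ⟨E, hE, hKE⟩ := Cfsg.Agent.Lib.Helper13.BG12.exists_complIn_ge hG hJ hHall hKJ.1
    (fun p hp hpd => (hKJ.2.1 p hp hpd).2.2.1)
  by_cases h1 : ∀ p : ℕ, p ∈ kappa J → p ∈ tau1 J
  · exfalso
    apply hnc
    have hEJ : E ≤ J := hE.1
    have hEtop : E ≠ ⊤ := by
      intro h
      apply hJ.1
      rw [eq_top_iff, ← h]
      exact hEJ
    have hsolv : Group.IsSolvable ↥E := Cfsg.Agent.Lib.Helper55.ms_solvable hG hEtop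
    obtain ⟨E1, hE1, hKE1⟩ := Cfsg.Agent.Lib.Helper54.BG134.exists_isPiHallOf_ge hsolv (tau1 J) hKE
      (fun p hp hpd => h1 p (hKJ.2.1 p hp hpd))
    have hcyc : IsCyclic E1 := (Cfsg.Agent.S1415.result hG J hJ E hE).2.1 E1 hE1
    intro a ha b hb
    exact comm_of_isCyclic hcyc a (hKE1 ha) b (hKE1 hb)
  · have hd := (hD J E hJ hE h1).1
    intro q hq hqd
    have hcard := Cfsg.Agent.Lib.Helper31.IsComplIn.card_mul hE
    rw [← hcard] at hqd
    rcases (Nat.Prime.dvd_mul hq).mp hqd with h | h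
    · exact Or.inr (hd q hq h)
    · exact Or.inl (Cfsg.Agent.Lib.Helper71.BG11.sigmaCore_pi hG hJ hq h)

/-- (b): a nonabelian subgroup of `J_σ` with cyclic Sylow subgroups forces type `P₁` -/
theorem isP1_of_sub_sigmaCore_not_comm (hG : IsMinSimpleOddOrder G) {J L Y : Subgroup G}
    (hJ : IsCoatom J) (hL : IsCoatom L) (hYσ : Y ≤ sigmaCore J) (hYL : Y ≤ L)
    (hκ : ∀ p : ℕ, p.Prime → p ∣ Nat.card Y → p ∈ kappa L)
    (hnc : ¬ ∀ a ∈ Y, ∀ b ∈ Y, a * b = b * a) : IsP1 J := by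
  by_contra hP1
  unfold IsP1 at hP1
  push Not at hP1
  obtain ⟨q, hq, hqd, hqσ, hqκ⟩ := hP1
  haveI : Fact q.Prime := ⟨hq⟩
  have hP1' : ¬ (∀ r : ℕ, r.Prime → r ∣ Nat.card J → r ∉ sigma J → r ∈ kappa J) := by
    intro h
    exact hqκ (h q hq hqd hqσ)
  have hqn : q ∉ sigma J ∪ kappa J := by
    intro h
    rcases h with h | h
    · exact hqσ h
    · exact hqκ h
  have hnil : Group.IsNilpotent ↥(sigmaCore J) :=
    (Cfsg.Agent.S1429.result hG J hJ hP1' q hqd hqn default).2.2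
  have hnilY : Group.IsNilpotent ↥Y := by
    haveI := hnil
    have : Group.IsNilpotent ↥(Y.subgroupOf (sigmaCore J)) := inferInstance
    exact Group.nilpotent_of_mulEquiv (Subgroup.subgroupOfEquivOfLe hYσ)
  exact hnc (comm_of_isCyclic (isCyclic_of_nilpotent_kappa (M := J) hL hYL hκ hnilY))

/-- KEYSTONE 136613  K-1366-L -/
theorem partner_abelian (hG : IsMinSimpleOddOrder G) (h30 : H1430 G) (h31 : H1431 G)
    (hD : Cfsg.Agent.Lib.Helper15.BG142.HD G) {M K Mstar : Subgroup G} (hp : PPair M K) (hMstar : IsCoatom Mstar)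
    (hKst : K = sigmaCore Mstar ⊓ centralizer ((Ks M K : Subgroup G) : Set G))
    (hKstH : IsPiHallOf (kappa Mstar) (Ks M K) Mstar)
    (hFalse : ∀ (Z : Subgroup G) (F : Set (Subgroup G × Subgroup G)), PFam Z F →
      (∃ p ∈ F, ∃ q ∈ F, p ≠ q) → False) :
    (∀ a ∈ K, ∀ b ∈ K, a * b = b * a) ∧ (∀ a ∈ Ks M K, ∀ b ∈ Ks M K, a * b = b * a) := by
  have hM : IsCoatom M := hp.coatom
  have hK : IsPiHallOf (kappa M) K M := hp.hall
  have hKM : K ≤ M := hK.1
  -- a prime of `|K|` and an element of that order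
  have hK1 : Nat.card K ≠ 1 := fun h => hp.ne (Subgroup.card_eq_one.mp h)
  obtain ⟨p0, hp0, hp0d⟩ := Nat.exists_prime_and_dvd hK1
  haveI : Fact p0.Prime := ⟨hp0⟩
  obtain ⟨k, hk⟩ := exists_prime_orderOf_dvd_card' p0 hp0d
  have hk1 : (k : G) ≠ 1 := by
    intro h
    have h2 : k = 1 := Subtype.ext h
    rw [h2, orderOf_one] at hk
    exact hp0.one_lt.ne hk
  have hp0κ : p0 ∈ kappa M := hK.2.1 p0 hp0 hp0d
  have hXc : Nat.card (Subgroup.zpowers (k : G)) = p0 := by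
    rw [Nat.card_zpowers, Subgroup.orderOf_coe, hk]
  have hXM : Subgroup.zpowers (k : G) ≤ M := by
    rw [Subgroup.zpowers_le]
    exact hKM k.2
  -- `K* ≠ ⊥`
  have hKs1 : Ks M K ≠ ⊥ := by
    have h1 := Cfsg.Agent.Lib.Helper64.BG14.cent_ne_bot_of_mem_kappa hG hM hp0κ hXM hXc
    have h2 := (h30 M hM K hK hp.ne).1 (k : G) k.2 hk1
    intro hbot
    apply h1
    rw [eq_bot_iff]
    have h3 : sigmaCore M ⊓ centralizer ((Subgroup.zpowers (k : G) : Subgroup G) : Set G) ≤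
        sigmaCore M ⊓ centralizer ({(k : G)} : Set G) := by
      apply inf_le_inf_left
      apply Subgroup.centralizer_le
      intro x hx
      rw [Set.mem_singleton_iff] at hx
      rw [hx]
      exact Subgroup.mem_zpowers (k : G)
    rw [h2] at h3
    exact h3.trans (le_of_eq hbot)
  have hps : PPair Mstar (Ks M K) := ⟨hMstar, hKstH, hKs1⟩
  have hKsEq : Ks Mstar (Ks M K) = K := hKst.symm
  have hKσ : K ≤ sigmaCore Mstar := by
    rw [hKst]
    exact inf_le_left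
  -- `M` and `Mstar` are not conjugate
  have hp0σs : p0 ∈ sigma Mstar := by
    apply Cfsg.Agent.Lib.Helper71.BG11.sigmaCore_pi hG hMstar hp0
    exact dvd_trans hp0d (Subgroup.card_dvd_of_le hKσ)
  have hp0σ : p0 ∉ sigma M := hp0κ.2.2.1
  have hnc1 : ∀ g : G, Mstar ≠ Cfsg.Agent.Lib.Helper55.cj g M := by
    intro g h
    apply hp0σ
    have h1 : p0 ∈ sigma (Cfsg.Agent.Lib.Helper55.cj g⁻¹ Mstar) := Cfsg.Agent.Lib.Helper31.BG12.mem_sigma_cj hp0σs g⁻¹
    rwa [h, cj_inv_cj] at h1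
  have hnc2 : ∀ g : G, M ≠ Cfsg.Agent.Lib.Helper55.cj g Mstar := by
    intro g h
    apply hp0σ
    rw [h]
    exact Cfsg.Agent.Lib.Helper31.BG12.mem_sigma_cj hp0σs g
  by_contra hcon
  have hboth : IsP1 M ∧ IsP1 Mstar := by
    by_cases hA : ∀ a ∈ K, ∀ b ∈ K, a * b = b * a
    · have hB : ¬ ∀ a ∈ Ks M K, ∀ b ∈ Ks M K, a * b = b * a := fun hB => hcon ⟨hA, hB⟩
      exact ⟨isP1_of_sub_sigmaCore_not_comm hG hM hMstar inf_le_left hKstH.1 hKstH.2.1 hB,
        isP1_of_hall_not_comm hG hD hMstar hKstH hB⟩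
    · exact ⟨isP1_of_hall_not_comm hG hD hM hK hA,
        isP1_of_sub_sigmaCore_not_comm hG hMstar hM hKσ hKM hK.2.1 hA⟩
  obtain ⟨hP1M, hP1Ms⟩ := hboth
  have hcop : (Nat.card K).Coprime (Nat.card (Ks M K)) :=
    Cfsg.Agent.Lib.Helper77.BG147.coprime_card_Ks hG hM hK
  have hcardZ : Nat.card ↥(K ⊔ Ks M K) = Nat.card K * Nat.card (Ks M K) :=
    Cfsg.Agent.Lib.Helper28.BG147.card_sup_of_commute (inf_le_right : Ks M K ≤ centralizer (K : Set G))
      (Subgroup.disjoint_of_coprime_natCard hcop).eq_bot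
  have hne : ((M, K) : Subgroup G × Subgroup G) ≠ (Mstar, Ks M K) := by
    intro h
    have h1 : M = Mstar := congrArg Prod.fst h
    apply hnc1 1
    rw [cj_one]
    exact h1.symm
  have pfam : PFam (K ⊔ Ks M K) ({(M, K), (Mstar, Ks M K)} : Set (Subgroup G × Subgroup G)) := by
    refine ⟨?_, ?_, ?_⟩
    · intro x hx
      rcases hx with hx | hx
      · rw [hx]
        exact ⟨hp, rfl, hP1M⟩
      · rw [Set.mem_singleton_iff] at hx
        rw [hx]
        refine ⟨hps, ?_, hP1Ms⟩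
        show Ks M K ⊔ Ks Mstar (Ks M K) = K ⊔ Ks M K
        rw [hKsEq]
        exact sup_comm _ _
    · intro x hx y hy hxy g
      rcases hx with hx | hx <;> rcases hy with hy | hy
      · exact absurd (hx.trans hy.symm) hxy
      · rw [Set.mem_singleton_iff] at hy
        rw [hx, hy]
        exact hnc1 g
      · rw [Set.mem_singleton_iff] at hx
        rw [hx, hy]
        exact hnc2 g
      · rw [Set.mem_singleton_iff] at hx hy
        exact absurd (hx.trans hy.symm) hxy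
    · intro r hr hrd
      rw [hcardZ] at hrd
      rcases (Nat.Prime.dvd_mul hr).mp hrd with h | h
      · refine ⟨(Mstar, Ks M K), Or.inr rfl, ?_⟩
        show r ∣ Nat.card (Ks Mstar (Ks M K))
        rw [hKsEq]
        exact h
      · exact ⟨(M, K), Or.inl rfl, h⟩
  exact hFalse _ _ pfam ⟨(M, K), Or.inl rfl, (Mstar, Ks M K), Or.inr rfl, hne⟩

end Cfsg.Agent.Lib.Helper65.BG1366
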