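import Mathlib
import Cfsg.Prelude.Def_Blocks
import Cfsg.Agent.Lib.Helper70.IPDefs

/-!
# K-IP (S4463) leaf 446304 IP-MONO
-/

set_option autoImplicit false

namespace Cfsg.Agent.Lib.Helper65.IP

open Cfsg Cfsg.Agent.Lib.Helper70.IP

universe u

/-- 446304 IP-MONO. -/
theorem monoQ_of_maxNonab {G : Type u} [Group G] (K : Subgroup G) [hK : K.Normal]
    (hmax : MaxNonab K) : MonoQ (G ⧸ K) := by
  intro N hN hN1
  obtain ⟨_, _, hmx⟩ := hmax
  set f : G →* G ⧸ K := QuotientGroup.mk' K with hf
  have hsurj : Function.Surjective f := QuotientGroup.mk'_surjective K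
  have hK'n : (N.comap f).Normal := hN.comap f
  have hle : K ≤ N.comap f := by
    intro k hk
    rw [Subgroup.mem_comap]
    have : f k = 1 := (QuotientGroup.eq_one_iff k).mpr hk
    rw [this]
    exact N.one_mem
  have hlt : K < N.comap f := by
    refine lt_of_le_of_ne hle ?_
    intro heq
    apply hN1
    rw [eq_bot_iff]
    intro n hn
    obtain ⟨g, rfl⟩ := hsurj n
    have hg : g ∈ N.comap f := hn
    rw [← heq] at hg
    rw [Subgroup.mem_bot]
    exact (QuotientGroup.eq_one_iff g).mpr hg
  have hc : commutator G ≤ N.comap f := hmx _ hK'n hlt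
  have hmap : commutator (G ⧸ K) = (commutator G).map f := by
    rw [commutator_def, commutator_def, Subgroup.map_commutator,
      ← MonoidHom.range_eq_map, MonoidHom.range_eq_top.mpr hsurj]
  rw [hmap]
  calc (commutator G).map f ≤ (N.comap f).map f := Subgroup.map_mono hc
    _ ≤ N := Subgroup.map_comap_le f N

end Cfsg.Agent.Lib.Helper65.IP
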