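import Cfsg.Agent.Lib.Helper73.UNdDefs

/-!
# K-UNd-BA1 (keystone 595401, architect helper73): orthogonality and complements for a hermitian
form `h` (`HForm q h`, `|F| = q ^ 2`).
-/

set_option autoImplicit false

namespace Cfsg.Agent.Lib.Helper65.UNd

open Module Cfsg.Agent.Lib.Helper99.HermONB Cfsg.Agent.Lib.Helper98.Elus Cfsg.Agent.Lib.Helper73.UNd

universe u
variable {F : Type u} [Field F] {V : Type u} [AddCommGroup V] [Module F V]
variable {q : ℕ} {h : V → V → F}

theorem eq_zero_symm [Fintype F] (hF : Fintype.card F = q ^ 2) (hh : HForm q h) {u v : V}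
    (h0 : h u v = 0) : h v u = 0 := by
  rw [hh.conj u v, h0, zero_pow (Cfsg.Agent.Lib.Helper19.q_pos hF).ne']

theorem ort_symm [Fintype F] (hF : Fintype.card F = q ^ 2) (hh : HForm q h) {W W' : Submodule F V}
    (hO : Ort h W W') : Ort h W' W :=
  fun u hu v hv => eq_zero_symm hF hh (hO v hv u hu)

theorem nd_iff_disjoint (hh : HForm q h) (W : Submodule F V) :
    ND h W ↔ Disjoint W (perp hh W) := by
  rw [Submodule.disjoint_def]
  constructor
  · intro hW u hu hu'
    exact hW u hu ((mem_perp hh W u).1 hu')
  · intro hW u hu hu'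
    exact hW u hu ((mem_perp hh W u).2 hu')

theorem ort_iff_le_perp [Fintype F] (hF : Fintype.card F = q ^ 2) (hh : HForm q h)
    (W W' : Submodule F V) : Ort h W W' ↔ W' ≤ perp hh W := by
  constructor
  · intro hO v hv
    rw [mem_perp]
    intro w hw
    exact eq_zero_symm hF hh (hO w hw v hv)
  · intro hle u hu v hv
    exact eq_zero_symm hF hh ((mem_perp hh W v).1 (hle hv) u hu)

/-- the restriction of a hermitian form to a nondegenerate subspace is a hermitian form -/
theorem hform_restrict' (hh : HForm q h) (W : Submodule F V) (hW : ND h W) :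
    HForm q (fun a b : W => h (a : V) (b : V)) := by
  refine ⟨?_, ?_, ?_, ?_⟩
  · intro x x' y
    exact hh.add_left _ _ _
  · intro c x y
    exact hh.smul_left _ _ _
  · intro x y
    exact hh.conj _ _
  · intro x hx
    apply Subtype.ext
    apply hW x.1 x.2
    intro v hv
    exact hx ⟨v, hv⟩

/-- `dim W + dim W^⊥ = dim V` (counting: `v ↦ h(·, v)|_W` is an additive surjection onto the dual of `W`
with kernel `W^⊥`). -/
theorem finrank_add_perp [Fintype F] [FiniteDimensional F V] (hF : Fintype.card F = q ^ 2)
    (hh : HForm q h) (W : Submodule F V) :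
    finrank F W + finrank F (perp hh W) = finrank F V := by
  classical
  haveI : Finite V := Module.finite_of_finite F
  -- the additive maps `v ↦ h(·, v)`
  let TV : V →+ (V →ₗ[F] F) :=
    { toFun := fun v =>
        { toFun := fun w => h w v
          map_add' := fun a b => hh.add_left _ _ _
          map_smul' := fun c a => by
            simp only [RingHom.id_apply, smul_eq_mul]
            exact hh.smul_left _ _ _ }
      map_zero' := by
        apply LinearMap.ext
        intro w
        exact hh.zero_right hF _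
      map_add' := fun v v' => by
        apply LinearMap.ext
        intro w
        exact hh.add_right hF _ _ _ }
  have hTV : ∀ v w, TV v w = h w v := fun v w => rfl
  let T : V →+ (W →ₗ[F] F) :=
    { toFun := fun v => (TV v).comp W.subtype
      map_zero' := by rw [map_zero]; rfl
      map_add' := fun v v' => by rw [map_add]; rfl }
  have hT : ∀ v (w : W), T v w = h (w : V) v := fun v w => rfl
  -- `TV` is injective, hence bijective
  have hTVinj : Function.Injective TV := by
    rw [injective_iff_map_eq_zero]
    intro v hv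
    apply hh.nondeg
    intro y
    apply eq_zero_symm hF hh
    have := congrArg (fun f : V →ₗ[F] F => f y) hv
    simpa [hTV] using this
  have hcardV : Nat.card (V →ₗ[F] F) = Nat.card V := by
    rw [Module.natCard_eq_pow_finrank (K := F) (V := V →ₗ[F] F),
      Module.natCard_eq_pow_finrank (K := F) (V := V)]
    congr 1
    exact Subspace.dual_finrank_eq
  haveI : Finite (V →ₗ[F] F) := Module.finite_of_finite F
  have hTVbij : Function.Bijective TV :=
    hTVinj.bijective_of_nat_card_le hcardV.le
  -- `T` is surjective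
  have hTsurj : Function.Surjective T := by
    intro f
    obtain ⟨f', hf'⟩ := LinearMap.exists_extend f
    obtain ⟨v, hv⟩ := hTVbij.2 f'
    refine ⟨v, ?_⟩
    apply LinearMap.ext
    intro w
    rw [hT, ← hTV, hv, ← hf']
    rfl
  -- the kernel of `T` is `W^⊥`
  have hker : ∀ v, v ∈ T.ker ↔ v ∈ perp hh W := by
    intro v
    rw [AddMonoidHom.mem_ker, mem_perp]
    constructor
    · intro hv w hw
      apply eq_zero_symm hF hh
      have := congrArg (fun f : W →ₗ[F] F => f ⟨w, hw⟩) hv
      simpa [hT] using this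
    · intro hv
      apply LinearMap.ext
      intro w
      rw [hT]
      exact eq_zero_symm hF hh (hv w.1 w.2)
  have hcardker : Nat.card T.ker = Nat.card (perp hh W) :=
    Nat.card_congr (Equiv.subtypeEquivRight hker)
  have hquot : Nat.card (V ⧸ T.ker) = Nat.card (W →ₗ[F] F) :=
    Nat.card_congr (QuotientAddGroup.quotientKerEquivOfSurjective T hTsurj).toEquiv
  have hcount := AddSubgroup.card_eq_card_quotient_mul_card_addSubgroup T.ker
  rw [hquot, hcardker, Module.natCard_eq_pow_finrank (K := F) (V := V),
    Module.natCard_eq_pow_finrank (K := F) (V := W →ₗ[F] F),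
    Module.natCard_eq_pow_finrank (K := F) (V := perp hh W), ← pow_add] at hcount
  have hcard : 1 < Nat.card F := by
    rw [Nat.card_eq_fintype_card]
    exact Fintype.one_lt_card
  have h2 := Nat.pow_right_injective hcard hcount
  have h3 : finrank F (W →ₗ[F] F) = finrank F W := Subspace.dual_finrank_eq
  rw [h3] at h2
  exact h2.symm

theorem isCompl_perp [Fintype F] [FiniteDimensional F V] (hF : Fintype.card F = q ^ 2)
    (hh : HForm q h) (W : Submodule F V) (hW : ND h W) : IsCompl W (perp hh W) := by
  have hd := (nd_iff_disjoint hh W).1 hW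
  refine ⟨hd, ?_⟩
  rw [codisjoint_iff]
  apply Submodule.eq_top_of_finrank_eq
  have h1 := Submodule.finrank_sup_add_finrank_inf_eq W (perp hh W)
  rw [hd.eq_bot, finrank_bot, add_zero, finrank_add_perp hF hh W] at h1
  exact h1

theorem finrank_perp_inf [Fintype F] [FiniteDimensional F V] (hF : Fintype.card F = q ^ 2)
    (hh : HForm q h) (M U : Submodule F V) (hMU : M ≤ U) (hU : ND h U) :
    finrank F ↥(perp hh M ⊓ U) + finrank F M = finrank F U := by
  have hh' := hform_restrict' hh U hU
  have h1 := finrank_add_perp hF hh' (M.comap U.subtype)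
  have h2 : finrank F ↥(M.comap U.subtype) = finrank F M :=
    (Submodule.comapSubtypeEquivOfLe hMU).finrank_eq
  have h3 : perp hh' (M.comap U.subtype) = (perp hh M ⊓ U).comap U.subtype := by
    ext a
    rw [mem_perp, Submodule.mem_comap, Submodule.mem_inf, mem_perp]
    constructor
    · intro ha
      refine ⟨fun w hw => ?_, a.2⟩
      exact ha ⟨w, hMU hw⟩ (by rw [Submodule.mem_comap]; exact hw)
    · intro ha b hb
      exact ha.1 b.1 (by rw [Submodule.mem_comap] at hb; exact hb)
  have h4 : finrank F ↥((perp hh M ⊓ U).comap U.subtype) = finrank F ↥(perp hh M ⊓ U) :=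
    (Submodule.comapSubtypeEquivOfLe (inf_le_right : perp hh M ⊓ U ≤ U)).finrank_eq
  rw [h2, h3, h4] at h1
  omega

theorem compl_props [Fintype F] [FiniteDimensional F V] (hF : Fintype.card F = q ^ 2)
    (hh : HForm q h) (W' W : Submodule F V) (hW' : ND h W') (hle : W' ≤ W) (hW : ND h W) :
    W' ⊔ (perp hh W' ⊓ W) = W ∧ W' ⊓ (perp hh W' ⊓ W) = ⊥ ∧ ND h (perp hh W' ⊓ W) ∧
      finrank F W' + finrank F ↥(perp hh W' ⊓ W) = finrank F W := by
  have hc := isCompl_perp hF hh W' hW'
  have h1 : W' ⊔ (perp hh W' ⊓ W) = W := by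
    rw [← sup_inf_assoc_of_le _ hle, hc.sup_eq_top, top_inf_eq]
  have h2 : W' ⊓ (perp hh W' ⊓ W) = ⊥ := by
    rw [eq_bot_iff, ← hc.inf_eq_bot]
    exact inf_le_inf le_rfl inf_le_left
  refine ⟨h1, h2, ?_, ?_⟩
  · intro u hu hu'
    obtain ⟨hu1, hu2⟩ := Submodule.mem_inf.mp hu
    apply hW u hu2
    intro w hw
    rw [← h1] at hw
    obtain ⟨a, ha, b, hb, rfl⟩ := Submodule.mem_sup.mp hw
    rw [hh.add_right hF, hu' b hb, add_zero]
    exact (mem_perp hh W' u).1 hu1 a ha
  · have h := Submodule.finrank_sup_add_finrank_inf_eq W' (perp hh W' ⊓ W)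
    rw [h1, h2, finrank_bot] at h
    omega

theorem nd_sup [Fintype F] (hF : Fintype.card F = q ^ 2) (hh : HForm q h) (W1 W2 : Submodule F V)
    (h1 : ND h W1) (h2 : ND h W2) (h12 : Ort h W1 W2) : ND h (W1 ⊔ W2) ∧ W1 ⊓ W2 = ⊥ := by
  constructor
  · intro u hu hu'
    obtain ⟨a, ha, b, hb, rfl⟩ := Submodule.mem_sup.mp hu
    have ha0 : a = 0 := by
      apply h1 a ha
      intro x hx
      have := hu' x (Submodule.mem_sup_left hx)
      rw [hh.add_left, eq_zero_symm hF hh (h12 x hx b hb), add_zero] at this
      exact this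
    have hb0 : b = 0 := by
      apply h2 b hb
      intro x hx
      have := hu' x (Submodule.mem_sup_right hx)
      rw [hh.add_left, h12 a ha x hx, zero_add] at this
      exact this
    rw [ha0, hb0, add_zero]
  · rw [eq_bot_iff]
    intro u hu
    obtain ⟨hu1, hu2⟩ := Submodule.mem_inf.mp hu
    rw [Submodule.mem_bot]
    apply h1 u hu1
    intro v hv
    exact eq_zero_symm hF hh (h12 v hv u hu2)

theorem finrank_sup_of_ort [Fintype F] [FiniteDimensional F V] (hF : Fintype.card F = q ^ 2)
    (hh : HForm q h) (W1 W2 : Submodule F V) (h1 : ND h W1) (h2 : ND h W2) (h12 : Ort h W1 W2) :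
    finrank F ↥(W1 ⊔ W2) = finrank F W1 + finrank F W2 := by
  have h := Submodule.finrank_sup_add_finrank_inf_eq W1 W2
  rw [(nd_sup hF hh W1 W2 h1 h2 h12).2, finrank_bot] at h
  omega

theorem nd_bot (hh : HForm q h) : ND h (⊥ : Submodule F V) := by
  intro u hu _
  exact (Submodule.mem_bot F).1 hu

theorem nd_top (hh : HForm q h) : ND h (⊤ : Submodule F V) := by
  intro u _ hu'
  exact hh.nondeg u (fun y => hu' y Submodule.mem_top)

end Cfsg.Agent.Lib.Helper65.UNd
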