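import Mathlib
import Cfsg.Prelude.Def_Transfer

/-!
# K-BQ (S3911), leaf 391102 L2 (helper65, parallel hand): a minimal supplement is nilpotent
-/

set_option autoImplicit false
open Cfsg

namespace Cfsg.Agent.Lib.Helper65.BQ

/-- LEAF L2. `A0 ⊓ M` lies in every maximal subgroup of `A0`; commutators of `A0` lie in `A0 ⊓ M`,
so every maximal subgroup of `A0` is normal. -/
theorem nilpotent_of_min_supplement {G : Type*} [Group G] [Finite G] (M H A0 : Subgroup G)
    [M.Normal] (hsup : A0 ⊔ M = H) (hmin : ∀ X : Subgroup G, X ≤ A0 → X ⊔ M = H → X = A0)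
    (hab : ∀ x ∈ H, ∀ y ∈ H, x * y * x⁻¹ * y⁻¹ ∈ M) : Group.IsNilpotent ↥A0 := by
  have htfae := Group.isNilpotent_of_finite_tfae (G := A0)
  have h20 := htfae.out 2 0
  apply h20.mp
  intro X hX
  have hA0H : A0 ≤ H := hsup ▸ le_sup_left
  have hMH : M ≤ H := hsup ▸ le_sup_right
  have hD : M.subgroupOf A0 ≤ X := by
    by_contra hnot
    have htop : X ⊔ M.subgroupOf A0 = ⊤ := by
      have hlt : X < X ⊔ M.subgroupOf A0 := by
        apply lt_of_le_of_ne le_sup_left
        intro heq
        apply hnot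
        rw [heq]
        exact le_sup_right
      exact hX.2 _ hlt
    have hA0 : A0 = X.map A0.subtype ⊔ (M ⊓ A0) := by
      have h1 : A0 = (X ⊔ M.subgroupOf A0).map A0.subtype := by
        rw [htop, ← MonoidHom.range_eq_map, Subgroup.range_subtype]
      rw [Subgroup.map_sup, Subgroup.subgroupOf_map_subtype] at h1
      exact h1
    have h1 : X.map A0.subtype ⊔ M = H := by
      apply le_antisymm
      · exact sup_le ((Subgroup.map_subtype_le X).trans hA0H) hMH
      · rw [← hsup]
        refine sup_le ?_ le_sup_right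
        calc A0 = X.map A0.subtype ⊔ (M ⊓ A0) := hA0
          _ ≤ X.map A0.subtype ⊔ M := sup_le le_sup_left (inf_le_left.trans le_sup_right)
    have h2 : X.map A0.subtype = A0 := hmin _ (Subgroup.map_subtype_le X) h1
    have h3 : X = ⊤ := by
      apply Subgroup.map_injective A0.subtype_injective
      rw [h2, ← MonoidHom.range_eq_map, Subgroup.range_subtype]
    exact hX.1 h3
  constructor
  intro x hx a
  have hc : a * x * a⁻¹ * x⁻¹ ∈ M.subgroupOf A0 := by
    rw [Subgroup.mem_subgroupOf]
    have := hab (a : G) (hA0H a.2) (x : G) (hA0H x.2)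
    simpa using this
  have : a * x * a⁻¹ = (a * x * a⁻¹ * x⁻¹) * x := by group
  rw [this]
  exact X.mul_mem (hD hc) hx

end Cfsg.Agent.Lib.Helper65.BQ
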