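import Cfsg.Agent.Lib.Helper07.OrthTg
import Cfsg.Agent.Lib.Helper50.PlusInndiag
import Cfsg.Agent.Lib.Helper08.AutOmegaKer
import Cfsg.Agent.Lib.Helper08.OmegaStd
import Cfsg.Agent.S2725
import Cfsg.Agent.S0790

/-!
# Keystone K-S2717-V2 (`plus_relIndex`) for helper07's S2717 pack

The chain `Inn ≤ PSO ≤ Inndiag` for the plus-type form when `q ≡ 1 mod 4`, both indices `2`.
-/

set_option autoImplicit false

namespace Cfsg.Agent.Lib.Helper65.S2717K

open Module Matrix Cfsg.Agent.Lib.Helper43 Cfsg.Agent.Lib.Helper07.UG Cfsg.Agent.Lib.Helper08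
open Cfsg.Agent.Lib.Helper51.POAut Cfsg.Agent.Lib.Helper50 Cfsg.Agent.Lib.Helper07.OG

universe u

/-- the index of the kernel of a surjective homomorphism onto a group of order `n` -/
theorem index_ker_of_surjective {A B : Type*} [Group A] [Group B] (φ : A →* B)
    (hφ : Function.Surjective φ) : φ.ker.index = Nat.card B := by
  rw [Subgroup.index_ker, MonoidHom.range_eq_top.mpr hφ]
  exact Nat.card_congr Subgroup.topEquiv.toEquiv

/-- K-S2717-V2. -/
theorem plus_relIndex {F : Type u} [Field F] [Fintype F] (hodd : Odd (Fintype.card F))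
    (h4 : Fintype.card F % 4 = 1) {m : ℕ} (hm : 4 ≤ m) :
    Cfsg.Inn (Cfsg.POmega F (Cfsg.quadFormPlus m F)) ≤ Cfsg.psoAut F (Cfsg.quadFormPlus m F) ∧
    Cfsg.psoAut F (Cfsg.quadFormPlus m F) ≤ Cfsg.inndiagPOmegaPlus m F ∧
    (Cfsg.Inn (Cfsg.POmega F (Cfsg.quadFormPlus m F))).relIndex
      (Cfsg.psoAut F (Cfsg.quadFormPlus m F)) = 2 ∧
    (Cfsg.psoAut F (Cfsg.quadFormPlus m F)).relIndex (Cfsg.inndiagPOmegaPlus m F) = 2 := by
  classical
  have hm3 : 3 ≤ m := by omega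
  have hm1 : 1 ≤ m := by omega
  have h2 : (2 : F) ≠ 0 := two_ne_zero_of_odd_card rfl hodd
  have hQ : (QuadraticMap.polarBilin (qdataPlus (F := F) m).qf).Nondegenerate :=
    (qdataPlus (F := F) m).qf_nondeg
  have HT := hypTriple_plus (F := F) m hm3
  have hu : (qdataPlus (F := F) m).qf
      ((fun i : Fin 3 => (Pi.single (Sum.inl (Fin.castLE hm3 i)) 1 : Fin m ⊕ Fin m → F)) 0 +
        (fun i : Fin 3 => (Pi.single (Sum.inr (Fin.castLE hm3 i)) 1 : Fin m ⊕ Fin m → F)) 0) = 1 := by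
    rw [QuadraticMap.map_add (⇑(qdataPlus (F := F) m).qf), HT.qe 0, HT.qf 0, HT.ef]; simp
  have hE : Cfsg.inndiagPOmegaPlus m F = Esub (qdataPlus (F := F) m).qf hu m :=
    inndiagPlus_eq m h2 (qdataPlus (F := F) m).qf rfl hQ hu
  have hIP : Cfsg.Inn (Cfsg.POmega F (Cfsg.quadFormPlus m F)) ≤
      Cfsg.psoAut F (Cfsg.quadFormPlus m F) :=
    inn_le_psoAut (Q := (qdataPlus (F := F) m).qf)
  have hPD : Cfsg.psoAut F (Cfsg.quadFormPlus m F) ≤ Cfsg.inndiagPOmegaPlus m F := by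
    rw [hE]; exact psoAut_le_Esub hu m
  have hneg : ∃ g : ↥(Cfsg.isometryGroup F (Cfsg.quadFormPlus m F)),
      g ∈ Cfsg.Omega F (Cfsg.quadFormPlus m F) ∧
        ((g : GL (Fin m ⊕ Fin m) F) : Matrix (Fin m ⊕ Fin m) (Fin m ⊕ Fin m) F) = -1 :=
    (Cfsg.Agent.S0790.result (F := F) rfl hodd m hm1).mpr (pow_mod_four_of_mod_one h4 m)
  have heven : Even (Fintype.card (Fin m ⊕ Fin m)) := by
    rw [Fintype.card_sum, Fintype.card_fin]; exact ⟨m, rfl⟩
  have hrel1 : (Cfsg.Inn (Cfsg.POmega F (Cfsg.quadFormPlus m F))).relIndex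
      (Cfsg.psoAut F (Cfsg.quadFormPlus m F)) = 2 :=
    (relIndex_inn_psoAut (Q := (qdataPlus (F := F) m).qf) h2 hQ _ _ HT heven).1 hneg
  have hrel4 : (Cfsg.Inn (Cfsg.POmega F (Cfsg.quadFormPlus m F))).relIndex
      (Cfsg.inndiagPOmegaPlus m F) = 4 := by
    rcases Nat.even_or_odd m with hme | hmo
    · obtain ⟨φ, hφs, hφk⟩ := (Cfsg.Agent.S2725.result hodd hm).2.2 hme
      unfold Subgroup.relIndex
      rw [← hφk, index_ker_of_surjective φ hφs, Nat.card_eq_fintype_card]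
      simp
    · obtain ⟨φ, hφs, hφk⟩ := (Cfsg.Agent.S2725.result hodd hm).2.1 ⟨hmo, h4⟩
      unfold Subgroup.relIndex
      rw [← hφk, index_ker_of_surjective φ hφs, Nat.card_eq_fintype_card]
      simp [ZMod.card]
  refine ⟨hIP, hPD, hrel1, ?_⟩
  have hmul := Subgroup.relIndex_mul_relIndex _ _ _ hIP hPD
  rw [hrel1, hrel4] at hmul
  omega

end Cfsg.Agent.Lib.Helper65.S2717K
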