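import Mathlib
import Cfsg.Agent.S1432
import Cfsg.Agent.Lib.Helper16.BG1363Defs
import Cfsg.Agent.Lib.Helper55.Basic

/-!
# Keystone 143508 (K-1435-P15): BG 14.3 in `M*` for an element of prime order centralizing `K`.
-/

set_option autoImplicit false

namespace Cfsg.Agent.Lib.Helper65.BG1435

open Cfsg Subgroup Cfsg.Agent.Lib.Helper55 Cfsg.Agent.Lib.Helper11.BG14D
  Cfsg.Agent.Lib.Helper16.BG1363

variable {G : Type*} [Group G] [Finite G]

/-- KEYSTONE 143508  K-1435-P15 -/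
theorem star_cases (hG : IsMinSimpleOddOrder G) {M K Ms : Subgroup G} (pf : PF M K Ms)
    (hp : (Nat.card K).Prime) {t : ℕ} (ht : t.Prime) (x' : G) (hxt : orderOf x' = t)
    (hxK : x' ∈ centralizer (K : Set G)) :
    t ∈ sigma Ms ∨ t ∈ kappa Ms ∨ (t ∈ tau2 Ms ∧ centralizer ({x'} : Set G) ≤ Ms) := by
  classical
  by_cases hts : t ∈ sigma Ms
  · exact Or.inl hts
  right
  -- a nontrivial element of `K`
  have hK1 : K ≠ ⊥ := by
    intro h
    rw [h, Subgroup.card_bot] at hp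
    exact Nat.not_prime_one hp
  obtain ⟨k, hk, hk1⟩ := (Subgroup.ne_bot_iff_exists_ne_one).1 hK1 |>.imp (fun k hk => hk) |> fun ⟨k, hk⟩ =>
    (⟨(k : G), k.2, fun h => hk (Subtype.ext h)⟩ : ∃ k : G, k ∈ K ∧ k ≠ 1)
  have hkσ : k ∈ sigmaCore Ms := pf.hKMs hk
  have hx'Ms : x' ∈ Ms := pf.hCK hxK
  have hx'k : x' ∈ centralizer ({k} : Set G) := by
    rw [Subgroup.mem_centralizer_iff]
    intro z hz
    rw [Set.mem_singleton_iff] at hz
    rw [hz]
    exact (Subgroup.mem_centralizer_iff.1 hxK) k hk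
  have hx'1 : x' ≠ 1 := by
    intro h
    rw [h, orderOf_one] at hxt
    exact ht.one_lt.ne hxt
  have hσ : ∀ p : ℕ, p.Prime → p ∣ orderOf x' → p ∉ sigma Ms := by
    intro p hpp hpd
    rw [hxt] at hpd
    rw [(Nat.prime_dvd_prime_iff_eq hpp ht).1 hpd]
    exact hts
  rcases Cfsg.Agent.S1432.result hG Ms pf.hMs k hkσ hk1 x' ⟨hx'Ms, hx'k⟩ hx'1 hσ with h | h
  · left
    exact h.1 t ht (by rw [hxt])
  · right
    exact ⟨h.1 t ht (by rw [hxt]), h.2.2.1⟩

end Cfsg.Agent.Lib.Helper65.BG1435
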