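import Mathlib
import Cfsg.Prelude.Def_Transfer

/-!
# K-BQ (S3911), leaf 391101 L1 (helper65): a minimal supplement of `M` in `H` exists
-/

set_option autoImplicit false
open Cfsg

namespace Cfsg.Agent.Lib.Helper65.BQ

/-- LEAF L1. A minimal supplement: the set `{X | X ⊔ M = H}` contains `H` and is finite. -/
theorem exists_min_supplement {G : Type*} [Group G] [Finite G] (M H : Subgroup G) (hMH : M ≤ H) :
    ∃ A0 : Subgroup G, A0 ⊔ M = H ∧ ∀ X : Subgroup G, X ≤ A0 → X ⊔ M = H → X = A0 := by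
  have hne : ({X : Subgroup G | X ⊔ M = H} : Set (Subgroup G)).Nonempty :=
    ⟨H, sup_eq_left.mpr hMH⟩
  obtain ⟨A0, hA0, hmin⟩ := (wellFounded_lt (α := Subgroup G)).has_min _ hne
  refine ⟨A0, hA0, fun X hX hXs => ?_⟩
  exact eq_of_le_of_not_lt hX (hmin X hXs)

end Cfsg.Agent.Lib.Helper65.BQ
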