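import Cfsg.Agent.Lib.Helper98.Oh0
import Cfsg.Agent.Lib.Helper98.Sy6

/-!
# K-OPb-3 (keystone 598903, architect helper69): an isometry with `x * x = -1` has only even-dimensional
invariant nondegenerate subspaces.
-/

set_option autoImplicit false

namespace Cfsg.Agent.Lib.Helper65.OPb

open Module Cfsg.Agent.Lib.Helper98.Elus Cfsg.Agent.Lib.Helper98.Sy Cfsg.Agent.Lib.Helper98.Oh
open scoped Matrix

/-- a nondegenerate bilinear space with an isometry of square `-1` has even dimension -/
theorem even_finrank_of_isometry_sq {K : Type*} [Field K] {W : Type*} [AddCommGroup W] [Module K W]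
    [FiniteDimensional K W] (h2 : (2 : K) ≠ 0) (C : LinearMap.BilinForm K W)
    (hC : C.Nondegenerate) (z : W →ₗ[K] W) (hz : z * z = -1)
    (hiso : ∀ u v, C (z u) (z v) = C u v) :
    Even (finrank K W) := by
  classical
  let b := Module.finBasis K W
  obtain ⟨G, hGdef⟩ : ∃ G, G = LinearMap.BilinForm.toMatrix b C := ⟨_, rfl⟩
  obtain ⟨Z, hZdef⟩ : ∃ Z, Z = LinearMap.toMatrix b b z := ⟨_, rfl⟩
  have hG : G.det ≠ 0 := by
    rw [hGdef]
    exact (LinearMap.BilinForm.nondegenerate_iff_det_ne_zero b).mp hC
  have hcomp : C.comp z z = C := by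
    ext u v
    simp [hiso]
  have hZGZ : Zᵀ * G * Z = G := by
    rw [hGdef, hZdef, ← LinearMap.BilinForm.toMatrix_comp b b, hcomp]
  have hZZ : Z * Z = -1 := by
    rw [hZdef, ← LinearMap.toMatrix_mul, hz, map_neg, LinearMap.toMatrix_one]
  have hdet1 : Z.det * Z.det = 1 := by
    have h := congrArg Matrix.det hZGZ
    rw [Matrix.det_mul, Matrix.det_mul, Matrix.det_transpose] at h
    have h4 : (Z.det * Z.det) * G.det = 1 * G.det := by
      rw [one_mul]; linear_combination h
    exact mul_right_cancel₀ hG h4
  have hdet2 : Z.det * Z.det = (-1) ^ finrank K W := by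
    have h := congrArg Matrix.det hZZ
    rw [Matrix.det_mul, Matrix.det_neg, Matrix.det_one, mul_one, Fintype.card_fin] at h
    exact h
  by_contra hodd
  rw [Nat.not_even_iff_odd] at hodd
  rw [hodd.neg_one_pow, hdet1] at hdet2
  apply h2
  have h5 : (2 : K) = 1 - (-1) := by ring
  rw [h5, ← hdet2, sub_self]

universe u
variable {F : Type u} [Field F] {V : Type u} [AddCommGroup V] [Module F V]

/-- LEAF 3. -/
theorem even_finrank_of_sq_neg_one (h2 : (2 : F) ≠ 0) [FiniteDimensional F V]
    (B : LinearMap.BilinForm F V) (hS : ∀ a b, B a b = B b a)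
    (x : V →ₗ[F] V) (hx : x * x = -1) (hiso : Iso B x)
    (W : Submodule F V) (hW : Inv x W) (hWnd : NonDeg B W) : Even (finrank F W) := by
  have hC : (B.restrict W).Nondegenerate := by
    constructor
    · intro y hy
      apply Subtype.ext
      apply hWnd y.1 y.2
      intro v hv
      exact hy ⟨v, hv⟩
    · intro y hy
      apply Subtype.ext
      apply hWnd y.1 y.2
      intro v hv
      rw [hS]
      exact hy ⟨v, hv⟩
  have hW' : ∀ v ∈ W, x v ∈ W := hW
  have hz : (x.restrict hW') * (x.restrict hW') = -1 := by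
    apply LinearMap.ext
    intro y
    apply Subtype.ext
    have h1 := congrArg (fun f : V →ₗ[F] V => f y.1) hx
    simp only [Module.End.mul_apply, LinearMap.neg_apply, Module.End.one_apply] at h1
    rw [Module.End.mul_apply, LinearMap.coe_restrict_apply, LinearMap.coe_restrict_apply, h1]
    simp
  apply even_finrank_of_isometry_sq h2 (B.restrict W) hC (x.restrict hW') hz
  intro u v
  exact hiso u.1 v.1

end Cfsg.Agent.Lib.Helper65.OPb
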