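import Mathlib

set_option autoImplicit false

namespace Cfsg.Agent.Lib.Helper65

universe u

/-- If `H` normalizes `N` and both are solvable, then `H ⊔ N` is solvable. -/
theorem isSolvable_sup_of_le_normalizer {G : Type u} [Group G] (H N : Subgroup G)
    (hLE : H ≤ Subgroup.normalizer (N : Set G)) [Group.IsSolvable H] [Group.IsSolvable N] :
    Group.IsSolvable ↥(H ⊔ N) := by
  have hn1 : (N.subgroupOf H).Normal := Subgroup.normal_subgroupOf_of_le_normalizer hLE
  have hn2 : (N.subgroupOf (H ⊔ N)).Normal := Subgroup.normal_subgroupOf_sup_of_le_normalizer hLE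
  let e := QuotientGroup.quotientInfEquivProdNormalizerQuotient H N hLE
  have hq : Group.IsSolvable (↥(H ⊔ N) ⧸ N.subgroupOf (H ⊔ N)) :=
    Group.isSolvable_of_surjective (f := e.toMonoidHom) e.surjective
  refine Group.isSolvable_of_ker_le_range (Subgroup.inclusion (le_sup_right : N ≤ H ⊔ N))
    (QuotientGroup.mk' (N.subgroupOf (H ⊔ N))) ?_
  intro x hx
  rw [QuotientGroup.ker_mk', Subgroup.mem_subgroupOf] at hx
  exact ⟨⟨(x : G), hx⟩, Subtype.ext rfl⟩

/-- A cyclic subgroup is solvable. -/
theorem isSolvable_zpowers {G : Type u} [Group G] (y : G) :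
    Group.IsSolvable ↥(Subgroup.zpowers y) := by
  apply Group.isSolvable_of_comm
  intro a b
  exact Subtype.ext (setLike_mul_comm (s := Subgroup.zpowers y) a.2 b.2)

end Cfsg.Agent.Lib.Helper65
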