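import Mathlib
import Cfsg.Agent.S1417
import Cfsg.Agent.Lib.Helper13.BG12A
import Cfsg.Agent.Lib.Helper55.Uniq

/-!
# Keystone 143804 (K-153-D): a commutative `τ₂(M)`-subgroup of `C_M(H)`, `1 ≠ H ≤ M_σ`, is cyclic.
-/

set_option autoImplicit false

namespace Cfsg.Agent.Lib.Helper65.BG153

open Cfsg

variable {G : Type*} [Group G] [Finite G]

/-- 143804 K-153-D -/
theorem isCyclic_of_centralizes (hG : IsMinSimpleOddOrder G) {M H X : Subgroup G}
    (hM : IsCoatom M) (hH : H ≤ sigmaCore M) (hH1 : H ≠ ⊥)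
    (hXM : X ≤ M) (hXH : X ≤ Subgroup.centralizer (H : Set G))
    (hcomm : ∀ a ∈ X, ∀ b ∈ X, a * b = b * a)
    (hXτ : ∀ p : ℕ, p.Prime → p ∣ Nat.card X → p ∈ tau2 M) : IsCyclic X := by
  classical
  let _ : CommGroup ↥X :=
    { (inferInstance : Group ↥X) with
      mul_comm := fun a b => Subtype.ext (hcomm a.1 a.2 b.1 b.2) }
  have hnil : Group.IsNilpotent ↥X := CommGroup.isNilpotent
  refine Cfsg.Agent.Lib.Helper13.BG12.isCyclic_of_nilpotent_of_pRankLE_one hG (le_refl X) hnil ?_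
  intro p hp hpd
  have : Fact p.Prime := ⟨hp⟩
  have hτ : p ∈ tau2 M := hXτ p hp hpd
  rw [Cfsg.Agent.Lib.Helper55.pRankLE_sub_iff]
  intro E hEX hEc hEp
  have h2 : Nat.card E ≤ p ^ 2 :=
    (Cfsg.Agent.Lib.Helper55.pRankLE_sub_iff.1 hτ.2.2.1) E (hEX.trans hXM) hEc hEp
  have hEpg : IsPGroup p E := by
    intro g
    refine ⟨1, ?_⟩
    rw [pow_one]
    exact Subtype.ext (hEp g g.2)
  obtain ⟨n, hn⟩ := IsPGroup.iff_card.1 hEpg
  rw [hn] at h2 ⊢
  have hn2 : n ≤ 2 := (Nat.pow_le_pow_iff_right hp.one_lt).1 h2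
  by_cases hn1 : n ≤ 1
  · exact Nat.pow_le_pow_right hp.pos hn1
  · exfalso
    have hn' : n = 2 := by omega
    rw [hn'] at hn
    have hEe : IsElementaryAbelian p E :=
      ⟨⟨⟨fun a b => Subtype.ext (hEc a a.2 b b.2)⟩⟩, hEp⟩
    have hd := (Cfsg.Agent.S1417.result hG M hM p hτ E ⟨hEX.trans hXM, hEe, hn⟩).2.2.2.1
    apply hH1
    rw [eq_bot_iff, ← hd]
    intro h hh
    refine ⟨hH hh, ?_⟩
    show h ∈ Subgroup.centralizer (E : Set G)
    rw [Subgroup.mem_centralizer_iff]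
    intro e he
    exact ((Subgroup.mem_centralizer_iff.1 (hXH (hEX he))) h hh).symm

end Cfsg.Agent.Lib.Helper65.BG153
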