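import Mathlib
import Cfsg.Prelude.Def_Solvable

set_option autoImplicit false

universe u

namespace Cfsg.Agent.Lib.Helper65

open scoped Pointwise

theorem mem_conj_smul {G : Type u} [Group G] (g x : G) (T : Subgroup G) :
    x ∈ MulAut.conj g • T ↔ g⁻¹ * x * g ∈ T := by
  rw [Subgroup.mem_pointwise_smul_iff_inv_smul_mem, ← map_inv, MulAut.smul_def,
    MulAut.conj_apply, inv_inv]

/-- A normal subgroup `N` (nontrivial, proper, of order coprime to its index) such that
the centralizer of every nonidentity element of `N` lies in `N` is the Frobenius kernel for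
any complement of `N`. -/
theorem frobenius_of_normal_fpf {X : Type u} [Group X] [Finite X] (N : Subgroup X) [N.Normal]
    (hbot : N ≠ ⊥) (htop : N ≠ ⊤) (hcop : Nat.Coprime (Nat.card N) N.index)
    (hF : ∀ n ∈ N, n ≠ 1 → ∀ x : X, n * x = x * n → x ∈ N) :
    ∃ T : Subgroup X, Cfsg.IsFrobeniusComplement T ∧ Cfsg.frobeniusKernel T = (N : Set X) := by
  obtain ⟨T, hT⟩ := Subgroup.exists_right_complement'_of_coprime hcop
  have hdisj : ∀ x, x ∈ N → x ∈ T → x = 1 := by
    intro x hxN hxT
    have := hT.disjoint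
    rw [Subgroup.disjoint_def] at this
    exact this hxN hxT
  have hcardT : Nat.card T = N.index := hT.symm.index_eq_card.symm
  have hmul : Nat.card N * Nat.card T = Nat.card X := hT.card_mul_card
  have hdecomp : ∀ g : X, ∃ n ∈ N, ∃ t ∈ T, g = n * t := by
    intro g
    have h1 : g ∈ ((N : Set X) * (T : Set X)) := by
      rw [(Subgroup.isComplement'_def.1 hT).mul_eq]
      exact Set.mem_univ g
    obtain ⟨n, hn, t, ht, rfl⟩ := h1
    exact ⟨n, hn, t, ht, rfl⟩
  refine ⟨T, ⟨?_, ?_, ?_⟩, ?_⟩
  · -- T ≠ ⊥
    intro h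
    apply htop
    rw [← Subgroup.index_eq_one, ← hcardT, h, Subgroup.card_bot]
  · -- T ≠ ⊤
    intro h
    apply hbot
    rw [h, Subgroup.card_top] at hmul
    have h1 : Nat.card N = 1 := by
      have hpos : 0 < Nat.card X := Nat.card_pos
      have : Nat.card N * Nat.card X = 1 * Nat.card X := by rw [hmul, one_mul]
      exact Nat.eq_of_mul_eq_mul_right hpos this
    exact (Subgroup.card_eq_one).1 h1
  · -- TI
    intro g hg
    rw [eq_bot_iff]
    intro x hx
    rw [Subgroup.mem_bot]
    obtain ⟨hxT, hxg⟩ := Subgroup.mem_inf.1 hx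
    rw [mem_conj_smul] at hxg
    obtain ⟨n, hn, t, ht, rfl⟩ := hdecomp g
    have hn1 : n ≠ 1 := by
      rintro rfl
      apply hg
      rw [one_mul]
      exact ht
    -- y = n⁻¹ x n ∈ T
    have hy : n⁻¹ * x * n ∈ T := by
      have h1 : n⁻¹ * x * n = t * ((n * t)⁻¹ * x * (n * t)) * t⁻¹ := by group
      rw [h1]
      exact T.mul_mem (T.mul_mem ht hxg) (T.inv_mem ht)
    -- x * y⁻¹ ∈ N ∩ T
    have h2 : x * (n⁻¹ * x * n)⁻¹ ∈ N := by
      have h3 : x * (n⁻¹ * x * n)⁻¹ = (x * n⁻¹ * x⁻¹) * n := by group
      rw [h3]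
      exact N.mul_mem (Subgroup.Normal.conj_mem inferInstance _ (N.inv_mem hn) x) hn
    have h4 : x * (n⁻¹ * x * n)⁻¹ ∈ T := T.mul_mem hxT (T.inv_mem hy)
    have h5 := hdisj _ h2 h4
    have h6 : n * x = x * n := by
      have h7 : x = n⁻¹ * x * n := mul_inv_eq_one.1 h5
      calc n * x = n * (n⁻¹ * x * n) := by rw [← h7]
        _ = x * n := by group
    by_contra hx1
    have h8 : x ∈ N := hF n hn hn1 x h6
    exact hx1 (hdisj x h8 hxT)
  · -- kernel
    ext x
    simp only [Cfsg.frobeniusKernel, Set.mem_ofPred_eq, SetLike.mem_coe]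
    constructor
    · rintro (rfl | hx)
      · exact N.one_mem
      · by_contra hxN
        obtain ⟨n, hn, t, ht, rfl⟩ := hdecomp x
        have ht1 : t ≠ 1 := by
          rintro rfl
          apply hxN
          rw [mul_one]
          exact hn
        have htN : t ∉ N := fun h => ht1 (hdisj t h ht)
        -- the map u ↦ u⁻¹ * t * u * t⁻¹ on N is injective hence surjective
        let φ : N → N := fun u => ⟨(u : X)⁻¹ * (t * u * t⁻¹),
          N.mul_mem (N.inv_mem u.2) (Subgroup.Normal.conj_mem inferInstance _ u.2 t)⟩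
        have hφ : Function.Injective φ := by
          intro u v huv
          have h1 : (u : X)⁻¹ * (t * u * t⁻¹) = (v : X)⁻¹ * (t * v * t⁻¹) :=
            congrArg Subtype.val huv
          have h2 : ((v : X) * (u : X)⁻¹) * t = t * ((v : X) * (u : X)⁻¹) := by
            have e1 : ((v : X) * (u : X)⁻¹) * t
                = (v : X) * ((u : X)⁻¹ * (t * u * t⁻¹)) * t * (u : X)⁻¹ := by group
            rw [e1, h1]
            group
          by_contra hne
          have h3 : (v : X) * (u : X)⁻¹ ≠ 1 := by
            intro h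
            apply hne
            apply Subtype.ext
            exact (mul_inv_eq_one.1 h).symm
          exact htN (hF _ (N.mul_mem v.2 (N.inv_mem u.2)) h3 t h2)
        have hφs : Function.Surjective φ := Finite.surjective_of_injective hφ
        obtain ⟨u, hu⟩ := hφs ⟨n, hn⟩
        have hu' : (u : X)⁻¹ * (t * u * t⁻¹) = n := congrArg Subtype.val hu
        apply hx (u : X)⁻¹
        rw [mem_conj_smul, ← hu', inv_inv]
        have e : (u : X) * ((u : X)⁻¹ * (t * u * t⁻¹) * t) * (u : X)⁻¹ = t := by group
        rw [e]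
        exact ht
    · intro hxN
      by_cases hx1 : x = 1
      · exact Or.inl hx1
      · right
        intro g hg
        rw [mem_conj_smul] at hg
        have h1 : g⁻¹ * x * g ∈ N := by
          have := Subgroup.Normal.conj_mem (inferInstance : N.Normal) x hxN g⁻¹
          rwa [inv_inv] at this
        have h2 := hdisj _ h1 hg
        apply hx1
        have : x = g * (g⁻¹ * x * g) * g⁻¹ := by group
        rw [this, h2]
        group

end Cfsg.Agent.Lib.Helper65
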