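import Mathlib
import Cfsg.Agent.Lib.Helper04.BurnsidePQ

/-!
# Keystone K-HA-P4 (253809) for helper38's HallAlt pack

A transitive group of prime degree `p` and order `2 ^ a * p` is solvable (Burnside), so it has a
regular normal subgroup of order `p` which is its own centraliser; hence `2 ^ a ∣ p - 1`.
-/

set_option autoImplicit false

namespace Cfsg.Agent.Lib.Helper65.HallAlt

open MulAction
open scoped commutatorElement

/-- A finite solvable group acting faithfully and transitively on a set of prime cardinality `p`
has order dividing `p * (p - 1)`. -/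
theorem card_dvd_of_solvable_prime_degree {G : Type*} [Group G] [Finite G] {α : Type*}
    [MulAction G α] [FaithfulSMul G α] [IsPretransitive G α] (p : ℕ) (hp : p.Prime)
    (hn : Nat.card α = p) (hsol : Group.IsSolvable G) : Nat.card G ∣ p * (p - 1) := by
  classical
  by_cases htriv : Subsingleton G
  · rw [Nat.card_of_subsingleton (1 : G)]
    exact one_dvd _
  rw [not_subsingleton_iff_nontrivial] at htriv
  -- the last nontrivial term of the derived series
  have hex : ∃ k, derivedSeries G k = ⊥ := hsol.solvable
  have hk : derivedSeries G (Nat.find hex) = ⊥ := Nat.find_spec hex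
  have hk0 : Nat.find hex ≠ 0 := by
    intro h0
    rw [h0, derivedSeries_zero] at hk
    exact top_ne_bot hk
  obtain ⟨m, hm⟩ := Nat.exists_eq_succ_of_ne_zero hk0
  have hAne : derivedSeries G m ≠ ⊥ := by
    intro h
    have := Nat.find_min' hex h
    omega
  have hAcomm : ⁅derivedSeries G m, derivedSeries G m⁆ = ⊥ := by
    rw [← hk, hm]
    rfl
  have hAnormal : (derivedSeries G m).Normal := derivedSeries_normal G m
  generalize derivedSeries G m = A at hAne hAcomm hAnormal
  have hcomm : ∀ a ∈ A, ∀ b ∈ A, a * b = b * a := by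
    intro a ha b hb
    have : ⁅a, b⁆ ∈ ⁅A, A⁆ := Subgroup.commutator_mem_commutator ha hb
    rw [hAcomm, Subgroup.mem_bot] at this
    exact commutatorElement_eq_one_iff_mul_comm.mp this
  -- `G` is primitive, so `A` is transitive
  have hprim : IsPreprimitive G α := IsPreprimitive.of_prime_card (hn ▸ hp)
  have hAtr : IsPretransitive A α := by
    apply IsQuasiPreprimitive.isPretransitive_of_normal
    intro hfix
    apply hAne
    rw [Subgroup.eq_bot_iff_forall]
    intro a ha
    apply FaithfulSMul.eq_of_smul_eq_smul (α := α)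
    intro x
    have : x ∈ fixedPoints A α := by rw [hfix]; trivial
    rw [one_smul]
    exact this ⟨a, ha⟩
  have hne : Nonempty α := by
    have : Nat.card α ≠ 0 := hn ▸ hp.ne_zero
    exact (Nat.card_ne_zero.mp this).1
  obtain ⟨x⟩ := hne
  -- `A` is regular
  have hstab : ∀ a ∈ A, a • x = x → a = 1 := by
    intro a ha hax
    apply FaithfulSMul.eq_of_smul_eq_smul (α := α)
    intro y
    obtain ⟨b, hb⟩ := hAtr.exists_smul_eq x y
    have hb' : (b : G) • x = y := hb
    rw [one_smul, ← hb', smul_smul, hcomm a ha b b.2, ← smul_smul, hax]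
  have hAcard : Nat.card A = p := by
    rw [← hn]
    apply Nat.card_congr
    refine Equiv.ofBijective (fun a : A => (a : G) • x) ⟨?_, ?_⟩
    · intro a b hab
      have hab' : (a : G) • x = (b : G) • x := hab
      have h1 : ((b : G)⁻¹ * (a : G)) • x = x := by
        rw [mul_smul, hab', smul_smul, inv_mul_cancel, one_smul]
      have := hstab _ (A.mul_mem (A.inv_mem b.2) a.2) h1
      ext
      exact (inv_mul_eq_one.mp this).symm
    · intro y
      obtain ⟨b, hb⟩ := hAtr.exists_smul_eq x y
      exact ⟨b, hb⟩
  -- `A` is its own centraliser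
  have hcent : ∀ c : G, (∀ a ∈ A, a * c = c * a) → c ∈ A := by
    intro c hc
    obtain ⟨b, hb⟩ := hAtr.exists_smul_eq x (c • x)
    have hb' : (b : G) • x = c • x := hb
    have hd : ((b : G)⁻¹ * c) = 1 := by
      apply FaithfulSMul.eq_of_smul_eq_smul (α := α)
      intro y
      obtain ⟨e, he⟩ := hAtr.exists_smul_eq x y
      have he' : (e : G) • x = y := he
      rw [one_smul, ← he', smul_smul]
      have h1 : c * (e : G) = (e : G) * c := (hc e e.2).symm
      have h2 : (b : G)⁻¹ * (e : G) = (e : G) * (b : G)⁻¹ := hcomm _ (A.inv_mem b.2) _ e.2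
      calc ((b : G)⁻¹ * c * (e : G)) • x = ((e : G) * ((b : G)⁻¹ * c)) • x := by
            rw [mul_assoc, h1, ← mul_assoc, h2, mul_assoc]
        _ = (e : G) • x := by
            rw [mul_smul, mul_smul, ← hb', inv_smul_smul]
    have : c = b := by
      rw [inv_mul_eq_one] at hd
      exact hd.symm
    rw [this]
    exact b.2
  -- the conjugation action on `A`
  have hker : (MulAut.conjNormal (H := A)).ker = A := by
    ext c
    rw [MonoidHom.mem_ker]
    constructor
    · intro h
      apply hcent
      intro a ha
      have h1 := congrArg (fun f : MulAut A => ((f ⟨a, ha⟩ : A) : G)) h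
      simp only [MulAut.conjNormal_apply, MulAut.one_apply] at h1
      calc a * c = (c * a * c⁻¹) * c := by rw [h1]
        _ = c * a := by group
    · intro hcA
      ext a
      rw [MulAut.conjNormal_apply, MulAut.one_apply, hcomm c hcA a a.2]
      group
  have hcyc : IsCyclic A := by
    have : Fact p.Prime := ⟨hp⟩
    exact isCyclic_of_prime_card hAcard
  have haut : Nat.card (MulAut A) = p - 1 := by
    rw [IsCyclic.card_mulAut, hAcard, Nat.totient_prime hp]
  have hrange : Nat.card (MulAut.conjNormal (H := A)).range ∣ p - 1 := by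
    rw [← haut]
    exact Subgroup.card_subgroup_dvd_card _
  have hcard : Nat.card G = p * Nat.card (MulAut.conjNormal (H := A)).range := by
    have h1 : Nat.card (MulAut.conjNormal (H := A)).ker = p := by
      rw [congrArg (fun S : Subgroup G => Nat.card ↥S) hker, hAcard]
    rw [← Subgroup.index_ker, ← h1]
    exact (Subgroup.card_mul_index _).symm
  rw [hcard]
  exact Nat.mul_dvd_mul_left p hrange

/-- **K-HA-P4** (253809). -/
theorem false_of_trans_prime_degree {α : Type} [Finite α] (H : Subgroup (Equiv.Perm α))
    (htr : MulAction.IsPretransitive ↥H α) (p a : ℕ) (hp : p.Prime) (hp2 : p ≠ 2)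
    (hn : Nat.card α = p) (hcard : Nat.card H = 2 ^ a * p) (ha : ¬ 2 ^ a ∣ p - 1) : False := by
  have hsol : Group.IsSolvable H :=
    Cfsg.Agent.Lib.Helper04.burnside_paqb 2 p a 1 Nat.prime_two hp (by rw [hcard, pow_one])
  have hdvd := card_dvd_of_solvable_prime_degree (G := H) (α := α) p hp hn hsol
  rw [hcard, mul_comm] at hdvd
  exact ha (Nat.dvd_of_mul_dvd_mul_left hp.pos hdvd)

end Cfsg.Agent.Lib.Helper65.HallAlt
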