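import Mathlib
import Cfsg.Prelude.Def_GeometricClasses

/-!
# K-SpF-O2 (keystone 597503, architect helper38): Galois descent for fixed vectors

`y ∈ N(K)` and the only elements of the field subalgebra `K` commuting with `y` are the scalars.  Then
`F`-linearly independent fixed vectors of `y` are `K`-linearly independent, hence
`k * dim ker (y - 1) ≤ dim V`.
-/

set_option autoImplicit false

namespace Cfsg.Agent.Lib.Helper65.SpF

open Cfsg Cfsg.Geo
open scoped Matrix MatrixGroups

variable {F : Type*} [Field F]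

/-- the core descent statement: a `K`-linear relation between `F`-independent fixed vectors is trivial -/
theorem descent_core {ι : Type} [Fintype ι] [DecidableEq ι] (k : ℕ)
    (K : Subalgebra F (Matrix ι ι F)) (hK : IsFieldSubalgebra k K) (y : GL ι F) (hy : y ∈ subalgebraNormalizer K)
    (hfix : ∀ a ∈ K, (y : Matrix ι ι F) * a = a * (y : Matrix ι ι F) → ∃ c : F, a = c • (1 : Matrix ι ι F))
    {m : ℕ} (w : Fin m → ι → F) (hw : LinearIndependent F w)
    (hfixed : ∀ j, (y : Matrix ι ι F) *ᵥ w j = w j) :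
    ∀ (s : Finset (Fin m)) (a : Fin m → Matrix ι ι F), (∀ j, a j ∈ K) →
      ∑ j ∈ s, a j *ᵥ w j = 0 → ∀ j ∈ s, a j = 0 := by
  intro s
  induction s using Finset.strongInduction with
  | H s ih =>
    intro a ha hrel j0 hj0
    by_contra hne
    obtain ⟨c, hc, hc1⟩ := hK.inv (a j0) (ha j0) hne
    have hc2 : c * a j0 = 1 := by rw [hK.comm c hc (a j0) (ha j0)]; exact hc1
    set Y : Matrix ι ι F := (y : Matrix ι ι F) with hY
    set Yi : Matrix ι ι F := ((y⁻¹ : GL ι F) : Matrix ι ι F) with hYi
    have hYiY : Yi * Y = 1 := by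
      rw [hY, hYi, ← Units.val_mul, inv_mul_cancel, Units.val_one]
    have hYYi : Y * Yi = 1 := by
      rw [hY, hYi, ← Units.val_mul, mul_inv_cancel, Units.val_one]
    -- normalised coefficients
    have ha' : ∀ j, c * a j ∈ K := fun j => K.mul_mem hc (ha j)
    have hrel' : ∑ j ∈ s, (c * a j) *ᵥ w j = 0 := by
      have : ∑ j ∈ s, (c * a j) *ᵥ w j = c *ᵥ ∑ j ∈ s, a j *ᵥ w j := by
        rw [Matrix.mulVec_sum]
        exact Finset.sum_congr rfl fun j _ => (Matrix.mulVec_mulVec _ _ _).symm
      rw [this, hrel, Matrix.mulVec_zero]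
    -- twisted coefficients
    have hσ : ∀ j, Y * (c * a j) * Yi ∈ K := fun j => (hy (c * a j)).1 (ha' j)
    have he : ∀ j, Y * (c * a j) * Yi - c * a j ∈ K := fun j => K.sub_mem (hσ j) (ha' j)
    have he0 : Y * (c * a j0) * Yi - c * a j0 = 0 := by
      rw [hc2, mul_one, hYYi, sub_self]
    have hσw : ∀ j, (Y * (c * a j) * Yi) *ᵥ w j = Y *ᵥ ((c * a j) *ᵥ w j) := by
      intro j
      conv_lhs => rw [← hfixed j]
      rw [Matrix.mulVec_mulVec, Matrix.mulVec_mulVec, mul_assoc, mul_assoc, hYiY, mul_one]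
    have hrele : ∑ j ∈ s, (Y * (c * a j) * Yi - c * a j) *ᵥ w j = 0 := by
      simp only [Matrix.sub_mulVec, Finset.sum_sub_distrib, hrel', sub_zero, hσw]
      rw [← Matrix.mulVec_sum, hrel', Matrix.mulVec_zero]
    have hrele' : ∑ j ∈ s.erase j0, (Y * (c * a j) * Yi - c * a j) *ᵥ w j = 0 := by
      rw [← Finset.add_sum_erase s _ hj0, he0, Matrix.zero_mulVec, zero_add] at hrele
      exact hrele
    have hall := ih (s.erase j0) (Finset.erase_ssubset hj0) _ he hrele'
    have hall' : ∀ j ∈ s, Y * (c * a j) * Yi - c * a j = 0 := by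
      intro j hj
      by_cases hjj : j = j0
      · rw [hjj]; exact he0
      · exact hall j (Finset.mem_erase.2 ⟨hjj, hj⟩)
    have hsc : ∀ j, j ∈ s → ∃ t : F, c * a j = t • (1 : Matrix ι ι F) := by
      intro j hj
      apply hfix _ (ha' j)
      have h1 := sub_eq_zero.1 (hall' j hj)
      calc Y * (c * a j) = Y * (c * a j) * (Yi * Y) := by rw [hYiY, mul_one]
        _ = (Y * (c * a j) * Yi) * Y := by simp only [mul_assoc]
        _ = c * a j * Y := by rw [h1]
    choose t ht using hsc
    classical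
    let tf : Fin m → F := fun j => if h : j ∈ s then t j h else 0
    have htf : ∀ j ∈ s, c * a j = tf j • (1 : Matrix ι ι F) := by
      intro j hj
      simp only [tf, dif_pos hj]
      exact ht j hj
    have hlin : ∑ j ∈ s, tf j • w j = 0 := by
      rw [← hrel']
      refine Finset.sum_congr rfl fun j hj => ?_
      rw [htf j hj, Matrix.smul_mulVec, Matrix.one_mulVec]
    have hz := (linearIndependent_iff'.1 hw) s tf hlin j0 hj0
    have h10 : (1 : Matrix ι ι F) = 0 := by
      have := htf j0 hj0
      rw [hc2, hz, zero_smul] at this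
      exact this
    apply hne
    calc a j0 = a j0 * 1 := (mul_one _).symm
      _ = 0 := by rw [h10, mul_zero]

/-- K-SpF-O2 (597503).  Galois descent: `k * dim ker (y - 1) ≤ dim V`. -/
theorem mul_finrank_ker_le {ι : Type} [Fintype ι] [DecidableEq ι] (k : ℕ)
    (K : Subalgebra F (Matrix ι ι F)) (hK : IsFieldSubalgebra k K) (y : GL ι F) (hy : y ∈ subalgebraNormalizer K)
    (hfix : ∀ a ∈ K, (y : Matrix ι ι F) * a = a * (y : Matrix ι ι F) → ∃ c : F, a = c • (1 : Matrix ι ι F)) :
    k * Module.finrank F (LinearMap.ker (Matrix.toLin' ((y : Matrix ι ι F) - 1))) ≤ Fintype.card ι := by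
  classical
  set W := LinearMap.ker (Matrix.toLin' ((y : Matrix ι ι F) - 1)) with hW
  set m := Module.finrank F W with hm
  let bW : Module.Basis (Fin m) F W := Module.finBasis F W
  let w : Fin m → ι → F := fun j => (bW j : ι → F)
  have hw : LinearIndependent F w := by
    have := bW.linearIndependent.map' W.subtype (Submodule.ker_subtype W)
    exact this
  have hfixed : ∀ j, (y : Matrix ι ι F) *ᵥ w j = w j := by
    intro j
    have h : (bW j : ι → F) ∈ LinearMap.ker (Matrix.toLin' ((y : Matrix ι ι F) - 1)) := (bW j).2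
    rw [LinearMap.mem_ker, Matrix.toLin'_apply, Matrix.sub_mulVec, Matrix.one_mulVec, sub_eq_zero] at h
    exact h
  let bK : Module.Basis (Fin k) F ↥K := Module.finBasisOfFinrankEq F ↥K hK.finrank_eq
  let g : Fin k × Fin m → ι → F := fun p => (bK p.1 : Matrix ι ι F) *ᵥ w p.2
  have hg : LinearIndependent F g := by
    rw [Fintype.linearIndependent_iff]
    intro cf hcf p
    have hrel : ∑ j ∈ (Finset.univ : Finset (Fin m)), (∑ i, cf (i, j) • (bK i : Matrix ι ι F)) *ᵥ w j = 0 := by
      rw [← hcf, Fintype.sum_prod_type_right]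
      refine Finset.sum_congr rfl fun j _ => ?_
      rw [Matrix.sum_mulVec]
      refine Finset.sum_congr rfl fun i _ => ?_
      rw [Matrix.smul_mulVec]
    have hmem : ∀ j, (∑ i, cf (i, j) • (bK i : Matrix ι ι F)) ∈ K := fun j =>
      K.sum_mem fun i _ => K.smul_mem (bK i).2 _
    have h0 := descent_core k K hK y hy hfix w hw hfixed Finset.univ _ hmem hrel p.2 (Finset.mem_univ _)
    have h1 : ∑ i, cf (i, p.2) • bK i = 0 := by
      apply Subtype.ext
      rw [ZeroMemClass.coe_zero, ← h0]
      simp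
    have := (Fintype.linearIndependent_iff.1 bK.linearIndependent) (fun i => cf (i, p.2)) h1 p.1
    simpa using this
  have hcard := hg.fintype_card_le_finrank
  rw [Fintype.card_prod, Fintype.card_fin, Fintype.card_fin, Module.finrank_fintype_fun_eq_card] at hcard
  exact hcard

end Cfsg.Agent.Lib.Helper65.SpF
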