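import Mathlib
import Cfsg.Agent.Lib.Helper40.NilCovDefs

/-!
# Keystone K-S3894-R8 (`exists_regU`) for helper40's S3894 pack

`1 + shift` is upper unitriangular, so it has determinant `1`.
-/

set_option autoImplicit false

namespace Cfsg.Agent.Lib.Helper65.S3894

open Matrix Cfsg.Agent.Lib.Helper40.NilCov

variable {F : Type*} [Field F]

/-- `1 + shift` has determinant one -/
theorem det_one_add_shift (n : ℕ) : (1 + shift n F).det = 1 := by
  have hT : (1 + shift n F).BlockTriangular id := by
    intro i j hij
    simp only [id] at hij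
    have h1 : i ≠ j := ne_of_gt hij
    have h2 : (i : ℕ) + 1 ≠ (j : ℕ) := by
      have := Fin.lt_def.mp hij
      omega
    simp [shift, Matrix.one_apply_ne h1, h2]
  rw [Matrix.det_of_upperTriangular hT]
  apply Finset.prod_eq_one
  intro i _
  simp [shift]

/-- K-S3894-R8.  `1 + shift` has determinant `1`. -/
theorem exists_regU (n : ℕ) :
    ∃ u : Matrix.SpecialLinearGroup (Fin n) F, (u : Matrix (Fin n) (Fin n) F) = 1 + shift n F :=
  ⟨⟨1 + shift n F, det_one_add_shift n⟩, rfl⟩

end Cfsg.Agent.Lib.Helper65.S3894
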