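import Mathlib
import Cfsg.Agent.Lib.Helper40.NilCovDefs

/-!
# Keystone K-S3894-T7 (`exists_a`) for helper40's S3894 pack

A generator `a` of the cyclic group `Fˣ` has order `q - 1 ≥ 3`, so `a² ≠ 1`; `a⁴ = 1` iff
`q - 1 ∣ 4` iff `q = 5`.
-/

set_option autoImplicit false

namespace Cfsg.Agent.Lib.Helper65.S3894

variable {F : Type*} [Field F]

/-- K-S3894-T7.  A suitable `a ∈ Fˣ`. -/
theorem exists_a [Fintype F] (hq : 4 ≤ Fintype.card F) :
    ∃ a : F, a ≠ 0 ∧ a * a ≠ 1 ∧ (Fintype.card F ≠ 5 → a * a * (a * a) ≠ 1) ∧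
      (Fintype.card F = 5 → a * a * (a * a) = 1) := by
  classical
  obtain ⟨u, hu⟩ := IsCyclic.exists_generator (α := Fˣ)
  have hord : orderOf u = Fintype.card F - 1 := by
    rw [orderOf_eq_card_of_forall_mem_zpowers hu, Nat.card_eq_fintype_card, Fintype.card_units]
  refine ⟨(u : F), u.ne_zero, ?_, ?_, ?_⟩
  · intro h
    have h2 : u ^ 2 = 1 := by
      apply Units.ext
      rw [Units.val_pow_eq_pow_val, pow_two, h, Units.val_one]
    have hd : orderOf u ∣ 2 := orderOf_dvd_of_pow_eq_one h2
    have hle := Nat.le_of_dvd (by norm_num) hd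
    omega
  · intro h5 h
    have h4 : u ^ 4 = 1 := by
      apply Units.ext
      rw [Units.val_pow_eq_pow_val, Units.val_one, ← h]
      ring
    have hd : orderOf u ∣ 4 := orderOf_dvd_of_pow_eq_one h4
    have hle := Nat.le_of_dvd (by norm_num) hd
    rw [hord] at hd hle
    have h3 : Fintype.card F - 1 = 3 ∨ Fintype.card F - 1 = 4 := by omega
    rcases h3 with h3 | h3
    · rw [h3] at hd
      norm_num at hd
    · omega
  · intro h5
    have h4 : u ^ 4 = 1 := by
      have : orderOf u = 4 := by rw [hord, h5]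
      rw [← this]
      exact pow_orderOf_eq_one u
    have := congrArg (fun x : Fˣ => (x : F)) h4
    simp only [Units.val_pow_eq_pow_val, Units.val_one] at this
    rw [← this]
    ring

end Cfsg.Agent.Lib.Helper65.S3894
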