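import Mathlib
import Cfsg.Prelude.Def_GeometricClasses
import Cfsg.Agent.Lib.Helper61.AschDefs
import Cfsg.Agent.Lib.Helper43.SpAschDefs
import Cfsg.Agent.Lib.Helper43.SpAschDefs2
import Cfsg.Agent.Lib.Helper72.AschC6
import Cfsg.Agent.Lib.Helper22.AschC4
import Cfsg.Agent.Lib.Helper23.AschForm

/-!
K-SpAsch-S5 (keystone 566219, architect helper43): a group normalizing an absolutely irreducible group of
isometries of a symplectic form that is realisable over a proper subfield lies in a subfield group of prime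
index whose rational structure carries the form up to a scalar.
-/

set_option autoImplicit false
set_option maxHeartbeats 800000
set_option linter.unusedSectionVars false
set_option linter.unusedVariables false

namespace Cfsg.Agent.Lib.Helper65.SpAsch

open Cfsg Cfsg.Geo Cfsg.Agent.Lib.Helper61.Asch Cfsg.Agent.Lib.Helper43.SpAsch
open scoped Matrix Kronecker MatrixGroups

variable {F : Type*} [Field F] [Fintype F] {n : ℕ}

local notation "V" => (Fin n → F)
local notation "Mat" => Matrix (Fin n) (Fin n) F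
local notation "Z" => scalars (Fin n) F

/-- the proof of `Helper72.Asch.le_subfieldSubgroup_of_realisable` with the subfield and the realising
matrix exposed -/
theorem le_subfieldSubgroup_of_conj_rat (K X : Subgroup (GL (Fin n) F)) (hX : spanAlg X = ⊤)
    (hKX : NormBy K X) (F₁ : Subfield F) (B : GL (Fin n) F)
    (hB : ∀ s ∈ matrixSet X, ∀ i j,
      ((B : Mat) * s * ((B⁻¹ : GL (Fin n) F) : Mat)) i j ∈ F₁) :
    K ≤ subfieldSubgroup F₁ B⁻¹ := by
  classical
  let emb : Matrix (Fin n) (Fin n) F₁ →+* Mat := F₁.subtype.mapMatrix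
  have hemb_inj : Function.Injective emb := by
    intro a b hab
    ext i j
    have h1 := congrFun (congrFun hab i) j
    exact h1
  have hemb_smul : ∀ (c : F₁) (a : Matrix (Fin n) (Fin n) F₁), emb (c • a) = (c : F) • emb a := by
    intro c a
    ext i j
    rfl
  -- conjugates of elements of `X` are defined over `F₁`
  have hlift : ∀ x ∈ X, ∃ m : Matrix (Fin n) (Fin n) F₁,
      emb m = (B : Mat) * (x : Mat) * ((B⁻¹ : GL (Fin n) F) : Mat) := by
    intro x hx
    refine ⟨fun i j => ⟨_, hB (x : Mat) ⟨x, hx, rfl⟩ i j⟩, ?_⟩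
    ext i j
    rfl
  let S : Set (Matrix (Fin n) (Fin n) F₁) :=
    {m | ∃ x ∈ X, emb m = (B : Mat) * (x : Mat) * ((B⁻¹ : GL (Fin n) F) : Mat)}
  have hBB : ((B⁻¹ : GL (Fin n) F) : Mat) * (B : Mat) = 1 := by
    rw [← Units.val_mul, inv_mul_cancel, Units.val_one]
  have hBB' : (B : Mat) * ((B⁻¹ : GL (Fin n) F) : Mat) = 1 := by
    rw [← Units.val_mul, mul_inv_cancel, Units.val_one]
  have hspanF : Submodule.span F (emb '' S) = ⊤ := by
    rw [eq_top_iff]
    intro M _
    have hp : ∀ N ∈ Submodule.span F (matrixSet X),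
        (B : Mat) * N * ((B⁻¹ : GL (Fin n) F) : Mat) ∈ Submodule.span F (emb '' S) := by
      intro N hN
      induction hN using Submodule.span_induction with
      | mem N hN =>
        obtain ⟨x, hx, rfl⟩ := hN
        obtain ⟨m, hm⟩ := hlift x hx
        apply Submodule.subset_span
        exact ⟨m, ⟨x, hx, hm⟩, hm⟩
      | zero => rw [mul_zero, zero_mul]; exact Submodule.zero_mem _
      | add a b _ _ ha hb =>
        rw [mul_add, add_mul]; exact Submodule.add_mem _ ha hb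
      | smul c a _ ha =>
        rw [Matrix.mul_smul, Matrix.smul_mul]; exact Submodule.smul_mem _ c ha
    have h1 := hp (((B⁻¹ : GL (Fin n) F) : Mat) * M * (B : Mat))
      (by rw [Cfsg.Agent.Lib.Helper72.Asch.span_matrixSet_eq_top X hX]; exact Submodule.mem_top)
    have h2 : (B : Mat) * (((B⁻¹ : GL (Fin n) F) : Mat) * M * (B : Mat)) *
        ((B⁻¹ : GL (Fin n) F) : Mat) = M := by
      calc (B : Mat) * (((B⁻¹ : GL (Fin n) F) : Mat) * M * (B : Mat)) *
          ((B⁻¹ : GL (Fin n) F) : Mat)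
          = ((B : Mat) * ((B⁻¹ : GL (Fin n) F) : Mat)) * M *
            ((B : Mat) * ((B⁻¹ : GL (Fin n) F) : Mat)) := by simp only [mul_assoc]
        _ = M := by rw [hBB', one_mul, mul_one]
    rw [h2] at h1
    exact h1
  have hspan₁ : Submodule.span F₁ S = ⊤ := Cfsg.Agent.Lib.Helper72.Asch.span_subfield_eq_top F₁ S hspanF
  intro k hk
  -- the conjugate of `k`
  obtain ⟨k', hk'⟩ : ∃ k' : GL (Fin n) F, k' = B * k * B⁻¹ := ⟨_, rfl⟩
  have hkk : ((k'⁻¹ : GL (Fin n) F) : Mat) * (k' : Mat) = 1 := by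
    rw [← Units.val_mul, inv_mul_cancel, Units.val_one]
  have hkk' : (k' : Mat) * ((k'⁻¹ : GL (Fin n) F) : Mat) = 1 := by
    rw [← Units.val_mul, mul_inv_cancel, Units.val_one]
  -- conjugation by `k'` preserves the matrices over `F₁`
  have hpres : ∀ m : Matrix (Fin n) (Fin n) F₁, ∃ m' : Matrix (Fin n) (Fin n) F₁,
      emb m' = (k' : Mat) * emb m * ((k'⁻¹ : GL (Fin n) F) : Mat) := by
    intro m
    have hm : m ∈ Submodule.span F₁ S := by rw [hspan₁]; exact Submodule.mem_top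
    induction hm using Submodule.span_induction with
    | mem s hs =>
      obtain ⟨x, hx, hsx⟩ := hs
      obtain ⟨m', hm'⟩ := hlift (k * x * k⁻¹) (hKX k hk x hx)
      refine ⟨m', ?_⟩
      rw [hm', hsx]
      have hg : B * (k * x * k⁻¹) * B⁻¹ = k' * (B * x * B⁻¹) * k'⁻¹ := by
        rw [hk']; group
      have := congrArg (fun u : GL (Fin n) F => (u : Mat)) hg
      simp only [Units.val_mul] at this ⊢
      exact this
    | zero => exact ⟨0, by rw [map_zero, mul_zero, zero_mul]⟩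
    | add a b _ _ ha hb =>
      obtain ⟨a', ha'⟩ := ha
      obtain ⟨b', hb'⟩ := hb
      exact ⟨a' + b', by rw [map_add, ha', hb', map_add, mul_add, add_mul]⟩
    | smul c a _ ha =>
      obtain ⟨a', ha'⟩ := ha
      refine ⟨c • a', ?_⟩
      rw [hemb_smul, ha', hemb_smul, Matrix.mul_smul, Matrix.smul_mul]
  choose θf hθ using hpres
  -- the induced algebra automorphism
  let θ : Matrix (Fin n) (Fin n) F₁ →ₐ[F₁] Matrix (Fin n) (Fin n) F₁ :=
    { toFun := θf
      map_one' := hemb_inj (by rw [hθ, map_one, mul_one, hkk'])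
      map_mul' := fun a b => hemb_inj (by
        rw [hθ, map_mul, map_mul, hθ, hθ]
        calc (k' : Mat) * (emb a * emb b) * ((k'⁻¹ : GL (Fin n) F) : Mat)
            = (k' : Mat) * emb a * 1 * emb b * ((k'⁻¹ : GL (Fin n) F) : Mat) := by
              simp only [mul_assoc, one_mul]
          _ = _ := by rw [← hkk]; simp only [mul_assoc])
      map_zero' := hemb_inj (by rw [hθ, map_zero, mul_zero, zero_mul])
      map_add' := fun a b => hemb_inj (by rw [hθ, map_add, map_add, hθ, hθ, mul_add, add_mul])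
      commutes' := fun c => hemb_inj (by
        rw [hθ]
        have h1 : emb (algebraMap F₁ (Matrix (Fin n) (Fin n) F₁) c) =
            algebraMap F Mat (c : F) := by
          ext i j
          simp only [emb, RingHom.mapMatrix_apply, Matrix.map_apply, Matrix.algebraMap_matrix_apply]
          split_ifs <;> simp
        rw [h1, ← Algebra.commutes, mul_assoc, hkk', mul_one]) }
  have hθinj : Function.Injective θ := by
    intro a b hab
    apply hemb_inj
    have h1 : emb (θf a) = emb (θf b) := congrArg emb hab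
    rw [hθ, hθ] at h1
    calc emb a = ((k'⁻¹ : GL (Fin n) F) : Mat) * ((k' : Mat) * emb a *
        ((k'⁻¹ : GL (Fin n) F) : Mat)) * (k' : Mat) := by
          simp only [mul_assoc, hkk, mul_one]; rw [← mul_assoc, hkk, one_mul]
      _ = ((k'⁻¹ : GL (Fin n) F) : Mat) * ((k' : Mat) * emb b *
        ((k'⁻¹ : GL (Fin n) F) : Mat)) * (k' : Mat) := by rw [h1]
      _ = emb b := by
          simp only [mul_assoc, hkk, mul_one]; rw [← mul_assoc, hkk, one_mul]
  have hθsurj : Function.Surjective θ :=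
    LinearMap.surjective_of_injective (f := θ.toLinearMap) hθinj
  obtain ⟨C, hC⟩ := Cfsg.Agent.Lib.Helper04.Asch.exists_conj_of_algEquiv
    (AlgEquiv.ofBijective θ ⟨hθinj, hθsurj⟩)
  -- the image of `C` over the big field
  have hCC : emb (C : Matrix (Fin n) (Fin n) F₁) *
      emb ((C⁻¹ : GL (Fin n) F₁) : Matrix (Fin n) (Fin n) F₁) = 1 := by
    rw [← map_mul, ← Units.val_mul, mul_inv_cancel, Units.val_one, map_one]
  have hCC' : emb ((C⁻¹ : GL (Fin n) F₁) : Matrix (Fin n) (Fin n) F₁) *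
      emb (C : Matrix (Fin n) (Fin n) F₁) = 1 := by
    rw [← map_mul, ← Units.val_mul, inv_mul_cancel, Units.val_one, map_one]
  let g₁ : GL (Fin n) F := ⟨emb C, emb ((C⁻¹ : GL (Fin n) F₁) : Matrix (Fin n) (Fin n) F₁), hCC, hCC'⟩
  have hg₁ : g₁ = Matrix.GeneralLinearGroup.map F₁.subtype C := by
    apply Units.ext
    rfl
  -- `g₁⁻¹ k'` centralizes the matrices over `F₁`
  have hcomm : ∀ m : Matrix (Fin n) (Fin n) F₁,
      ((g₁⁻¹ * k' : GL (Fin n) F) : Mat) * emb m = emb m * ((g₁⁻¹ * k' : GL (Fin n) F) : Mat) := by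
    intro m
    have e1 : (k' : Mat) * emb m * ((k'⁻¹ : GL (Fin n) F) : Mat) =
        emb (C : Matrix (Fin n) (Fin n) F₁) * emb m *
          emb ((C⁻¹ : GL (Fin n) F₁) : Matrix (Fin n) (Fin n) F₁) := by
      rw [← hθ, ← map_mul, ← map_mul, ← hC]
      rfl
    have hv : ((g₁⁻¹ * k' : GL (Fin n) F) : Mat) =
        emb ((C⁻¹ : GL (Fin n) F₁) : Matrix (Fin n) (Fin n) F₁) * (k' : Mat) := rfl
    rw [hv]
    calc emb ((C⁻¹ : GL (Fin n) F₁) : Matrix (Fin n) (Fin n) F₁) * (k' : Mat) * emb m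
        = emb ((C⁻¹ : GL (Fin n) F₁) : Matrix (Fin n) (Fin n) F₁) *
          ((k' : Mat) * emb m * ((k'⁻¹ : GL (Fin n) F) : Mat)) * (k' : Mat) := by
            simp only [mul_assoc, hkk, mul_one]
      _ = emb ((C⁻¹ : GL (Fin n) F₁) : Matrix (Fin n) (Fin n) F₁) *
          (emb (C : Matrix (Fin n) (Fin n) F₁) * emb m *
          emb ((C⁻¹ : GL (Fin n) F₁) : Matrix (Fin n) (Fin n) F₁)) * (k' : Mat) := by rw [e1]
      _ = emb m * (emb ((C⁻¹ : GL (Fin n) F₁) : Matrix (Fin n) (Fin n) F₁) * (k' : Mat)) := by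
            rw [← mul_assoc, ← mul_assoc, hCC', one_mul, mul_assoc]
  -- hence it is a scalar
  have hz : g₁⁻¹ * k' ∈ scalars (Fin n) F := by
    have h1 : ((g₁⁻¹ * k' : GL (Fin n) F) : Mat) ∈ Set.range (Matrix.scalar (Fin n)) := by
      rw [Matrix.mem_range_scalar_iff_commute_single']
      intro i j
      have h2 : (Matrix.single i j (1 : F) : Mat) = emb (Matrix.single i j (1 : F₁)) := by
        ext a b
        simp only [emb, RingHom.mapMatrix_apply, Matrix.map_apply, Matrix.single_apply]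
        split_ifs <;> simp
      rw [h2]
      exact (hcomm _).symm
    obtain ⟨c, hc⟩ := h1
    rw [mem_scalars_iff]
    by_cases hc0 : c = 0
    · have h3 : ((g₁⁻¹ * k' : GL (Fin n) F) : Mat) = 0 := by
        rw [← hc, hc0, map_zero]
      have h4 : (1 : Mat) = 0 := by
        have := Units.inv_mul (g₁⁻¹ * k' : GL (Fin n) F)
        rw [h3, mul_zero] at this
        exact this.symm
      refine ⟨1, ?_⟩
      have : Subsingleton Mat := subsingleton_of_zero_eq_one h4.symm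
      exact Subsingleton.elim _ _
    · refine ⟨Units.mk0 c hc0, ?_⟩
      rw [← hc, Units.val_mk0, Matrix.smul_one_eq_diagonal]
      rfl
  have hmem : k' ∈ (Matrix.GeneralLinearGroup.map (n := Fin n) (F₁.subtype : F₁ →+* F)).range ⊔
      scalars (Fin n) F := by
    have h1 : k' = g₁ * (g₁⁻¹ * k') := by group
    rw [h1]
    exact Subgroup.mul_mem_sup (by rw [hg₁]; exact ⟨C, rfl⟩) hz
  unfold subfieldSubgroup
  refine Subgroup.mem_map.mpr ⟨k', hmem, ?_⟩
  rw [hk']
  simp only [MulEquiv.coe_toMonoidHom, MulAut.conj_apply]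
  group


/-- an element fixed by the whole Galois group lies in the subfield -/
theorem mem_of_fixed (F₁ : Subfield F) (y : F) (h : ∀ τ : F ≃ₐ[F₁] F, τ y = y) : y ∈ F₁ := by
  have h1 := (IsGalois.mem_bot_iff_fixed (F := F₁) (E := F) y).mpr h
  rw [IntermediateField.mem_bot] at h1
  obtain ⟨z, hz⟩ := h1
  rw [← hz]
  exact z.2

open Cfsg.Agent.Lib.Helper22.Asch in
theorem bil_mulVec {f : V → V → F} (hf : IsBilinearForm f) (A : Mat) (u v : V) :
    f (A *ᵥ u) (A *ᵥ v) = u ⬝ᵥ ((Aᵀ * gram f * A) *ᵥ v) := by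
  have h := sesq_mulVec (RingEquiv.refl F) f (isSesq_of_bilinear f hf) A u v
  have h1 : tw (RingEquiv.refl F) A = A := by
    ext i j; rfl
  have h2 : ((RingEquiv.refl F : F ≃+* F) ∘ v) = v := by
    funext i; rfl
  rw [h1, h2] at h
  exact h

open Cfsg.Agent.Lib.Helper22.Asch in
theorem gram_iso {f : V → V → F} (hf : IsBilinearForm f) (A : Mat)
    (h : ∀ u v, f (A *ᵥ u) (A *ᵥ v) = f u v) : Aᵀ * gram f * A = gram f := by
  have h0 := gram_fix (RingEquiv.refl F) f (isSesq_of_bilinear f hf) A h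
  have h1 : tw (RingEquiv.refl F) A = A := by
    ext i j; rfl
  rw [h1] at h0
  exact h0

open Cfsg.Agent.Lib.Helper22.Asch in
theorem isUnit_gram_of_symplectic {f : V → V → F} (hf : IsSymplecticForm f) : IsUnit (gram f) :=
  isUnit_gram (RingEquiv.refl F) f (isSesq_of_bilinear f hf.bilinear)
    (fun v hv => (hf.nondegenerate v hv).1)

open Cfsg.Agent.Lib.Helper22.Asch in
/-- the rational structure `B⁻¹` carries the form up to a scalar -/
theorem exists_rat {f : V → V → F} (hf : IsSymplecticForm f) (X : Subgroup (GL (Fin n) F))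
    (hX : spanAlg X = ⊤) (hXf : X ≤ isoGL f) (F₁ : Subfield F) (B : GL (Fin n) F)
    (hB : ∀ s ∈ matrixSet X, ∀ i j,
      ((B : Mat) * s * ((B⁻¹ : GL (Fin n) F) : Mat)) i j ∈ F₁) :
    ∃ ζ : F, ζ ≠ 0 ∧ IsFormRationalStructure f F₁ ζ B⁻¹ := by
  classical
  set Bm : Mat := (B : Mat) with hBm
  set Bi : Mat := ((B⁻¹ : GL (Fin n) F) : Mat) with hBi
  set G : Mat := gram f with hG
  set Φ : Mat := Biᵀ * G * Bi with hΦ
  have hBiB : Bi * Bm = 1 := by
    rw [hBi, hBm, ← Units.val_mul, inv_mul_cancel, Units.val_one]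
  have hBBi : Bm * Bi = 1 := by
    rw [hBi, hBm, ← Units.val_mul, mul_inv_cancel, Units.val_one]
  have hBBt : Bmᵀ * Biᵀ = 1 := by rw [← Matrix.transpose_mul, hBiB, Matrix.transpose_one]
  have hΦform : ∀ u v : V, f (Bi *ᵥ u) (Bi *ᵥ v) = u ⬝ᵥ (Φ *ᵥ v) := fun u v =>
    bil_mulVec hf.bilinear Bi u v
  -- `Φ` is invertible
  have hΦunit : IsUnit Φ := by
    have hGu : IsUnit G := isUnit_gram_of_symplectic hf
    have hBiu : IsUnit Bi := (B⁻¹ : GL (Fin n) F).isUnit
    rw [Matrix.isUnit_iff_isUnit_det] at hGu hBiu ⊢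
    rw [hΦ, Matrix.det_mul, Matrix.det_mul, Matrix.det_transpose]
    exact (hBiu.mul hGu).mul hBiu
  obtain ⟨Ψ, hΨΦ⟩ := hΦunit.exists_left_inv
  have hΦΨ : Φ * Ψ = 1 := mul_eq_one_comm.mp hΨΦ
  -- invariance of `Φ`
  have hinv : ∀ x ∈ X, (Bm * ((x : GL (Fin n) F) : Mat) * Bi)ᵀ * Φ *
      (Bm * ((x : GL (Fin n) F) : Mat) * Bi) = Φ := by
    intro x hx
    have hxf : ((x : GL (Fin n) F) : Mat)ᵀ * G * (x : Mat) = G :=
      gram_iso hf.bilinear _ (fun u v => (mem_isoGL_iff f x).mp (hXf hx) u v)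
    have e1 : (Bm * ((x : GL (Fin n) F) : Mat) * Bi)ᵀ = Biᵀ * (((x : GL (Fin n) F) : Mat)ᵀ * Bmᵀ) := by
      rw [Matrix.transpose_mul, Matrix.transpose_mul]
    rw [e1, hΦ]
    calc Biᵀ * (((x : GL (Fin n) F) : Mat)ᵀ * Bmᵀ) * (Biᵀ * G * Bi) * (Bm * ((x : GL (Fin n) F) : Mat) * Bi)
        = Biᵀ * (((x : GL (Fin n) F) : Mat)ᵀ * ((Bmᵀ * Biᵀ) * G * (Bi * Bm)) * (x : Mat)) * Bi := by
          simp only [Matrix.mul_assoc]
      _ = Biᵀ * (((x : GL (Fin n) F) : Mat)ᵀ * G * (x : Mat)) * Bi := by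
          rw [hBBt, hBiB, Matrix.one_mul, Matrix.mul_one]
      _ = Biᵀ * G * Bi := by rw [hxf]
  -- the twisted Gram matrices are proportional to `Φ`
  have hprop : ∀ τ : F ≃ₐ[F₁] F, ∃ c : F, Φ.map τ = c • Φ := by
    intro τ
    set Φτ : Mat := Φ.map τ with hΦτ
    have hfixM : ∀ x ∈ X, (Bm * ((x : GL (Fin n) F) : Mat) * Bi).map τ =
        Bm * ((x : GL (Fin n) F) : Mat) * Bi := by
      intro x hx
      ext i j
      have hmem := hB (x : Mat) ⟨x, hx, rfl⟩ i j
      have := τ.commutes (⟨_, hmem⟩ : F₁)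
      exact this
    have hinvτ : ∀ x ∈ X, (Bm * ((x : GL (Fin n) F) : Mat) * Bi)ᵀ * Φτ *
        (Bm * ((x : GL (Fin n) F) : Mat) * Bi) = Φτ := by
      intro x hx
      have h1 : ((Bm * ((x : GL (Fin n) F) : Mat) * Bi)ᵀ * Φ *
          (Bm * ((x : GL (Fin n) F) : Mat) * Bi)).map τ = Φ.map τ := by rw [hinv x hx]
      have hmul : ∀ A C : Mat, (A * C).map τ = A.map τ * C.map τ := fun A C =>
        Matrix.map_mul (f := (τ : F →+* F))
      rw [hmul, hmul, Matrix.transpose_map, hfixM x hx] at h1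
      exact h1
    set T : Mat := Ψ * Φτ with hT
    have hΦT : Φ * T = Φτ := by
      rw [hT, ← Matrix.mul_assoc, hΦΨ, Matrix.one_mul]
    -- `T` commutes with the conjugates of `X`
    have hcommN : ∀ y ∈ X, (Bm * ((y : GL (Fin n) F) : Mat) * Bi) * T =
        T * (Bm * ((y : GL (Fin n) F) : Mat) * Bi) := by
      intro y hy
      set N : Mat := Bm * ((y : GL (Fin n) F) : Mat) * Bi with hN
      set M : Mat := Bm * (((y⁻¹ : GL (Fin n) F) : GL (Fin n) F) : Mat) * Bi with hM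
      have hMN : M * N = 1 := by
        rw [hM, hN]
        calc Bm * (((y⁻¹ : GL (Fin n) F) : GL (Fin n) F) : Mat) * Bi * (Bm * ((y : GL (Fin n) F) : Mat) * Bi)
            = Bm * ((((y⁻¹ : GL (Fin n) F) : GL (Fin n) F) : Mat) * ((Bi * Bm) * (y : Mat))) * Bi := by
              simp only [Matrix.mul_assoc]
          _ = 1 := by
              rw [hBiB, Matrix.one_mul, ← Units.val_mul, inv_mul_cancel, Units.val_one, Matrix.mul_one, hBBi]
      have hyi : y⁻¹ ∈ X := X.inv_mem hy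
      have hM1 : Mᵀ * Φ * M = Φ := hinv _ hyi
      have hM2 : Mᵀ * Φτ * M = Φτ := hinvτ _ hyi
      have h1 : Mᵀ * Φ = Φ * N := by
        calc Mᵀ * Φ = Mᵀ * Φ * (M * N) := by rw [hMN, Matrix.mul_one]
          _ = (Mᵀ * Φ * M) * N := by simp only [Matrix.mul_assoc]
          _ = Φ * N := by rw [hM1]
      have h2 : Mᵀ * Φτ = Φτ * N := by
        calc Mᵀ * Φτ = Mᵀ * Φτ * (M * N) := by rw [hMN, Matrix.mul_one]
          _ = (Mᵀ * Φτ * M) * N := by simp only [Matrix.mul_assoc]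
          _ = Φτ * N := by rw [hM2]
      have h3 : Ψ * Mᵀ = N * Ψ := by
        calc Ψ * Mᵀ = Ψ * Mᵀ * (Φ * Ψ) := by rw [hΦΨ, Matrix.mul_one]
          _ = Ψ * (Mᵀ * Φ) * Ψ := by simp only [Matrix.mul_assoc]
          _ = Ψ * (Φ * N) * Ψ := by rw [h1]
          _ = (Ψ * Φ) * N * Ψ := by simp only [Matrix.mul_assoc]
          _ = N * Ψ := by rw [hΨΦ, Matrix.one_mul]
      calc N * T = (N * Ψ) * Φτ := by rw [hT]; exact (Matrix.mul_assoc N Ψ Φτ).symm
        _ = Ψ * Mᵀ * Φτ := by rw [h3]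
        _ = Ψ * (Mᵀ * Φτ) := Matrix.mul_assoc Ψ Mᵀ Φτ
        _ = Ψ * (Φτ * N) := by rw [h2]
        _ = T * N := by rw [hT]; exact (Matrix.mul_assoc Ψ Φτ N).symm
    -- hence `Bi * T * Bm` commutes with `X`
    have hcomm' : ∀ x ∈ X, (Bi * T * Bm) * ((x : GL (Fin n) F) : Mat) =
        ((x : GL (Fin n) F) : Mat) * (Bi * T * Bm) := by
      intro x hx
      have h := hcommN x hx
      calc (Bi * T * Bm) * ((x : GL (Fin n) F) : Mat)
          = Bi * (T * (Bm * ((x : GL (Fin n) F) : Mat) * Bi)) * Bm := by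
            have : Bi * (T * (Bm * ((x : GL (Fin n) F) : Mat) * Bi)) * Bm =
                Bi * T * Bm * ((x : GL (Fin n) F) : Mat) * (Bi * Bm) := by
              simp only [Matrix.mul_assoc]
            rw [this, hBiB, Matrix.mul_one]
        _ = Bi * ((Bm * ((x : GL (Fin n) F) : Mat) * Bi) * T) * Bm := by rw [h]
        _ = (Bi * Bm) * ((x : GL (Fin n) F) : Mat) * (Bi * T * Bm) := by
            simp only [Matrix.mul_assoc]
        _ = ((x : GL (Fin n) F) : Mat) * (Bi * T * Bm) := by rw [hBiB, Matrix.one_mul]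
    obtain ⟨c, hc⟩ := Cfsg.Agent.Lib.Helper23.Asch.scalar_of_commute X hX (Bi * T * Bm) hcomm'
    refine ⟨c, ?_⟩
    have hTc : T = c • (1 : Mat) := by
      calc T = (Bm * Bi) * T * (Bm * Bi) := by rw [hBBi, Matrix.one_mul, Matrix.mul_one]
        _ = Bm * (Bi * T * Bm) * Bi := by simp only [Matrix.mul_assoc]
        _ = Bm * (c • (1 : Mat)) * Bi := by rw [hc]
        _ = c • (1 : Mat) := by
            rw [Matrix.mul_smul, Matrix.mul_one, Matrix.smul_mul, hBBi]
    rw [← hΦT, hTc, Matrix.mul_smul, Matrix.mul_one]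
  -- choice of `ζ`
  by_cases hex : ∃ i j, Φ i j ≠ 0
  · obtain ⟨i, j, hij⟩ := hex
    refine ⟨(Φ i j)⁻¹, inv_ne_zero hij, ?_⟩
    have hent : ∀ a b, (Φ i j)⁻¹ * Φ a b ∈ F₁ := by
      intro a b
      apply mem_of_fixed
      intro τ
      obtain ⟨c, hc⟩ := hprop τ
      have hab : τ (Φ a b) = c * Φ a b := by
        have := congrFun (congrFun hc a) b
        simpa using this
      have hij' : τ (Φ i j) = c * Φ i j := by
        have := congrFun (congrFun hc i) j
        simpa using this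
      have h1 : τ ((Φ i j)⁻¹) * (c * Φ i j) = 1 := by
        rw [← hij', ← map_mul, inv_mul_cancel₀ hij, map_one]
      have h2 : τ ((Φ i j)⁻¹) * c = (Φ i j)⁻¹ := by
        rw [← mul_assoc] at h1
        exact eq_inv_of_mul_eq_one_left h1
      rw [map_mul, hab, ← mul_assoc, h2]
    intro u v hu hv
    change (Φ i j)⁻¹ * f (Bi *ᵥ u) (Bi *ᵥ v) ∈ F₁
    rw [hΦform]
    simp only [dotProduct, Matrix.mulVec, Finset.mul_sum]
    apply Subfield.sum_mem
    intro a _
    apply Subfield.sum_mem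
    intro b _
    have : (Φ i j)⁻¹ * (u a * (Φ a b * v b)) = u a * (((Φ i j)⁻¹ * Φ a b) * v b) := by ring
    rw [this]
    exact F₁.mul_mem (hu a) (F₁.mul_mem (hent a b) (hv b))
  · push Not at hex
    refine ⟨1, one_ne_zero, ?_⟩
    intro u v hu hv
    change 1 * f (Bi *ᵥ u) (Bi *ᵥ v) ∈ F₁
    have hΦ0 : Φ = 0 := by
      ext i j; exact hex i j
    rw [hΦform, hΦ0, Matrix.zero_mulVec, dotProduct_zero, mul_zero]
    exact F₁.zero_mem

/-- **K-SpAsch-S5**. -/
theorem subfield_of_realisable {f : V → V → F} (hf : IsSymplecticForm f) (K X : Subgroup (GL (Fin n) F))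
    (hX : spanAlg X = ⊤) (hKX : NormBy K X) (hXf : X ≤ isoGL f) (F₀ : Subfield F) (hF₀ : F₀ ≠ ⊤)
    (hreal : RealisableOver F₀ (matrixSet X)) :
    ∃ (F₁ : Subfield F) (r : ℕ) (P : GL (Fin n) F) (ζ : F), r.Prime ∧ Fintype.card F = Nat.card F₁ ^ r ∧ ζ ≠ 0 ∧
      IsFormRationalStructure f F₁ ζ P ∧ K ≤ subfieldSubgroup F₁ P := by
  classical
  obtain ⟨F₁, r, hr, hle, hcard⟩ := Cfsg.Agent.Lib.Helper72.Asch.exists_subfield_prime_index F₀ hF₀
  obtain ⟨B, hB⟩ := hreal
  have hB₁ : ∀ s ∈ matrixSet X, ∀ i j,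
      ((B : Mat) * s * ((B⁻¹ : GL (Fin n) F) : Mat)) i j ∈ F₁ :=
    fun s hs i j => hle (hB s hs i j)
  have hK := le_subfieldSubgroup_of_conj_rat K X hX hKX F₁ B hB₁
  obtain ⟨ζ, hζ, hrat⟩ := exists_rat hf X hX hXf F₁ B hB₁
  exact ⟨F₁, r, B⁻¹, ζ, hr, hcard, hζ, hrat, hK⟩

end Cfsg.Agent.Lib.Helper65.SpAsch
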