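import Mathlib
import Cfsg.Prelude.Def_GeometricClasses
import Cfsg.Agent.Lib.Helper61.AschDefs
import Cfsg.Agent.Lib.Helper61.AschUDefs
import Cfsg.Agent.Lib.Helper19.Unitary
import Cfsg.Agent.Lib.Helper40.GUConj
import Cfsg.Agent.Lib.Helper48.Subfield.RatGL
import Cfsg.Agent.Lib.Helper43.AltForm

set_option autoImplicit false
set_option linter.unusedSectionVars false
set_option linter.unusedVariables false

/-! K-S5663-C6c: a group realised (up to scalars) over the subfield of index two, with the unitary form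
rational up to a factor `ζ`, lies in a member of the subfield class (types `O` / `Sp`). -/

namespace Cfsg.Agent.Lib.Helper65.AschU

open Cfsg Cfsg.Geo Cfsg.Agent.Lib.Helper61.Asch Cfsg.Agent.Lib.Helper61.AschU
open Cfsg.Agent.Lib.Helper19 Cfsg.Agent.Lib.Helper48.Subfield
open scoped Matrix Kronecker MatrixGroups

variable {F : Type*} [Field F] [Fintype F] {n q : ℕ}

/-! ### the subfield of index two -/

theorem card_subfield_eq (hF : Fintype.card F = q ^ 2) (F₁ : Subfield F)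
    (hcard : Fintype.card F = Nat.card F₁ ^ 2) : Nat.card F₁ = q := by
  have h : Nat.card F₁ ^ 2 = q ^ 2 := by rw [← hcard, hF]
  exact Nat.pow_left_injective two_ne_zero h

theorem pow_q_of_mem (F₁ : Subfield F) (hc : Nat.card F₁ = q) {x : F} (hx : x ∈ F₁) :
    x ^ q = x := by
  have : Fintype F₁ := Fintype.ofFinite F₁
  have h := FiniteField.pow_card (⟨x, hx⟩ : F₁)
  rw [← Nat.card_eq_fintype_card, hc] at h
  have := congrArg Subtype.val h
  simpa using this

theorem mem_of_pow_q (hq : 1 < q) (F₁ : Subfield F) (hc : Nat.card F₁ = q) {x : F}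
    (hx : x ^ q = x) : x ∈ F₁ := by
  classical
  set p : Polynomial F := Polynomial.X ^ q - Polynomial.X with hp
  have hp0 : p ≠ 0 := FiniteField.X_pow_card_sub_X_ne_zero F hq
  have hdeg : p.natDegree = q := FiniteField.X_pow_card_sub_X_natDegree_eq F hq
  set T : Set F := {y | y ^ q = y} with hT
  have hTsub : T ⊆ (p.roots.toFinset : Set F) := by
    intro y hy
    rw [Finset.mem_coe, Multiset.mem_toFinset, Polynomial.mem_roots hp0, Polynomial.IsRoot.def]
    simp only [hp, Polynomial.eval_sub, Polynomial.eval_pow, Polynomial.eval_X]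
    rw [hy, sub_self]
  have hTcard : T.ncard ≤ q := by
    calc T.ncard ≤ (p.roots.toFinset : Set F).ncard :=
          Set.ncard_le_ncard hTsub (Finset.finite_toSet _)
      _ = p.roots.toFinset.card := Set.ncard_coe_finset _
      _ ≤ Multiset.card p.roots := Multiset.toFinset_card_le _
      _ ≤ p.natDegree := Polynomial.card_roots' p
      _ = q := hdeg
  have hsub : (F₁ : Set F) ⊆ T := fun y hy => pow_q_of_mem F₁ hc hy
  have hF₁card : (F₁ : Set F).ncard = q := by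
    rw [← hc]
    exact (Nat.card_coe_set_eq (F₁ : Set F)).symm
  have heq : (F₁ : Set F) = T :=
    Set.eq_of_subset_of_ncard_le hsub (by rw [hF₁card]; exact hTcard) (Set.toFinite T)
  have : x ∈ T := hx
  rw [← heq] at this
  exact this


/-! ### the Gram matrix of the Hermitian form in the basis `P` -/

local notation "Mat" => Matrix (Fin n) (Fin n) F

/-- Gram matrix of `hermForm` in the basis given by the columns of `P` -/
noncomputable def gram (hF : Fintype.card F = q ^ 2) (P : GL (Fin n) F) : Mat :=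
  (P : Mat)ᵀ * (P : Mat).map (frobQ hF)

theorem herm_eq (hF : Fintype.card F = q ^ 2) (P : GL (Fin n) F) (u v : Fin n → F) :
    hermForm n F q ((P : Mat) *ᵥ u) ((P : Mat) *ᵥ v) = u ⬝ᵥ (gram hF P *ᵥ (frobQ hF ∘ v)) :=
  Cfsg.Agent.Lib.Helper40.GUConj.hermForm_mulVec_eq (frobQ hF) (frobQ_apply hF) _ u v

theorem frob_comp_frob (hF : Fintype.card F = q ^ 2) (v : Fin n → F) :
    frobQ hF ∘ (frobQ hF ∘ v) = v := by
  funext i
  simp only [Function.comp_apply]
  exact frobQ_frobQ hF (v i)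

theorem gram_transpose (hF : Fintype.card F = q ^ 2) (P : GL (Fin n) F) :
    (gram hF P)ᵀ = (gram hF P).map (frobQ hF) := by
  unfold gram
  rw [Matrix.transpose_mul, Matrix.transpose_transpose, Matrix.map_mul, Matrix.map_map]
  have h1 : (frobQ hF) ∘ (frobQ hF) = id := funext (frobQ_frobQ hF)
  rw [h1, Matrix.map_id, Matrix.transpose_map]

theorem det_gram_ne_zero (hF : Fintype.card F = q ^ 2) (P : GL (Fin n) F) :
    (gram hF P).det ≠ 0 := by
  have hP : (P : Mat).det ≠ 0 := by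
    have := (Matrix.isUnit_iff_isUnit_det (P : Mat)).mp P.isUnit
    exact this.ne_zero
  unfold gram
  rw [Matrix.det_mul, Matrix.det_transpose]
  have h2 : ((P : Mat).map (frobQ hF)).det = frobQ hF (P : Mat).det := by
    rw [RingHom.map_det]; rfl
  rw [h2]
  exact mul_ne_zero hP ((map_ne_zero (frobQ hF)).mpr hP)

theorem single_dot_mulVec_single (M : Mat) (i j : Fin n) :
    (Pi.single i 1 : Fin n → F) ⬝ᵥ (M *ᵥ (Pi.single j 1 : Fin n → F)) = M i j := by
  simp [Matrix.mulVec, dotProduct, Pi.single_apply]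

theorem frob_comp_single (hF : Fintype.card F = q ^ 2) (j : Fin n) :
    frobQ hF ∘ (Pi.single j 1 : Fin n → F) = Pi.single j 1 := by
  funext k
  by_cases h : k = j
  · subst h; simp
  · simp [Pi.single_apply, h]

theorem frob_comp_of_rat (hF : Fintype.card F = q ^ 2) (F₁ : Subfield F) (hc : Nat.card F₁ = q)
    {v : Fin n → F} (hv : ∀ i, v i ∈ F₁) : frobQ hF ∘ v = v := by
  funext i
  simp only [Function.comp_apply, frobQ_apply]
  exact pow_q_of_mem F₁ hc (hv i)

/-- the entries of `ζ • gram` are rational -/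
theorem gram_rat (hF : Fintype.card F = q ^ 2) (F₁ : Subfield F) (P : GL (Fin n) F) (ζ : F)
    (hrat : IsFormRationalStructure (hermForm n F q) F₁ ζ P) (i j : Fin n) :
    ζ * gram hF P i j ∈ F₁ := by
  have h := hrat (Pi.single i 1) (Pi.single j 1) (Rat.single F₁ i F₁.one_mem)
    (Rat.single F₁ j F₁.one_mem)
  rw [herm_eq hF, frob_comp_single hF, single_dot_mulVec_single] at h
  exact h

/-- for rational `u`, `v`: `ζ 𝔥(Pu, Pv) = uᵀ (ζ G) v` -/
theorem herm_rat_eq (hF : Fintype.card F = q ^ 2) (F₁ : Subfield F) (hc : Nat.card F₁ = q)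
    (P : GL (Fin n) F) (ζ : F) (u : Fin n → F) {v : Fin n → F} (hv : ∀ i, v i ∈ F₁) :
    ζ * hermForm n F q ((P : Mat) *ᵥ u) ((P : Mat) *ᵥ v) = u ⬝ᵥ ((ζ • gram hF P) *ᵥ v) := by
  rw [herm_eq hF, frob_comp_of_rat hF F₁ hc hv, Matrix.smul_mulVec, dotProduct_smul, smul_eq_mul]

/-- `(ζ G)ᵀ = (ζ / ζ^q) (ζ G)` entrywise -/
theorem gram_symm (hF : Fintype.card F = q ^ 2) (F₁ : Subfield F) (hc : Nat.card F₁ = q)
    (P : GL (Fin n) F) (ζ : F) (hζ : ζ ≠ 0)
    (hrat : IsFormRationalStructure (hermForm n F q) F₁ ζ P) (i j : Fin n) :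
    ζ * gram hF P j i = (ζ / ζ ^ q) * (ζ * gram hF P i j) := by
  have h1 : gram hF P j i = frobQ hF (gram hF P i j) := by
    have := congrFun (congrFun (gram_transpose hF P) i) j
    simpa [Matrix.transpose_apply, Matrix.map_apply] using this
  have h2 := pow_q_of_mem F₁ hc (gram_rat hF F₁ P ζ hrat i j)
  rw [mul_pow, ← frobQ_apply hF (gram hF P i j)] at h2
  have hζq : ζ ^ q ≠ 0 := pow_ne_zero q hζ
  rw [h1]
  field_simp
  rw [← h2]
  ring


theorem lambda_sq (hF : Fintype.card F = q ^ 2) (hn : 0 < n) (F₁ : Subfield F)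
    (hc : Nat.card F₁ = q) (P : GL (Fin n) F) (ζ : F) (hζ : ζ ≠ 0)
    (hrat : IsFormRationalStructure (hermForm n F q) F₁ ζ P) :
    ζ / ζ ^ q = 1 ∨ ζ / ζ ^ q = -1 := by
  have hne : gram hF P ≠ 0 := by
    intro h0
    have hd := det_gram_ne_zero hF P
    rw [h0] at hd
    haveI hne' : Nonempty (Fin n) := ⟨⟨0, hn⟩⟩
    exact hd Matrix.det_zero
  have hex : ∃ i j, gram hF P i j ≠ 0 := by
    by_contra hcon
    apply hne
    ext i j
    by_contra hij
    exact hcon ⟨i, j, hij⟩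
  obtain ⟨i, j, hij⟩ := hex
  have h1 := gram_symm hF F₁ hc P ζ hζ hrat i j
  have h2 := gram_symm hF F₁ hc P ζ hζ hrat j i
  rw [h1] at h2
  have hx : ζ * gram hF P i j ≠ 0 := mul_ne_zero hζ hij
  have h3 : (ζ / ζ ^ q) * (ζ / ζ ^ q) = 1 := by
    have h4 : (ζ / ζ ^ q * (ζ / ζ ^ q) - 1) * (ζ * gram hF P i j) = 0 := by
      rw [sub_mul, one_mul, mul_assoc, ← h2, sub_self]
    rcases mul_eq_zero.mp h4 with h5 | h5
    · exact sub_eq_zero.mp h5
    · exact absurd h5 hx
  exact mul_self_eq_one_iff.mp h3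

/-! ### the quadratic map `u ↦ uᵀ (ζ G) u` -/

/-- `uᵀ (ζ G) u = ζ 𝔥(P u, P ū)` -/
theorem Qf_eq (hF : Fintype.card F = q ^ 2) (P : GL (Fin n) F) (ζ : F) (v : Fin n → F) :
    v ⬝ᵥ ((ζ • gram hF P) *ᵥ v) =
      ζ * hermForm n F q ((P : Mat) *ᵥ v) ((P : Mat) *ᵥ (frobQ hF ∘ v)) := by
  rw [herm_eq hF, frob_comp_frob hF, Matrix.smul_mulVec, dotProduct_smul, smul_eq_mul]

theorem dot_mulVec_comm (G : Mat) (u v : Fin n → F) :
    v ⬝ᵥ (G *ᵥ u) = u ⬝ᵥ (Gᵀ *ᵥ v) := by
  rw [Matrix.dotProduct_mulVec, ← Matrix.mulVec_transpose, dotProduct_comm]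

/-- skew-symmetric matrices in characteristic not two are alternating -/
theorem Qf_zero_of_skew (h2 : (2 : F) ≠ 0) (G : Mat) (hG : Gᵀ = -G) (u : Fin n → F) :
    u ⬝ᵥ (G *ᵥ u) = 0 := by
  have h := dot_mulVec_comm G u u
  rw [hG, Matrix.neg_mulVec, dotProduct_neg] at h
  have h3 : (2 : F) * (u ⬝ᵥ (G *ᵥ u)) = 0 := by
    rw [two_mul]
    nth_rewrite 1 [h]
    exact neg_add_cancel _
  rcases mul_eq_zero.mp h3 with h4 | h4
  · exact absurd h4 h2
  · exact h4

theorem Qf_add_of_symm [CharP F 2] (G : Mat) (hG : Gᵀ = G) (u v : Fin n → F) :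
    (u + v) ⬝ᵥ (G *ᵥ (u + v)) = u ⬝ᵥ (G *ᵥ u) + v ⬝ᵥ (G *ᵥ v) := by
  have h := dot_mulVec_comm G u v
  rw [hG] at h
  rw [Matrix.mulVec_add, add_dotProduct, dotProduct_add, dotProduct_add, h]
  have : u ⬝ᵥ (G *ᵥ v) + u ⬝ᵥ (G *ᵥ v) = 0 := CharTwo.add_self_eq_zero _
  linear_combination this

theorem Qf_smul (G : Mat) (c : F) (u : Fin n → F) :
    (c • u) ⬝ᵥ (G *ᵥ (c • u)) = c * c * (u ⬝ᵥ (G *ᵥ u)) := by
  rw [Matrix.mulVec_smul, smul_dotProduct, dotProduct_smul, smul_eq_mul, smul_eq_mul, mul_assoc]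

/-- the zero set of the quadratic map of a symmetric matrix in characteristic two -/
def zeroSet [CharP F 2] (G : Mat) (hG : Gᵀ = G) : Submodule F (Fin n → F) where
  carrier := {u | u ⬝ᵥ (G *ᵥ u) = 0}
  add_mem' := by
    intro a b ha hb
    change _ = _ at ha hb ⊢
    rw [Qf_add_of_symm G hG, ha, hb, add_zero]
  zero_mem' := by simp
  smul_mem' := by
    intro c u hu
    change _ = _ at hu ⊢
    rw [Qf_smul, hu, mul_zero]

theorem mem_zeroSet [CharP F 2] (G : Mat) (hG : Gᵀ = G) (u : Fin n → F) :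
    u ∈ zeroSet G hG ↔ u ⬝ᵥ (G *ᵥ u) = 0 := Iff.rfl

theorem zeroSet_ne_bot [CharP F 2] (hn : 2 ≤ n) (G : Mat) (hG : Gᵀ = G) : zeroSet G hG ≠ ⊥ := by
  have hchar : ringChar F = 2 := (ringChar.eq F 2).symm ▸ rfl
  set i0 : Fin n := ⟨0, by omega⟩ with hi0
  set i1 : Fin n := ⟨1, by omega⟩ with hi1
  have h01 : i1 ≠ i0 := by
    intro h
    have := congrArg Fin.val h
    simp [hi0, hi1] at this
  set e0 : Fin n → F := Pi.single i0 1 with he0
  set e1 : Fin n → F := Pi.single i1 1 with he1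
  by_cases h0 : e0 ⬝ᵥ (G *ᵥ e0) = 0
  · intro hbot
    have hmem : e0 ∈ zeroSet G hG := h0
    rw [hbot, Submodule.mem_bot] at hmem
    have := congrFun hmem i0
    simp [he0] at this
  · obtain ⟨c, hc⟩ := FiniteField.isSquare_of_char_two hchar (e1 ⬝ᵥ (G *ᵥ e1) / e0 ⬝ᵥ (G *ᵥ e0))
    intro hbot
    have hmem : c • e0 + e1 ∈ zeroSet G hG := by
      rw [mem_zeroSet, Qf_add_of_symm G hG, Qf_smul, ← hc, div_mul_cancel₀ _ h0]
      exact CharTwo.add_self_eq_zero _
    rw [hbot, Submodule.mem_bot] at hmem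
    have := congrFun hmem i1
    simp [he0, he1, Pi.single_apply, h01] at this


/-! ### the elements of the subfield subgroup -/

theorem exists_rat_of_mem_subfieldSubgroup (F₁ : Subfield F) (P k : GL (Fin n) F)
    (hk : k ∈ subfieldSubgroup F₁ P) :
    ∃ (g : GL (Fin n) F) (c : F), c ≠ 0 ∧ RatMat F₁ (c • (g : Mat)) ∧ k * P = P * g := by
  obtain ⟨g, hg, rfl⟩ := hk
  have hg' : g ∈ ratUpTo (ι := Fin n) F₁ := by
    rw [← sup_eq_ratUpTo]
    exact hg
  obtain ⟨c, hc, hrat⟩ := mem_ratUpTo_iff.mp hg'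
  refine ⟨g, c, hc, hrat, ?_⟩
  simp [MulAut.conj_apply]

theorem mulVec_inv_cancel (P : GL (Fin n) F) (u : Fin n → F) :
    ((P⁻¹ : GL (Fin n) F) : Mat) *ᵥ ((P : Mat) *ᵥ u) = u := by
  rw [Matrix.mulVec_mulVec, ← Units.val_mul, inv_mul_cancel, Units.val_one, Matrix.one_mulVec]

/-- the zero set of `u ↦ uᵀ (ζ G) u` is invariant under the rational parts of the elements of `K` -/
theorem Qf_zero_of_mem (hF : Fintype.card F = q ^ 2) (F₁ : Subfield F) (hc1 : Nat.card F₁ = q)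
    (P k g : GL (Fin n) F) (c : F) (hc : c ≠ 0) (hrat : RatMat F₁ (c • (g : Mat)))
    (hkP : k * P = P * g) (m : F)
    (hsim : ∀ u v, hermForm n F q ((k : Mat) *ᵥ u) ((k : Mat) *ᵥ v) = m * hermForm n F q u v)
    (ζ : F) (u : Fin n → F) (hu : u ⬝ᵥ ((ζ • gram hF P) *ᵥ u) = 0) :
    ((g : Mat) *ᵥ u) ⬝ᵥ ((ζ • gram hF P) *ᵥ ((g : Mat) *ᵥ u)) = 0 := by
  rw [Qf_eq] at hu ⊢
  have hφc : frobQ hF c ≠ 0 := (map_ne_zero (frobQ hF)).mpr hc
  have hφg : ∀ i j, frobQ hF ((g : Mat) i j) = c / frobQ hF c * (g : Mat) i j := by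
    intro i j
    have h1 := pow_q_of_mem F₁ hc1 (hrat i j)
    rw [Matrix.smul_apply, smul_eq_mul, ← frobQ_apply hF, map_mul] at h1
    field_simp
    rw [mul_comm]
    exact h1
  have hcomp : frobQ hF ∘ ((g : Mat) *ᵥ u) =
      (c / frobQ hF c) • ((g : Mat) *ᵥ (frobQ hF ∘ u)) := by
    funext i
    simp only [Function.comp_apply, Matrix.mulVec, dotProduct, Pi.smul_apply, smul_eq_mul, map_sum,
      map_mul, Finset.mul_sum]
    apply Finset.sum_congr rfl
    intro j _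
    rw [hφg i j]
    ring
  have h1 : ∀ w : Fin n → F, (P : Mat) *ᵥ ((g : Mat) *ᵥ w) = (k : Mat) *ᵥ ((P : Mat) *ᵥ w) := by
    intro w
    rw [Matrix.mulVec_mulVec, Matrix.mulVec_mulVec, ← Units.val_mul, ← Units.val_mul, hkP]
  rw [hcomp, Matrix.mulVec_smul, h1, h1, hermForm_smul_right, hsim]
  linear_combination ((c / frobQ hF c) ^ q * m) * hu

theorem Qf_zero_of_irreducible [CharP F 2] (hF : Fintype.card F = q ^ 2) (hn : 2 ≤ n)
    (K : Subgroup (GL (Fin n) F)) (hKΔ : K ≤ similarityGroup (hermForm n F q))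
    (hK : ActsIrreducibly (matrixSet K)) (F₁ : Subfield F) (hc1 : Nat.card F₁ = q)
    (P : GL (Fin n) F) (hKP : K ≤ subfieldSubgroup F₁ P) (ζ : F)
    (hG : (ζ • gram hF P)ᵀ = ζ • gram hF P) (u : Fin n → F) :
    u ⬝ᵥ ((ζ • gram hF P) *ᵥ u) = 0 := by
  set W := zeroSet (ζ • gram hF P) hG with hW
  set W' := W.map (Matrix.toLin' (P : Mat)) with hW'
  have hinv : ∀ s ∈ matrixSet K, W'.map (Matrix.toLin' s) ≤ W' := by
    rintro _ ⟨k, hk, rfl⟩ y hy
    obtain ⟨x, hx, rfl⟩ := hy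
    obtain ⟨w, hw, rfl⟩ := hx
    obtain ⟨g, c, hc, hrat, hkP⟩ := exists_rat_of_mem_subfieldSubgroup F₁ P k (hKP hk)
    obtain ⟨m, hm⟩ := hKΔ hk
    refine ⟨(g : Mat) *ᵥ w, ?_, ?_⟩
    · exact Qf_zero_of_mem hF F₁ hc1 P k g c hc hrat hkP m hm ζ w hw
    · simp only [Matrix.toLin'_apply]
      rw [Matrix.mulVec_mulVec, Matrix.mulVec_mulVec, ← Units.val_mul, ← Units.val_mul, hkP]
  rcases hK W' hinv with h | h
  · exfalso
    obtain ⟨w, hw, hw0⟩ := (Submodule.ne_bot_iff _).mp (zeroSet_ne_bot hn (ζ • gram hF P) hG)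
    have h1 : (P : Mat) *ᵥ w ∈ W' := ⟨w, hw, by simp⟩
    rw [h, Submodule.mem_bot] at h1
    apply hw0
    rw [← mulVec_inv_cancel P w, h1, Matrix.mulVec_zero]
  · have h1 : (P : Mat) *ᵥ u ∈ W' := by rw [h]; exact Submodule.mem_top
    obtain ⟨w, hw, hwu⟩ := h1
    simp only [Matrix.toLin'_apply] at hwu
    have h2 : w = u := by
      rw [← mulVec_inv_cancel P w, hwu, mulVec_inv_cancel]
    rw [h2] at hw
    exact hw

/-! ### the keystone -/

/-- **K-S5663-C6c.** -/
theorem ugeom_of_subfield_two (hF : Fintype.card F = q ^ 2) (hn : 2 ≤ n) (K : Subgroup (GL (Fin n) F))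
    (hKΔ : K ≤ similarityGroup (hermForm n F q)) (hK : ActsIrreducibly (matrixSet K))
    (F₁ : Subfield F) (hcard : Fintype.card F = Nat.card F₁ ^ 2) (P : GL (Fin n) F)
    (hKP : K ≤ subfieldSubgroup F₁ P) (ζ : F) (hζ : ζ ≠ 0)
    (hrat : IsFormRationalStructure (hermForm n F q) F₁ ζ P) : UGeom n q K := by
  have hc1 := card_subfield_eq hF F₁ hcard
  have hq1 : 1 < q := one_lt_q hF
  have hζq0 : ζ ^ q ≠ 0 := pow_ne_zero q hζ
  have hlam := lambda_sq hF (by omega) F₁ hc1 P ζ hζ hrat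
  have hsym : ∀ i j, (ζ • gram hF P) j i = (ζ / ζ ^ q) * (ζ • gram hF P) i j := by
    intro i j
    rw [Matrix.smul_apply, Matrix.smul_apply, smul_eq_mul, smul_eq_mul]
    exact gram_symm hF F₁ hc1 P ζ hζ hrat i j
  have alt7 : ζ + ζ ^ q = 0 → (∀ u, u ⬝ᵥ ((ζ • gram hF P) *ᵥ u) = 0) → UGeom n q K := by
    intro hζq hQ
    have hEven : Even n := by
      let B : LinearMap.BilinForm F (Fin n → F) := Matrix.toBilin' (ζ • gram hF P)
      have hA : B.IsAlt := fun u => by
        change Matrix.toBilin' (ζ • gram hF P) u u = 0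
        rw [Matrix.toBilin'_apply']
        exact hQ u
      have hN : B.Nondegenerate := by
        change (Matrix.toBilin' (ζ • gram hF P)).Nondegenerate
        rw [Matrix.nondegenerate_toBilin'_iff]
        apply Matrix.nondegenerate_of_det_ne_zero
        rw [Matrix.det_smul]
        exact mul_ne_zero (pow_ne_zero _ hζ) (det_gram_ne_zero hF P)
      have := Cfsg.Agent.Lib.Helper43.even_finrank_of_isAlt_nondegenerate B hA hN
      rwa [Module.finrank_fin_fun] at this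
    refine ⟨subfieldSubgroup F₁ P ⊓ GU n F q, Or.inl ?_, inf_le_inf_right _ hKP⟩
    refine Or.inr (Or.inr (Or.inr (Or.inr (Or.inr (Or.inr (Or.inl
      ⟨F₁, P, ζ, hEven, hcard, hζ, hζq, hrat, ?_, rfl⟩))))))
    intro u hu
    have h1 := herm_rat_eq hF F₁ hc1 P ζ u hu
    rw [hQ u] at h1
    exact (mul_eq_zero.mp h1).resolve_left hζ
  by_cases hodd : Odd q
  · have h2 : (2 : F) ≠ 0 := by
      intro h20
      have hch : ringChar F = 2 := CharP.ringChar_of_prime_eq_zero Nat.prime_two h20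
      have h3 := FiniteField.even_card_iff_char_two.mp hch
      rw [hF] at h3
      have h4 : Odd (q ^ 2) := hodd.pow
      rw [Nat.odd_iff] at h4
      omega
    rcases hlam with h1 | h1
    · have hζq : ζ ^ q = ζ := ((div_eq_one_iff_eq hζq0).mp h1).symm
      have hζmem : ζ ∈ F₁ := mem_of_pow_q hq1 F₁ hc1 hζq
      have hrat1 : IsFormRationalStructure (hermForm n F q) F₁ 1 P := by
        intro u v hu hv
        rw [one_mul]
        have := F₁.mul_mem (F₁.inv_mem hζmem) (hrat u v hu hv)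
        rwa [← mul_assoc, inv_mul_cancel₀ hζ, one_mul] at this
      refine ⟨subfieldSubgroup F₁ P ⊓ GU n F q, Or.inl ?_, inf_le_inf_right _ hKP⟩
      exact Or.inr (Or.inr (Or.inr (Or.inr (Or.inr (Or.inl ⟨F₁, P, hodd, hcard, hrat1, rfl⟩)))))
    · have hζq : ζ + ζ ^ q = 0 := by
        have := (div_eq_iff hζq0).mp h1
        linear_combination this
      apply alt7 hζq
      have hGt : (ζ • gram hF P)ᵀ = -(ζ • gram hF P) := by
        ext i j
        rw [Matrix.transpose_apply, hsym i j, h1, Matrix.neg_apply]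
        ring
      exact Qf_zero_of_skew h2 _ hGt
  · have hev : Even q := Nat.not_odd_iff_even.mp hodd
    have hch : ringChar F = 2 := by
      apply FiniteField.even_card_iff_char_two.mpr
      rw [hF]
      have : Even (q ^ 2) := Nat.even_pow.mpr ⟨hev, by norm_num⟩
      exact Nat.even_iff.mp this
    haveI : CharP F 2 := ringChar.of_eq hch
    have hlam1 : ζ / ζ ^ q = 1 := by
      rcases hlam with h | h
      · exact h
      · rw [h]; exact CharTwo.neg_eq 1
    have hζq' : ζ ^ q = ζ := ((div_eq_one_iff_eq hζq0).mp hlam1).symm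
    have hζq : ζ + ζ ^ q = 0 := by rw [hζq']; exact CharTwo.add_self_eq_zero ζ
    apply alt7 hζq
    have hGt : (ζ • gram hF P)ᵀ = ζ • gram hF P := by
      ext i j
      rw [Matrix.transpose_apply, hsym i j, hlam1, one_mul]
    exact Qf_zero_of_irreducible hF hn K hKΔ hK F₁ hc1 P hKP ζ hGt

end Cfsg.Agent.Lib.Helper65.AschU
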