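import Mathlib

/-!
# Keystone 254523 (K-StSp-A4): the double coset axiom `s B n ⊆ B s n B ∪ B n B` from the decomposition,
the dichotomy and the rank one identity.
-/

set_option autoImplicit false

namespace Cfsg.Agent.Lib.Helper65.StSp

theorem mul_mem_union_of {G : Type*} [Group G] {K : Type*} [Zero K] (B T : Subgroup G)
    (hTB : T ≤ B) (s n : G) (x y : K → G) (hx : ∀ t, x t ∈ B) (hx0 : x 0 = 1)
    (h1 : ∀ b ∈ B, ∃ b' ∈ B, ∃ t, b = b' * x t ∧ s * b' * s⁻¹ ∈ B)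
    (h2 : (∀ t, n⁻¹ * x t * n ∈ B) ∨ (∀ t, n⁻¹ * y t * n ∈ B))
    (h3 : ∀ t, t ≠ 0 → ∃ t' t'', ∃ h ∈ T, s * x t = x t' * h * y t'')
    (hn : ∀ h ∈ T, n⁻¹ * h * n ∈ B) (b : G) (hb : b ∈ B) :
    s * b * n ∈ DoubleCoset.doubleCoset (s * n) (B : Set G) B ∪
      DoubleCoset.doubleCoset n (B : Set G) B := by
  classical
  obtain ⟨b', hb', t, rfl, hsb⟩ := h1 b hb
  rcases h2 with h2 | h2
  · -- `n⁻¹ x(t) n ∈ B`
    left
    rw [DoubleCoset.mem_doubleCoset]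
    refine ⟨s * b' * s⁻¹, hsb, n⁻¹ * x t * n, h2 t, ?_⟩
    group
  · by_cases ht : t = 0
    · left
      rw [DoubleCoset.mem_doubleCoset]
      refine ⟨s * b' * s⁻¹, hsb, 1, one_mem _, ?_⟩
      rw [ht, hx0]
      group
    · right
      obtain ⟨t', t'', h, hh, heq⟩ := h3 t ht
      rw [DoubleCoset.mem_doubleCoset]
      refine ⟨s * b' * s⁻¹ * x t', mul_mem hsb (hx t'),
        (n⁻¹ * h * n) * (n⁻¹ * y t'' * n), mul_mem (hn h hh) (h2 t''), ?_⟩
      have e1 : s * (b' * x t) * n = s * b' * s⁻¹ * (s * x t) * n := by group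
      rw [e1, heq]
      group

end Cfsg.Agent.Lib.Helper65.StSp
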