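import Cfsg.Agent.Lib.Helper49.StSUDefs

/-!
# Keystone 254602 (K-StSU-E1): the short reflections of `SU_n(q)` have the expected matrices.
-/

set_option autoImplicit false
set_option linter.unusedSectionVars false
set_option linter.unusedVariables false

namespace Cfsg.Agent.Lib.Helper65.StSU

open Matrix Cfsg Cfsg.Agent.Lib.Helper49.StSU

variable {n : ℕ} {F : Type*} [Field F] {q : ℕ}

/-- the permutation `(i, i+1)(n-1-i, n-2-i)` -/
def sig (i : ℕ) (hi : i + 1 < n / 2) : Equiv.Perm (Fin n) :=
  Equiv.swap (⟨i, by omega⟩ : Fin n) ⟨i + 1, by omega⟩ *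
    Equiv.swap (⟨n - 1 - i, by omega⟩ : Fin n) ⟨n - 2 - i, by omega⟩

theorem swap_val (a b y : Fin n) : (Equiv.swap a b y).val =
    if y.val = a.val then b.val else if y.val = b.val then a.val else y.val := by
  rw [Equiv.swap_apply_def]
  simp only [Fin.ext_iff]
  split_ifs <;> rfl

theorem sig_val (i : ℕ) (hi : i + 1 < n / 2) (y : Fin n) :
    ((sig i hi) y).val = tau n i y.val := by
  unfold sig tau
  rw [Equiv.Perm.mul_apply, swap_val, swap_val]
  simp only []
  split_ifs <;> omega

theorem tau_tau (i : ℕ) (hi : i + 1 < n / 2) (v : ℕ) : tau n i (tau n i v) = v := by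
  unfold tau
  split_ifs <;> omega

theorem sig_sig (i : ℕ) (hi : i + 1 < n / 2) (y : Fin n) : sig i hi (sig i hi y) = y := by
  apply Fin.ext
  rw [sig_val, sig_val, tau_tau i hi]

theorem sig_rev (i : ℕ) (hi : i + 1 < n / 2) (y : Fin n) :
    sig i hi (Fin.rev y) = Fin.rev (sig i hi y) := by
  apply Fin.ext
  have hy := y.2
  rw [sig_val, Fin.val_rev, Fin.val_rev, sig_val]
  unfold tau
  split_ifs <;> omega

theorem sShortMat_eq (i : ℕ) (hi : i + 1 < n / 2) :
    sShortMat n F i = (sig i hi).permMatrix F := by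
  ext x y
  show sShortMat n F i x y = (sig i hi).toPEquiv.toMatrix x y
  rw [PEquiv.toMatrix_apply]
  simp only [sShortMat, Equiv.toPEquiv_apply, Option.mem_def, Option.some.injEq]
  have h : (x.val = tau n i y.val) ↔ (sig i hi x = y) := by
    rw [← sig_val i hi y, ← Fin.ext_iff]
    constructor
    · intro h; rw [h, sig_sig]
    · intro h; rw [← h, sig_sig]
  exact if_congr h rfl rfl

theorem det_sShortMat (i : ℕ) (hi : i + 1 < n / 2) : (sShortMat n F i).det = 1 := by
  rw [sShortMat_eq i hi, Matrix.det_permutation]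
  have h : Equiv.Perm.sign (sig i hi) = 1 := by
    unfold sig
    rw [Equiv.Perm.sign_mul, Equiv.Perm.sign_swap, Equiv.Perm.sign_swap]
    · norm_num
    · intro h
      have h1 := congrArg Fin.val h
      simp only [] at h1
      omega
    · intro h
      have h1 := congrArg Fin.val h
      simp only [] at h1
      omega
  rw [h]
  simp

theorem hJ_sShortMat (i : ℕ) (hi : i + 1 < n / 2) (u v : Fin n → F) :
    hJ n F q (sShortMat n F i *ᵥ u) (sShortMat n F i *ᵥ v) = hJ n F q u v := by
  rw [sShortMat_eq i hi, Matrix.permMatrix_mulVec, Matrix.permMatrix_mulVec]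
  unfold hJ
  simp only [Function.comp_apply]
  rw [← Equiv.sum_comp (sig i hi) (fun x => u x * (v (Fin.rev x)) ^ q)]
  apply Finset.sum_congr rfl
  intro x _
  rw [sig_rev]

/-- LEAF E1 (254602) -/
theorem mat_sShort (i : ℕ) (hi : i + 1 < n / 2) :
    mat (sShort n F q i) = sShortMat n F i := by
  unfold sShort
  exact mat_mk _ (det_sShortMat i hi) (hJ_sShortMat i hi)

end Cfsg.Agent.Lib.Helper65.StSU
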