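import Cfsg.Agent.Lib.Helper49.StSpDefs

/-!
# Keystone 254518 (K-StSp-C9): the diagonal torus `T` of `Sp_{2m}(F)` is a `p'`-group.
-/

set_option autoImplicit false
set_option linter.unusedSectionVars false

namespace Cfsg.Agent.Lib.Helper65.StSp

open Cfsg Cfsg.Agent.Lib.Helper49.StSp

variable {m : ℕ} {F : Type*} [Field F]

/-- an element of `T` has a diagonal matrix -/
theorem coe_eq_diagonal_of_mem_T (g : SpG m F) (hg : g ∈ Tsub m F) :
    (g.1 : Matrix (Fin m ⊕ Fin m) (Fin m ⊕ Fin m) F) =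
      Matrix.diagonal (fun a => (g.1 : Matrix (Fin m ⊕ Fin m) (Fin m ⊕ Fin m) F) a a) := by
  ext a b
  by_cases h : a = b
  · subst h; simp
  · rw [(mem_Tsub_iff g).1 hg a b h, Matrix.diagonal_apply_ne _ h]

theorem diag_ne_zero_of_mem_T (g : SpG m F) (hg : g ∈ Tsub m F) (a : Fin m ⊕ Fin m) :
    (g.1 : Matrix (Fin m ⊕ Fin m) (Fin m ⊕ Fin m) F) a a ≠ 0 := by
  have hdet := isUnit_det_coe g
  rw [coe_eq_diagonal_of_mem_T g hg, Matrix.det_diagonal] at hdet
  intro h0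
  have : (∏ i, (g.1 : Matrix (Fin m ⊕ Fin m) (Fin m ⊕ Fin m) F) i i) = 0 :=
    Finset.prod_eq_zero (Finset.mem_univ a) h0
  rw [this] at hdet
  exact not_isUnit_zero hdet

theorem pow_card_sub_one_of_mem_T [Fintype F] (g : SpG m F) (hg : g ∈ Tsub m F) :
    g ^ (Fintype.card F - 1) = 1 := by
  apply Subtype.ext
  rw [SubmonoidClass.coe_pow, coe_eq_diagonal_of_mem_T g hg, Matrix.diagonal_pow]
  show _ = (1 : Matrix (Fin m ⊕ Fin m) (Fin m ⊕ Fin m) F)
  rw [← Matrix.diagonal_one]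
  congr 1
  funext a
  exact FiniteField.pow_card_sub_one_eq_one _ (diag_ne_zero_of_mem_T g hg a)

/-- K-StSp-C9 -/
theorem not_dvd_card_T [Fintype F] (p : ℕ) [Fact p.Prime] [CharP F p] :
    ¬ p ∣ Nat.card (Tsub m F) := by
  classical
  intro hp
  have : Finite (SpG m F) := inferInstance
  obtain ⟨t, ht⟩ := exists_prime_orderOf_dvd_card' p hp
  have h1 : (t : SpG m F) ^ (Fintype.card F - 1) = 1 := pow_card_sub_one_of_mem_T _ t.2
  have h2 : orderOf (t : SpG m F) ∣ Fintype.card F - 1 := orderOf_dvd_of_pow_eq_one h1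
  rw [Subgroup.orderOf_coe, ht] at h2
  obtain ⟨n, hn⟩ := FiniteField.card F p
  have h3 : p ∣ Fintype.card F := by
    rw [hn.2]
    exact dvd_pow_self p n.ne_zero
  have hpos : 0 < Fintype.card F := Fintype.card_pos
  have h4 : p ∣ 1 := by
    have h5 : Fintype.card F - 1 + 1 = Fintype.card F := Nat.sub_add_cancel hpos
    have h6 : p ∣ Fintype.card F - 1 + 1 := by rw [h5]; exact h3
    exact (Nat.dvd_add_right h2).1 h6
  exact (Fact.out : p.Prime).one_lt.ne' (Nat.dvd_one.1 h4)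

end Cfsg.Agent.Lib.Helper65.StSp
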