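import Mathlib
import Cfsg.Agent.Lib.Helper73.RUDefs

set_option autoImplicit false

/-!
# Definitions for the sub-pack K-RU5 (S2279, the field step for ALL finite fields)

`cvec k = aMat^k e_last` (entries `C(k, last - i)`), `rho r = e_0ᵀ aMat^(-r)` (entries `(-1)^i C(r + i - 1, i)`).
-/

namespace Cfsg.Agent.Lib.Helper65.RU5

open Matrix Cfsg.Agent.Lib.Helper73.RU

variable (m : ℕ) (F : Type*) [Field F]

/-- `c_k = a^k e_last`: entries `C(k, last - i)` -/
def cvec (k : ℕ) : Fin (m + 3) → F := fun i => ((Nat.choose k (m + 2 - i.val) : ℕ) : F)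

/-- `ρ_r = e_0ᵀ a^(-r)`: entries `(-1)^i C(r + i - 1, i)` -/
def rho (r : ℕ) : Fin (m + 3) → F :=
  fun i => (-1) ^ i.val * ((Nat.choose (r + i.val - 1) i.val : ℕ) : F)

end Cfsg.Agent.Lib.Helper65.RU5
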