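import Cfsg.Agent.Lib.Helper53.StOmDefs

/-!
# K-StOm pack (S2549), leaf F2P (254907, helper65): the dichotomy for a BLOCK monomial matrix and a
simple root `ε_i - ε_{i+1}` (port of `Lib/Helper32/StOF2P.lean`).  The matrix of `xPerm i j t`
(leaf R0b) is re-proved locally (`f2p_mat_xPerm`) so that this file depends on the Defs only.
-/

set_option autoImplicit false
set_option linter.unusedSectionVars false
set_option linter.unusedVariables false

namespace Cfsg.Agent.Lib.Helper65.StOm

open Cfsg Cfsg.Agent.Lib.Helper53.StOm Matrix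

variable {m : ℕ} {F : Type*} [Field F] {a b : F}

/-! ### the matrix of `xPerm i j t` (local copy of leaf R0b) -/

theorem f2p_xPermMat_mul_neg (i j : Fin m) (hij : i ≠ j) (t : F) :
    xPermMat m F i j t * xPermMat m F i j (-t) = 1 := by
  unfold xPermMat
  have h1 : (eI j : MI m) ≠ eI i := fun h => hij (Sum.inl.inj (Sum.inl.inj h)).symm
  have h2 : (eI j : MI m) ≠ fI j := fun h => by cases h
  have h3 : (fI i : MI m) ≠ eI i := fun h => by cases h
  have h4 : (fI i : MI m) ≠ fI j := fun h => hij (Sum.inr.inj (Sum.inl.inj h))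
  simp only [Matrix.add_mul, Matrix.mul_add, Matrix.sub_mul, Matrix.mul_sub, Matrix.one_mul,
    Matrix.mul_one, Matrix.single_mul_single_of_ne _ _ _ _ h1, Matrix.single_mul_single_of_ne _ _ _ _ h2,
    Matrix.single_mul_single_of_ne _ _ _ _ h3, Matrix.single_mul_single_of_ne _ _ _ _ h4]
  rw [← Matrix.single_neg, ← Matrix.single_neg]
  abel

theorem f2p_xPermMat_mulVec_zI (i j : Fin m) (t : F) (u : MI m → F) (k : Fin 2) :
    (xPermMat m F i j t *ᵥ u) (zI k) = u (zI k) := by
  unfold xPermMat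
  rw [Matrix.sub_mulVec, Matrix.add_mulVec, Matrix.one_mulVec, Matrix.single_mulVec,
    Matrix.single_mulVec]
  simp

theorem f2p_xPermMat_mulVec_eI (i j : Fin m) (t : F) (u : MI m → F) (c : Fin m) :
    (xPermMat m F i j t *ᵥ u) (eI c) = u (eI c) + if c = i then t * u (eI j) else 0 := by
  unfold xPermMat
  rw [Matrix.sub_mulVec, Matrix.add_mulVec, Matrix.one_mulVec, Matrix.single_mulVec,
    Matrix.single_mulVec]
  simp [Function.update_apply]

theorem f2p_xPermMat_mulVec_fI (i j : Fin m) (t : F) (u : MI m → F) (c : Fin m) :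
    (xPermMat m F i j t *ᵥ u) (fI c) = u (fI c) - if c = j then t * u (fI i) else 0 := by
  unfold xPermMat
  rw [Matrix.sub_mulVec, Matrix.add_mulVec, Matrix.one_mulVec, Matrix.single_mulVec,
    Matrix.single_mulVec]
  simp [Function.update_apply]

theorem f2p_quad_xPermMat (i j : Fin m) (hij : i ≠ j) (t : F) (u : MI m → F) :
    Cfsg.quadFormMinus m F a b (xPermMat m F i j t *ᵥ u) = Cfsg.quadFormMinus m F a b u := by
  unfold Cfsg.quadFormMinus
  have hz := f2p_xPermMat_mulVec_zI i j t u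
  have he := f2p_xPermMat_mulVec_eI i j t u
  have hf := f2p_xPermMat_mulVec_fI i j t u
  change (∑ c : Fin m, (xPermMat m F i j t *ᵥ u) (eI c) * (xPermMat m F i j t *ᵥ u) (fI c)) +
      ((xPermMat m F i j t *ᵥ u) (zI 0) ^ 2 +
        a * (xPermMat m F i j t *ᵥ u) (zI 0) * (xPermMat m F i j t *ᵥ u) (zI 1) +
        b * (xPermMat m F i j t *ᵥ u) (zI 1) ^ 2) =
    (∑ c : Fin m, u (eI c) * u (fI c)) + (u (zI 0) ^ 2 + a * u (zI 0) * u (zI 1) + b * u (zI 1) ^ 2)
  rw [hz, hz]
  congr 1
  simp only [he, hf]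
  have key : ∀ c : Fin m,
      (u (eI c) + if c = i then t * u (eI j) else 0) *
        (u (fI c) - if c = j then t * u (fI i) else 0) =
      u (eI c) * u (fI c) + (if c = i then t * u (eI j) * u (fI i) else 0) -
        (if c = j then t * u (eI j) * u (fI i) else 0) := by
    intro c
    by_cases h1 : c = i
    · have h2 : c ≠ j := fun h => hij (h1.symm.trans h)
      rw [if_pos h1, if_neg h2, if_pos h1, if_neg h2, h1]
      ring
    · by_cases h2 : c = j
      · rw [if_neg h1, if_pos h2, if_neg h1, if_pos h2, h2]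
        ring
      · rw [if_neg h1, if_neg h2, if_neg h1, if_neg h2]
        ring
  simp only [key]
  rw [Finset.sum_sub_distrib, Finset.sum_add_distrib, Finset.sum_ite_eq' Finset.univ i,
    Finset.sum_ite_eq' Finset.univ j]
  simp

theorem f2p_mat_xPerm (i j : Fin m) (hij : i ≠ j) (t : F) :
    mat (xPerm m F a b i j t) = xPermMat m F i j t := by
  unfold xPerm
  refine mat_ofMat _ (exists_of_isometry (xPermMat m F i j t) (xPermMat m F i j (-t))
    (f2p_xPermMat_mul_neg i j hij t) ?_ (f2p_quad_xPermMat i j hij t))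
  have := f2p_xPermMat_mul_neg i j hij (-t)
  rwa [neg_neg] at this

/-! ### conjugation by a block monomial matrix -/

/-- conjugating by a block monomial matrix: it is enough that the non-zero entries `(p, q)` of `X`
satisfy `pos (σ⁻¹ p) ≤ pos (σ⁻¹ q)` -/
theorem f2p_conj_mem_B_of (n X : OG m F a b) (σ : Equiv.Perm (MI m)) (hn : MonWith m F a b n σ)
    (h : ∀ p q, mat X p q ≠ 0 → pos m (σ.symm p) ≤ pos m (σ.symm q)) :
    n⁻¹ * X * n ∈ Bsub m F a b := by
  rw [mem_Bsub_iff]
  intro u v huv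
  rw [mat_mul, mat_mul, Matrix.mul_apply]
  apply Finset.sum_eq_zero
  intro q _
  by_cases hq : mat n q v = 0
  · rw [hq, mul_zero]
  rw [Matrix.mul_apply, Finset.sum_mul]
  apply Finset.sum_eq_zero
  intro p _
  by_cases hp : mat n⁻¹ u p = 0
  · rw [hp, zero_mul, zero_mul]
  by_cases hX : mat X p q = 0
  · rw [hX, mul_zero, zero_mul]
  exfalso
  have h1 : pos m u = pos m (σ.symm p) := hn.2.1 u p hp
  have h2 : pos m q = pos m (σ v) := hn.1 q v hq
  have h3 : pos m (σ.symm q) = pos m (σ.symm (σ v)) :=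
    pos_perm_congr m σ.symm (symm_dualE m σ hn.2.2) q (σ v) h2
  rw [Equiv.symm_apply_apply] at h3
  have h4 := h p q hX
  omega

/-- the off-diagonal entries of a root element `x_{ε_i - ε_j}(t)` -/
theorem f2p_xPermMat_apply_eq_zero (i j : Fin m) (t : F) (p q : MI m) (hpq : p ≠ q)
    (h1 : ¬ (p = eI i ∧ q = eI j)) (h2 : ¬ (p = fI j ∧ q = fI i)) :
    xPermMat m F i j t p q = 0 := by
  unfold xPermMat
  rw [Matrix.sub_apply, Matrix.add_apply, Matrix.one_apply_ne hpq, Matrix.single_apply,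
    Matrix.single_apply, if_neg, if_neg, zero_add, sub_zero]
  · rintro ⟨rfl, rfl⟩
    exact h2 ⟨rfl, rfl⟩
  · rintro ⟨rfl, rfl⟩
    exact h1 ⟨rfl, rfl⟩

theorem f2p_pos_le (x : MI m) : pos m x ≤ 2 * m := by
  rcases x with (x | x) | x <;> simp only [pos]
  · have := x.2; omega
  · omega
  · omega

/-- one half of the dichotomy, for arbitrary `i ≠ j` -/
theorem f2p_half (i j : Fin m) (hij : i ≠ j) (n : OG m F a b)
    (σ : Equiv.Perm (MI m)) (hn : MonWith m F a b n σ)
    (hlt : pos m (σ.symm (eI i)) < pos m (σ.symm (eI j))) (t : F) :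
    n⁻¹ * xPerm m F a b i j t * n ∈ Bsub m F a b := by
  apply f2p_conj_mem_B_of n _ σ hn
  intro p q hpq
  rw [f2p_mat_xPerm i j hij t] at hpq
  by_cases hne : p = q
  · rw [hne]
  by_cases h1 : p = eI i ∧ q = eI j
  · rw [h1.1, h1.2]; exact hlt.le
  by_cases h2 : p = fI j ∧ q = fI i
  · rw [h2.1, h2.2]
    have e1 : σ.symm (fI j) = dualE m (σ.symm (eI j)) := by
      rw [← symm_dualE m σ hn.2.2, dualE_eI]
    have e2 : σ.symm (fI i) = dualE m (σ.symm (eI i)) := by
      rw [← symm_dualE m σ hn.2.2, dualE_eI]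
    rw [e1, e2, pos_dualE, pos_dualE]
    omega
  exact absurd (f2p_xPermMat_apply_eq_zero i j t p q hne h1 h2) hpq

/-- **K-StOm leaf F2P** -/
theorem dich_perm (i : Fin m) (hi : i.val + 1 < m) (n : OG m F a b)
    (σ : Equiv.Perm (MI m)) (hn : MonWith m F a b n σ) :
    (∀ t : F, n⁻¹ * xPerm m F a b i (nxt i hi) t * n ∈ Bsub m F a b) ∨
      (∀ t : F, n⁻¹ * xPerm m F a b (nxt i hi) i t * n ∈ Bsub m F a b) := by
  have hne : pos m (σ.symm (eI i)) ≠ pos m (σ.symm (eI (nxt i hi))) := by
    intro e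
    rcases pos_eq_imp m _ _ e with h | ⟨h, _⟩
    · have := σ.symm.injective h
      exact ne_nxt i hi (Sum.inl_injective (Sum.inl_injective this))
    · rw [pos_eq_m_iff, ← symm_dualE m σ hn.2.2, dualE_eI] at h
      have := σ.symm.injective h
      cases this
  rcases lt_or_gt_of_ne hne with h | h
  · exact Or.inl fun t => f2p_half i (nxt i hi) (ne_nxt i hi) n σ hn h t
  · exact Or.inr fun t => f2p_half (nxt i hi) i (nxt_ne i hi) n σ hn h t

end Cfsg.Agent.Lib.Helper65.StOm
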