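import Mathlib
import Cfsg.Agent.Lib.Helper56.NSE3Defs

/-!
# K-NSE3 (S3996), keystone 399612: the arithmetic leaves L11 `ar_two`, L12 `ar_one_odd`, L13 `ar_two_odd`
(helper65, parallel hand)
-/

set_option autoImplicit false

namespace Cfsg.Agent.Lib.Helper65.NSE3

open Cfsg.Agent.S3995 (s)
open Cfsg.Agent.Lib.Helper56.NSE3 (Hyp)

variable {G : Type*} [Group G] [Finite G]

/-- a nonzero natural number whose prime factors lie in `{p, q}` is `p ^ a * q ^ b`. -/
theorem eq_pow_mul_pow_of_subset (N : ℕ) (hN : N ≠ 0) (p q : ℕ) (hpq : p ≠ q)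
    (hsub : N.primeFactors ⊆ {p, q}) :
    N = p ^ N.factorization p * q ^ N.factorization q := by
  conv_lhs => rw [← Nat.prod_factorization_pow_eq_self hN]
  rw [Finsupp.prod, Nat.support_factorization, Finset.prod_subset hsub, Finset.prod_pair hpq]
  intro x _ hx
  have h0 : N.factorization x = 0 := by
    rw [← Finsupp.notMem_support_iff, Nat.support_factorization]; exact hx
  rw [h0, pow_zero]

/-- L11 arithmetic: at most two primes. -/
theorem ar_two (N : ℕ) (hN : N ≠ 0)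
    (h : ∀ p q r : ℕ, p.Prime → q.Prime → r.Prime → p ∣ N → q ∣ N → r ∣ N →
      p ≠ q → p ≠ r → q ≠ r → False) :
    ∃ p q a b : ℕ, p.Prime ∧ q.Prime ∧ N = p ^ a * q ^ b := by
  have hcard : N.primeFactors.card ≤ 2 := by
    by_contra hlt
    rw [not_le] at hlt
    obtain ⟨a, ha, b, hb, c, hc, hab, hac, hbc⟩ := Finset.two_lt_card.mp hlt
    exact h a b c (Nat.prime_of_mem_primeFactors ha) (Nat.prime_of_mem_primeFactors hb)
      (Nat.prime_of_mem_primeFactors hc) (Nat.dvd_of_mem_primeFactors ha)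
      (Nat.dvd_of_mem_primeFactors hb) (Nat.dvd_of_mem_primeFactors hc) hab hac hbc
  -- choose two distinct primes covering the prime factors
  have hex : ∃ p q : ℕ, p.Prime ∧ q.Prime ∧ p ≠ q ∧ N.primeFactors ⊆ {p, q} := by
    rcases Nat.lt_or_ge N.primeFactors.card 2 with h2 | h2
    · rcases Nat.lt_or_ge N.primeFactors.card 1 with h1 | h1
      · have h0 : N.primeFactors = ∅ := Finset.card_eq_zero.mp (by omega)
        exact ⟨2, 3, Nat.prime_two, Nat.prime_three, by norm_num, by rw [h0]; exact Finset.empty_subset _⟩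
      · obtain ⟨p, hp⟩ := Finset.card_eq_one.mp (by omega : N.primeFactors.card = 1)
        have hpp : p.Prime := Nat.prime_of_mem_primeFactors (by rw [hp]; exact Finset.mem_singleton_self p)
        by_cases hp2 : p = 2
        · refine ⟨p, 3, hpp, Nat.prime_three, by omega, ?_⟩
          rw [hp]; intro x hx; rw [Finset.mem_singleton] at hx; rw [hx]; exact Finset.mem_insert_self _ _
        · refine ⟨p, 2, hpp, Nat.prime_two, hp2, ?_⟩
          rw [hp]; intro x hx; rw [Finset.mem_singleton] at hx; rw [hx]; exact Finset.mem_insert_self _ _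
    · obtain ⟨p, q, hpq, hS⟩ := Finset.card_eq_two.mp (by omega : N.primeFactors.card = 2)
      have hpp : p.Prime := Nat.prime_of_mem_primeFactors (by rw [hS]; exact Finset.mem_insert_self _ _)
      have hqp : q.Prime := Nat.prime_of_mem_primeFactors (by
        rw [hS]; exact Finset.mem_insert_of_mem (Finset.mem_singleton_self q))
      exact ⟨p, q, hpp, hqp, hpq, by rw [hS]⟩
  obtain ⟨p, q, hpp, hqp, hpq, hsub⟩ := hex
  exact ⟨p, q, N.factorization p, N.factorization q, hpp, hqp,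
    eq_pow_mul_pow_of_subset N hN p q hpq hsub⟩

/-- L12 arithmetic: at most one odd prime. -/
theorem ar_one_odd (N : ℕ) (hN : N ≠ 0)
    (h : ∀ p q : ℕ, p.Prime → q.Prime → p ≠ 2 → q ≠ 2 → p ∣ N → q ∣ N → p ≠ q → False) :
    ∃ q a b : ℕ, q.Prime ∧ N = 2 ^ a * q ^ b := by
  have hcard : (N.primeFactors.erase 2).card ≤ 1 := by
    by_contra hlt
    rw [not_le] at hlt
    obtain ⟨a, ha, b, hb, hab⟩ := Finset.one_lt_card.mp hlt
    have ha' := Finset.mem_erase.mp ha
    have hb' := Finset.mem_erase.mp hb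
    exact h a b (Nat.prime_of_mem_primeFactors ha'.2) (Nat.prime_of_mem_primeFactors hb'.2)
      ha'.1 hb'.1 (Nat.dvd_of_mem_primeFactors ha'.2) (Nat.dvd_of_mem_primeFactors hb'.2) hab
  have hex : ∃ q : ℕ, q.Prime ∧ (2 : ℕ) ≠ q ∧ N.primeFactors ⊆ {2, q} := by
    rcases Nat.lt_or_ge (N.primeFactors.erase 2).card 1 with h1 | h1
    · have h0 : N.primeFactors.erase 2 = ∅ := Finset.card_eq_zero.mp (by omega)
      refine ⟨3, Nat.prime_three, by norm_num, ?_⟩
      intro x hx
      by_cases hx2 : x = 2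
      · rw [hx2]; exact Finset.mem_insert_self _ _
      · have : x ∈ N.primeFactors.erase 2 := Finset.mem_erase.mpr ⟨hx2, hx⟩
        rw [h0] at this; exact absurd this (Finset.notMem_empty x)
    · obtain ⟨q, hq⟩ := Finset.card_eq_one.mp (by omega : (N.primeFactors.erase 2).card = 1)
      have hqm : q ∈ N.primeFactors.erase 2 := by rw [hq]; exact Finset.mem_singleton_self q
      have hqm' := Finset.mem_erase.mp hqm
      refine ⟨q, Nat.prime_of_mem_primeFactors hqm'.2, fun h2 => hqm'.1 h2.symm, ?_⟩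
      intro x hx
      by_cases hx2 : x = 2
      · rw [hx2]; exact Finset.mem_insert_self _ _
      · have : x ∈ N.primeFactors.erase 2 := Finset.mem_erase.mpr ⟨hx2, hx⟩
        rw [hq, Finset.mem_singleton] at this
        rw [this]; exact Finset.mem_insert_of_mem (Finset.mem_singleton_self q)
  obtain ⟨q, hqp, h2q, hsub⟩ := hex
  exact ⟨q, N.factorization 2, N.factorization q, hqp,
    eq_pow_mul_pow_of_subset N hN 2 q h2q hsub⟩

/-- L13 arithmetic: `N = 2 * odd`, at most two odd primes. -/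
theorem ar_two_odd (N : ℕ) (hN : N ≠ 0) (h2 : 2 ∣ N) (h4 : ¬ 4 ∣ N)
    (h : ∀ p q r : ℕ, p.Prime → q.Prime → r.Prime → p ≠ 2 → q ≠ 2 → r ≠ 2 →
      p ∣ N → q ∣ N → r ∣ N → p ≠ q → p ≠ r → q ≠ r → False) :
    ∃ p q a b : ℕ, p.Prime ∧ q.Prime ∧ N = 2 * (p ^ a * q ^ b) ∧ ¬ 2 ∣ p ^ a * q ^ b := by
  obtain ⟨M, rfl⟩ := h2
  have hM0 : M ≠ 0 := by rintro rfl; exact hN rfl
  have hModd : ¬ 2 ∣ M := by
    rintro ⟨K, rfl⟩
    exact h4 ⟨K, by ring⟩
  have hne2 : ∀ p : ℕ, p ∣ M → p ≠ 2 := by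
    rintro p hp rfl; exact hModd hp
  obtain ⟨p, q, a, b, hpp, hqp, hM⟩ := ar_two M hM0 (by
    intro p q r hp hq hr hpM hqM hrM hpq hpr hqr
    exact h p q r hp hq hr (hne2 p hpM) (hne2 q hqM) (hne2 r hrM)
      (Dvd.dvd.mul_left hpM 2) (Dvd.dvd.mul_left hqM 2) (Dvd.dvd.mul_left hrM 2) hpq hpr hqr)
  refine ⟨p, q, a, b, hpp, hqp, by rw [← hM], by rw [← hM]; exact hModd⟩

end Cfsg.Agent.Lib.Helper65.NSE3
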