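import Mathlib

set_option autoImplicit false

namespace Cfsg.Agent.Lib.Helper65.PG2

open Matrix

/-- `PGL₂(F)` as in the statement S3452 (verbatim copy of the spec abbreviation) -/
abbrev PGL2 (F : Type*) [Field F] : Type _ :=
  Matrix.GeneralLinearGroup (Fin 2) F ⧸ Subgroup.center (Matrix.GeneralLinearGroup (Fin 2) F)

/-- `a ↦ diag(a, 1)` as a monoid homomorphism `Fˣ →* GL₂(F)` -/
noncomputable def diagHom (F : Type*) [Field F] : Fˣ →* Matrix.GeneralLinearGroup (Fin 2) F where
  toFun a :=
    { val := Matrix.diagonal ![(a : F), 1]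
      inv := Matrix.diagonal ![((a⁻¹ : Fˣ) : F), 1]
      val_inv := by
        rw [Matrix.diagonal_mul_diagonal, ← Matrix.diagonal_one]
        congr 1
        funext i
        fin_cases i <;> simp
      inv_val := by
        rw [Matrix.diagonal_mul_diagonal, ← Matrix.diagonal_one]
        congr 1
        funext i
        fin_cases i <;> simp }
  map_one' := by
    apply Units.ext
    show Matrix.diagonal ![((1 : Fˣ) : F), 1] = 1
    rw [← Matrix.diagonal_one]
    congr 1
    funext i
    fin_cases i <;> simp
  map_mul' a b := by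
    apply Units.ext
    show Matrix.diagonal ![((a * b : Fˣ) : F), 1] =
      Matrix.diagonal ![(a : F), 1] * Matrix.diagonal ![(b : F), 1]
    rw [Matrix.diagonal_mul_diagonal]
    congr 1
    funext i
    fin_cases i <;> simp

theorem diagHom_val {F : Type*} [Field F] (a : Fˣ) :
    ((diagHom F a : Matrix.GeneralLinearGroup (Fin 2) F) : Matrix (Fin 2) (Fin 2) F) =
      Matrix.diagonal ![(a : F), 1] := rfl

/-- the upper unitriangular element of `GL₂(F)` -/
noncomputable def upperOne (F : Type*) [Field F] : Matrix.GeneralLinearGroup (Fin 2) F :=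
  Matrix.GeneralLinearGroup.mkOfDetNeZero !![1, 1; 0, 1] (by simp [Matrix.det_fin_two])

theorem upperOne_val {F : Type*} [Field F] :
    ((upperOne F : Matrix.GeneralLinearGroup (Fin 2) F) : Matrix (Fin 2) (Fin 2) F) = !![1, 1; 0, 1] := rfl

theorem diagHom_mem_center {F : Type*} [Field F] (a : Fˣ)
    (h : diagHom F a ∈ Subgroup.center (Matrix.GeneralLinearGroup (Fin 2) F)) : a = 1 := by
  rw [Subgroup.mem_center_iff] at h
  have h1 := h (upperOne F)
  have h2 := congrArg (fun g : Matrix.GeneralLinearGroup (Fin 2) F =>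
    (g : Matrix (Fin 2) (Fin 2) F) 0 1) h1
  simp only [Units.val_mul, diagHom_val, upperOne_val, Matrix.mul_apply, Fin.sum_univ_two] at h2
  simp at h2
  apply Units.ext
  simpa using h2.symm

theorem pgl2_exists_orderOf_eq_split {F : Type*} [Field F] [Fintype F] :
    ∃ x : PGL2 F, orderOf x = Fintype.card F - 1 := by
  classical
  obtain ⟨ζ, hζ⟩ := IsCyclic.exists_generator (α := Fˣ)
  have hord : orderOf ζ = Fintype.card F - 1 := by
    rw [orderOf_eq_card_of_forall_mem_zpowers hζ, Nat.card_eq_fintype_card, Fintype.card_units]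
  let ψ : Fˣ →* PGL2 F :=
    (QuotientGroup.mk' (Subgroup.center (Matrix.GeneralLinearGroup (Fin 2) F))).comp (diagHom F)
  have hinj : Function.Injective ψ := by
    rw [injective_iff_map_eq_one]
    intro a ha
    have : diagHom F a ∈ Subgroup.center (Matrix.GeneralLinearGroup (Fin 2) F) := by
      rw [← QuotientGroup.eq_one_iff]
      exact ha
    exact diagHom_mem_center a this
  exact ⟨ψ ζ, by rw [orderOf_injective ψ hinj, hord]⟩

end Cfsg.Agent.Lib.Helper65.PG2
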