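import Mathlib
import Cfsg.Agent.S1443

/-!
# Keystone 135504 (K-151-D): a `q'`-group normalizing a cyclic `q`-group `S` (`q` odd) and centralizing
a nontrivial element of `S` centralizes `S`.
-/

set_option autoImplicit false

namespace Cfsg.Agent.Lib.Helper65.BG151

open Cfsg

/-- in a finite cyclic group two elements of the same prime order generate the same subgroup -/
theorem mem_zpowers_of_isCyclic {S : Type*} [Group S] [Finite S] [IsCyclic S] {q : ℕ}
    (hq : q.Prime) {x y : S} (hx : orderOf x = q) (hy : orderOf y = q) :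
    x ∈ Subgroup.zpowers y := by
  classical
  have := Fintype.ofFinite S
  have h1 : (Finset.univ.filter (fun a : S => a ^ q = 1)).card ≤ q :=
    IsCyclic.card_pow_eq_one_le hq.pos
  have hZT : (Finset.univ.filter (fun a : S => a ∈ Subgroup.zpowers y)) ⊆
      (Finset.univ.filter (fun a : S => a ^ q = 1)) := by
    intro a ha
    simp only [Finset.mem_filter, Finset.mem_univ, true_and] at ha ⊢
    obtain ⟨k, rfl⟩ := ha
    rw [← zpow_natCast, ← zpow_mul, mul_comm, zpow_mul, zpow_natCast, ← hy, pow_orderOf_eq_one,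
      one_zpow]
  have hZcard : (Finset.univ.filter (fun a : S => a ∈ Subgroup.zpowers y)).card = q := by
    have h2 : (Finset.univ.filter (fun a : S => a ∈ Subgroup.zpowers y)).card
        = Nat.card (Subgroup.zpowers y) := by
      rw [Nat.card_eq_fintype_card, Fintype.card_subtype]
    rw [h2, Nat.card_zpowers, hy]
  have hTZ := Finset.eq_of_subset_of_card_le hZT (by rw [hZcard]; exact h1)
  have hxT : x ∈ (Finset.univ.filter (fun a : S => a ^ q = 1)) := by
    simp [← hx, pow_orderOf_eq_one]
  rw [← hTZ] at hxT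
  simpa using hxT

/-- K-151-D -/
theorem le_centralizer_of_cyclic {X : Type*} [Group X] [Finite X] (q : ℕ) [Fact q.Prime]
    (hq2 : q ≠ 2) (S K : Subgroup X) (hS : IsPGroup q S) (hSc : IsCyclic S)
    (hK : K ≤ Subgroup.normalizer (S : Set X)) (hcop : (Nat.card K).Coprime q)
    (y : X) (hyS : y ∈ S) (hy1 : y ≠ 1) (hyK : K ≤ Subgroup.centralizer ({y} : Set X)) :
    K ≤ Subgroup.centralizer (S : Set X) := by
  classical
  have hqp : q.Prime := Fact.out
  have hEe : IsElementaryAbelian q (⊥ : Subgroup X) := by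
    refine ⟨⟨⟨fun a b => Subsingleton.elim _ _⟩⟩, ?_⟩
    intro a ha
    rw [Subgroup.mem_bot] at ha
    rw [ha, one_pow]
  refine Cfsg.Agent.S1443.result q hq2 S ⊥ K hS bot_le hEe hK hcop ?_
  intro x hx hxo
  -- the element `y` inside `S`
  set ys : S := ⟨y, hyS⟩ with hys
  have hys1 : ys ≠ 1 := by
    intro h
    apply hy1
    have := congrArg Subtype.val h
    simpa [hys] using this
  obtain ⟨k, hk⟩ := (IsPGroup.iff_orderOf.1 hS) ys
  have hk0 : k ≠ 0 := by
    rintro rfl
    rw [pow_zero, orderOf_eq_one_iff] at hk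
    exact hys1 hk
  have hqd : q ∣ orderOf ys := by
    rw [hk]; exact dvd_pow_self q hk0
  have ho0 : orderOf ys ≠ 0 := by
    rw [hk]; exact pow_ne_zero _ hqp.ne_zero
  have hy' : orderOf (ys ^ (orderOf ys / q)) = q := orderOf_pow_orderOf_div ho0 hqd
  set xs : S := ⟨x, hx.1⟩ with hxs
  have hxs' : orderOf xs = q := by
    rw [← hxo, hxs]
    exact (Subgroup.orderOf_mk x hx.1)
  have hmem : xs ∈ Subgroup.zpowers (ys ^ (orderOf ys / q)) :=
    mem_zpowers_of_isCyclic hqp hxs' hy'
  have hmem2 : xs ∈ Subgroup.zpowers ys :=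
    (Subgroup.zpowers_le.2 (Subgroup.npow_mem_zpowers ys _)) hmem
  obtain ⟨n, hn⟩ := hmem2
  have hxy : x = y ^ n := by
    have := congrArg Subtype.val hn
    simpa [hys, hxs] using this.symm
  intro c hc
  have hcy := hyK hc
  rw [Subgroup.mem_centralizer_iff] at hcy ⊢
  intro z hz
  rw [Set.mem_singleton_iff] at hz
  rw [hz, hxy]
  have h1 : Commute y c := hcy y rfl
  exact (h1.zpow_left n).eq

end Cfsg.Agent.Lib.Helper65.BG151
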