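import Mathlib
import Cfsg.Agent.Lib.Helper05.A10Defs

/-!
# Keystone 348909 (K-A10-C2): `Φ_m(M) = 0`, `m > 1` ⟹ `∑_{i<m} M^i = 0`.
-/

set_option autoImplicit false

namespace Cfsg.Agent.Lib.Helper65.A10Iso

open Matrix Cfsg.Agent.Lib.Helper05.A10Iso

theorem geom4 {R : Type*} [Ring R] (x : R) :
    1 + x + x ^ 2 + x ^ 3 = (x ^ 2 + 1) * (x + 1) := by
  noncomm_ring

theorem geom6 {R : Type*} [Ring R] (x : R) :
    1 + x + x ^ 2 + x ^ 3 + x ^ 4 + x ^ 5 = (x ^ 2 - x + 1) * ((x + 1) * (x ^ 2 + x + 1)) := by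
  noncomm_ring

theorem geom8 {R : Type*} [Ring R] (x : R) :
    1 + x + x ^ 2 + x ^ 3 + x ^ 4 + x ^ 5 + x ^ 6 + x ^ 7 =
      (x ^ 4 + 1) * ((x + 1) * (x ^ 2 + 1)) := by
  noncomm_ring

theorem geom10 {R : Type*} [Ring R] (x : R) :
    1 + x + x ^ 2 + x ^ 3 + x ^ 4 + x ^ 5 + x ^ 6 + x ^ 7 + x ^ 8 + x ^ 9 =
      (x ^ 4 - x ^ 3 + x ^ 2 - x + 1) * ((x + 1) * (x ^ 4 + x ^ 3 + x ^ 2 + x + 1)) := by
  noncomm_ring

theorem geom12 {R : Type*} [Ring R] (x : R) :
    1 + x + x ^ 2 + x ^ 3 + x ^ 4 + x ^ 5 + x ^ 6 + x ^ 7 + x ^ 8 + x ^ 9 + x ^ 10 + x ^ 11 =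
      (x ^ 4 - x ^ 2 + 1) *
        ((x ^ 2 + 1) * ((x + 1) * ((x ^ 2 + x + 1) * (x ^ 2 - x + 1)))) := by
  noncomm_ring

theorem geom2 {R : Type*} [Ring R] (x : R) : 1 + x = x + 1 := by abel

theorem geom3 {R : Type*} [Ring R] (x : R) : 1 + x + x ^ 2 = x ^ 2 + x + 1 := by abel

theorem geom5 {R : Type*} [Ring R] (x : R) :
    1 + x + x ^ 2 + x ^ 3 + x ^ 4 = x ^ 4 + x ^ 3 + x ^ 2 + x + 1 := by abel

/-- LEAF C2 (348909) -/
theorem sum_pow_of_cyc (M : M4) (m : ℕ) (hm : m ∈ orders) (hm1 : m ≠ 1) (h : cyc m M = 0) :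
    ∑ i ∈ Finset.range m, M ^ i = 0 := by
  simp only [orders, Finset.mem_insert, Finset.mem_singleton] at hm
  rcases hm with rfl | rfl | rfl | rfl | rfl | rfl | rfl | rfl | rfl
  · exact absurd rfl hm1
  · -- m = 2
    have h' : M + 1 = 0 := by simpa [cyc] using h
    simp only [Finset.sum_range_succ, Finset.sum_range_zero, pow_zero, pow_one, zero_add]
    rw [geom2, h']
  · -- m = 3
    have h' : M ^ 2 + M + 1 = 0 := by simpa [cyc] using h
    simp only [Finset.sum_range_succ, Finset.sum_range_zero, pow_zero, pow_one, zero_add]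
    rw [geom3, h']
  · -- m = 4
    have h' : M ^ 2 + 1 = 0 := by simpa [cyc] using h
    simp only [Finset.sum_range_succ, Finset.sum_range_zero, pow_zero, pow_one, zero_add]
    rw [geom4, h', zero_mul]
  · -- m = 5
    have h' : M ^ 4 + M ^ 3 + M ^ 2 + M + 1 = 0 := by simpa [cyc] using h
    simp only [Finset.sum_range_succ, Finset.sum_range_zero, pow_zero, pow_one, zero_add]
    rw [geom5, h']
  · -- m = 6
    have h' : M ^ 2 - M + 1 = 0 := by simpa [cyc] using h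
    simp only [Finset.sum_range_succ, Finset.sum_range_zero, pow_zero, pow_one, zero_add]
    rw [geom6, h', zero_mul]
  · -- m = 8
    have h' : M ^ 4 + 1 = 0 := by simpa [cyc] using h
    simp only [Finset.sum_range_succ, Finset.sum_range_zero, pow_zero, pow_one, zero_add]
    rw [geom8, h', zero_mul]
  · -- m = 10
    have h' : M ^ 4 - M ^ 3 + M ^ 2 - M + 1 = 0 := by simpa [cyc] using h
    simp only [Finset.sum_range_succ, Finset.sum_range_zero, pow_zero, pow_one, zero_add]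
    rw [geom10, h', zero_mul]
  · -- m = 12
    have h' : M ^ 4 - M ^ 2 + 1 = 0 := by simpa [cyc] using h
    simp only [Finset.sum_range_succ, Finset.sum_range_zero, pow_zero, pow_one, zero_add]
    rw [geom12, h', zero_mul]

end Cfsg.Agent.Lib.Helper65.A10Iso
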