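import Mathlib
import Cfsg.Agent.Lib.Helper05.A10Defs

/-!
# Keystone 348913 (K-A10-D2): an odd function whose `⟨k⟩`-trace is nonzero.
-/

set_option autoImplicit false

namespace Cfsg.Agent.Lib.Helper65.A10Iso

open Matrix Cfsg.Agent.Lib.Helper05.A10Iso

/-- the base vector -/
def v0 : V := Pi.single 0 1

theorem v0_ne_zero : v0 ≠ 0 := by
  intro h
  have h1 := congrFun h 0
  simp only [v0, Pi.single_eq_same, Pi.zero_apply] at h1
  revert h1
  decide

theorem v0_ne_neg : v0 ≠ -v0 := by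
  intro h
  have h1 := congrFun h 0
  simp only [v0, Pi.neg_apply, Pi.single_eq_same] at h1
  revert h1
  decide

/-- `δ_{v₀} - δ_{-v₀}` -/
def f0 : V → ZMod 3 := fun v => if v = v0 then 1 else if v = -v0 then -1 else 0

theorem f0_v0 : f0 v0 = 1 := by simp [f0]

theorem f0_of_ne {w : V} (h1 : w ≠ v0) (h2 : w ≠ -v0) : f0 w = 0 := by simp [f0, h1, h2]

theorem f0_mem : f0 ∈ Qodd := by
  intro v
  show f0 (-v) = - f0 v
  by_cases h1 : v = v0
  · rw [h1]
    have : f0 (-v0) = -1 := by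
      have h2 : (-v0 : V) ≠ v0 := fun h => v0_ne_neg h.symm
      simp [f0, h2]
    rw [this, f0_v0]
  · by_cases h2 : v = -v0
    · rw [h2, neg_neg, f0_v0]
      have : f0 (-v0) = -1 := by
        have h3 : (-v0 : V) ≠ v0 := fun h => v0_ne_neg h.symm
        simp [f0, h3]
      rw [this, neg_neg]
    · have h3 : -v ≠ v0 := fun h => h2 (by rw [← h, neg_neg])
      have h4 : -v ≠ -v0 := fun h => h1 (neg_injective h)
      rw [f0_of_ne h3 h4, f0_of_ne h1 h2, neg_zero]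

/-- LEAF D2 (348913) -/
theorem exists_sum_actQ_ne_zero (k : GL4) (m : ℕ) (hm : 0 < m)
    (hfix : ∀ i : ℕ, 0 < i → i < m → ∀ v : V, v ≠ 0 →
      ((k ^ i : GL4) : M4).mulVec v ≠ v ∧ ((k ^ i : GL4) : M4).mulVec v ≠ -v) :
    ∃ f : ↥Qodd, ∑ i ∈ Finset.range m, actQ (k ^ i) f ≠ 0 := by
  classical
  refine ⟨⟨f0, f0_mem⟩, ?_⟩
  intro h
  have h1 : ((∑ i ∈ Finset.range m, actQ (k ^ i) ⟨f0, f0_mem⟩ : ↥Qodd) : V → ZMod 3) v0 = 0 := by
    rw [h]; rfl
  rw [AddSubmonoidClass.coe_finsetSum, Finset.sum_apply] at h1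
  have h2 : ∑ i ∈ Finset.range m, ((actQ (k ^ i) ⟨f0, f0_mem⟩ : ↥Qodd) : V → ZMod 3) v0 = 1 := by
    rw [Finset.sum_eq_single 0]
    · show (actQ (k ^ 0) ⟨f0, f0_mem⟩).1 v0 = 1
      rw [pow_zero, actQ_one]
      exact f0_v0
    · intro i hi hi0
      have him : i < m := Finset.mem_range.1 hi
      have hipos : 0 < i := Nat.pos_of_ne_zero hi0
      show (actQ (k ^ i) ⟨f0, f0_mem⟩).1 v0 = 0
      rw [actQ_apply]
      show f0 ((((k ^ i)⁻¹ : GL4) : M4).mulVec v0) = 0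
      have hback : ((k ^ i : GL4) : M4).mulVec ((((k ^ i)⁻¹ : GL4) : M4).mulVec v0) = v0 := by
        rw [Matrix.mulVec_mulVec, ← Units.val_mul, mul_inv_cancel, Units.val_one,
          Matrix.one_mulVec]
      obtain ⟨hA, hB⟩ := hfix i hipos him v0 v0_ne_zero
      apply f0_of_ne
      · intro hw
        rw [hw] at hback
        exact hA hback
      · intro hw
        rw [hw, Matrix.mulVec_neg] at hback
        exact hB (neg_eq_iff_eq_neg.1 hback)
    · intro h0
      exact absurd (Finset.mem_range.2 hm) h0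
  rw [h2] at h1
  revert h1
  decide

end Cfsg.Agent.Lib.Helper65.A10Iso
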