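import Mathlib
import Cfsg.Agent.Lib.Helper72.A4ODefs

/-!
# K-A4O (S4068), leaf 406807 L7 (helper65, parallel hand): normal Sylow 2-subgroup
-/

set_option autoImplicit false

namespace Cfsg.Agent.Lib.Helper65.A4O

open Cfsg.Agent.Lib.Helper72.A4O

universe u

theorem odd_card_quotient_sylow {G : Type u} [Group G] [Finite G] (P : Sylow 2 G)
    [(P : Subgroup G).Normal] : Odd (Nat.card (G ⧸ (P : Subgroup G))) := by
  have hf : Fact (Nat.Prime 2) := ⟨Nat.prime_two⟩
  rw [← Subgroup.index_eq_card, ← Nat.not_even_iff_odd, even_iff_two_dvd]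
  exact P.not_dvd_index

theorem solvable_of_normal_sylow2 {G : Type u} [Group G] [Finite G] (P : Sylow 2 G)
    [(P : Subgroup G).Normal] (hq : Group.IsSolvable (G ⧸ (P : Subgroup G))) : Group.IsSolvable G := by
  have hf : Fact (Nat.Prime 2) := ⟨Nat.prime_two⟩
  have hnil : Group.IsNilpotent ↥(P : Subgroup G) := P.isPGroup'.isNilpotent
  have hs : Group.IsSolvable ↥(P : Subgroup G) := IsNilpotent.to_isSolvable
  refine Group.isSolvable_of_ker_le_range (P : Subgroup G).subtype
    (QuotientGroup.mk' (P : Subgroup G)) ?_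
  rw [QuotientGroup.ker_mk', Subgroup.range_subtype]

end Cfsg.Agent.Lib.Helper65.A4O
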