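import Mathlib
import Cfsg.Prelude.Def_DegreeGraph
import Cfsg.Agent.Lib.Helper83.SecondOrth
import Cfsg.Agent.Lib.Helper83.LinearCount

set_option autoImplicit false
open Equiv

namespace Cfsg.Agent.Lib.Helper65

open Cfsg Cfsg.Agent.Lib.Helper83

set_option maxRecDepth 1000000 in
set_option maxHeartbeats 4000000 in
theorem a5_conj_reps : ∀ g : Perm (Fin 5), Perm.sign g = 1 → ∃ c : Perm (Fin 5), Perm.sign c = 1 ∧
    (c * g * c⁻¹ = 1 ∨ c * g * c⁻¹ = swap 0 1 * swap 2 3 ∨ c * g * c⁻¹ = swap 0 1 * swap 1 2 ∨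
     c * g * c⁻¹ = swap 0 1 * swap 1 2 * swap 2 3 * swap 3 4 ∨
     c * g * c⁻¹ = (swap 0 1 * swap 1 2 * swap 2 3 * swap 3 4) ^ 2) := by
  decide +kernel

/-- five representatives of the classes of `A₅` -/
def a5rep : Fin 5 → alternatingGroup (Fin 5)
  | 0 => 1
  | 1 => ⟨swap 0 1 * swap 2 3, Perm.mem_alternatingGroup.mpr (by decide)⟩
  | 2 => ⟨swap 0 1 * swap 1 2, Perm.mem_alternatingGroup.mpr (by decide)⟩
  | 3 => ⟨swap 0 1 * swap 1 2 * swap 2 3 * swap 3 4, Perm.mem_alternatingGroup.mpr (by decide)⟩
  | 4 => ⟨(swap 0 1 * swap 1 2 * swap 2 3 * swap 3 4) ^ 2, Perm.mem_alternatingGroup.mpr (by decide)⟩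

theorem a5rep_surj : Function.Surjective (fun i : Fin 5 => ConjClasses.mk (a5rep i)) := by
  intro C
  obtain ⟨g, rfl⟩ := ConjClasses.mk_surjective C
  obtain ⟨c, hc, h⟩ := a5_conj_reps g.1 (Perm.mem_alternatingGroup.mp g.2)
  have key : ∀ (i : Fin 5), c * g.1 * c⁻¹ = (a5rep i).1 →
      ∃ i : Fin 5, ConjClasses.mk (a5rep i) = ConjClasses.mk g := by
    intro i hi
    refine ⟨i, ?_⟩
    rw [ConjClasses.mk_eq_mk_iff_isConj, isConj_comm, isConj_iff]
    exact ⟨⟨c, Perm.mem_alternatingGroup.mpr hc⟩, Subtype.ext hi⟩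
  rcases h with h | h | h | h | h
  · exact key 0 h
  · exact key 1 h
  · exact key 2 h
  · exact key 3 h
  · exact key 4 h

theorem card_conjClasses_a5_le : Nat.card (ConjClasses (alternatingGroup (Fin 5))) ≤ 5 := by
  have := Nat.card_le_card_of_surjective _ a5rep_surj
  simpa using this

theorem card_a5 : Nat.card (alternatingGroup (Fin 5)) = 60 := by
  rw [Nat.card_eq_fintype_card]
  have h := two_mul_card_alternatingGroup (α := Fin 5)
  have h2 : Fintype.card (Perm (Fin 5)) = 120 := by
    rw [Fintype.card_perm, Fintype.card_fin]; rfl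
  omega

theorem commutator_a5 : commutator (alternatingGroup (Fin 5)) = ⊤ := by
  have hs : IsSimpleGroup (alternatingGroup (Fin 5)) := alternatingGroup.isSimpleGroup (by simp)
  rcases (inferInstance : (commutator (alternatingGroup (Fin 5))).Normal).eq_bot_or_eq_top with h | h
  · exfalso
    rw [commutator_eq_bot_iff_center_eq_top] at h
    have hc : ∀ a b : alternatingGroup (Fin 5), a * b = b * a := by
      intro a b
      have : a ∈ Subgroup.center (alternatingGroup (Fin 5)) := by rw [h]; trivial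
      exact (Subgroup.mem_center_iff.mp this b).symm
    have := hc (a5rep 2) (a5rep 3)
    revert this
    simp only [a5rep]
    decide
  · exact h

/-- `A₅` has an irreducible character of degree divisible by `5`. -/
theorem five_mem_degreePrimes_a5 : 5 ∈ Cfsg.degreePrimes (alternatingGroup (Fin 5)) := by
  classical
  let _ : Fintype (IrrCharacter (alternatingGroup (Fin 5))) := Fintype.ofFinite _
  by_contra hno
  have h5 : ∀ χ : IrrCharacter (alternatingGroup (Fin 5)),
      ¬ 5 ∣ charDegree (χ : alternatingGroup (Fin 5) → ℂ) := by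
    intro χ hdiv
    exact hno ⟨Nat.prime_five, _, ⟨χ, rfl⟩, hdiv⟩
  have hsum : ∑ χ : IrrCharacter (alternatingGroup (Fin 5)),
      (charDegree (χ : alternatingGroup (Fin 5) → ℂ)) ^ 2 = 60 := by
    rw [sum_charDegree_sq]; exact card_a5
  have hk : Fintype.card (IrrCharacter (alternatingGroup (Fin 5))) ≤ 5 := by
    rw [← Nat.card_eq_fintype_card, card_irr_eq_card_conjClasses]; exact card_conjClasses_a5_le
  have hlin : ∀ χ : IrrCharacter (alternatingGroup (Fin 5)),
      charDegree (χ : alternatingGroup (Fin 5) → ℂ) = 1 → χ = trivChar _ := by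
    intro χ hχ
    have h1 : (χ : alternatingGroup (Fin 5) → ℂ) 1 = 1 := by
      rw [← charDegree_cast (IrrCharacter_isCharacter χ), hχ]; simp
    apply eq_trivChar_of_forall_eq
    intro g
    rw [h1]
    exact char_deg_one_commutator (IrrCharacter_isCharacter χ) h1 (by rw [commutator_a5]; trivial)
  have hpos : ∀ χ : IrrCharacter (alternatingGroup (Fin 5)),
      0 < charDegree (χ : alternatingGroup (Fin 5) → ℂ) := fun χ => irr_charDegree_pos χ
  have hle : ∀ χ : IrrCharacter (alternatingGroup (Fin 5)),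
      charDegree (χ : alternatingGroup (Fin 5) → ℂ) ≤ 7 := by
    intro χ
    by_contra hgt
    push Not at hgt
    have : (charDegree (χ : alternatingGroup (Fin 5) → ℂ)) ^ 2 ≤ 60 := by
      rw [← hsum]
      exact Finset.single_le_sum
        (f := fun χ : IrrCharacter (alternatingGroup (Fin 5)) =>
          charDegree (χ : alternatingGroup (Fin 5) → ℂ) ^ 2)
        (fun _ _ => Nat.zero_le _) (Finset.mem_univ χ)
    nlinarith
  set n : ℕ → ℕ := fun k => (Finset.univ.filter
    (fun χ : IrrCharacter (alternatingGroup (Fin 5)) =>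
      charDegree (χ : alternatingGroup (Fin 5) → ℂ) = k)).card with hn
  have hmaps : ∀ χ ∈ (Finset.univ : Finset (IrrCharacter (alternatingGroup (Fin 5)))),
      charDegree (χ : alternatingGroup (Fin 5) → ℂ) ∈ Finset.range 8 := fun χ _ =>
    Finset.mem_range.mpr (Nat.lt_succ_of_le (hle χ))
  have e1 : ∑ k ∈ Finset.range 8, n k = Fintype.card (IrrCharacter (alternatingGroup (Fin 5))) := by
    rw [← Finset.card_univ]
    exact (Finset.card_eq_sum_card_fiberwise hmaps).symm
  have e2 : ∑ k ∈ Finset.range 8, n k * k ^ 2 = 60 := by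
    rw [← hsum, ← Finset.sum_fiberwise_of_maps_to hmaps]
    apply Finset.sum_congr rfl
    intro k _
    show (Finset.univ.filter
      (fun χ : IrrCharacter (alternatingGroup (Fin 5)) =>
        charDegree (χ : alternatingGroup (Fin 5) → ℂ) = k)).card * k ^ 2 = _
    rw [Finset.card_eq_sum_ones, Finset.sum_mul]
    apply Finset.sum_congr rfl
    intro χ hχ
    rw [(Finset.mem_filter.mp hχ).2, one_mul]
  have n0 : n 0 = 0 := by
    rw [hn]
    apply Finset.card_eq_zero.mpr
    apply Finset.filter_eq_empty_iff.mpr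
    intro χ _ h0
    have := hpos χ
    omega
  have n5 : n 5 = 0 := by
    rw [hn]
    apply Finset.card_eq_zero.mpr
    apply Finset.filter_eq_empty_iff.mpr
    intro χ _ h0
    exact h5 χ (by rw [h0])
  have n1 : n 1 = 1 := by
    rw [hn]
    apply Finset.card_eq_one.mpr
    refine ⟨trivChar _, ?_⟩
    ext χ
    simp only [Finset.mem_filter, Finset.mem_univ, true_and, Finset.mem_singleton]
    constructor
    · exact hlin χ
    · rintro rfl; exact charDegree_trivChar
  simp only [Finset.sum_range_succ, Finset.sum_range_zero] at e1 e2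
  rw [n0, n1, n5] at e1 e2
  clear_value n
  generalize n 2 = a at e1 e2
  generalize n 3 = b at e1 e2
  generalize n 4 = c at e1 e2
  generalize n 6 = d at e1 e2
  generalize n 7 = e at e1 e2
  have he : e ≤ 1 := by omega
  have hd : d ≤ 1 := by omega
  have hc : c ≤ 3 := by omega
  have hb : b ≤ 6 := by omega
  interval_cases e <;> interval_cases d <;> interval_cases c <;> interval_cases b <;> omega

end Cfsg.Agent.Lib.Helper65
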