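import Mathlib

set_option autoImplicit false

namespace Cfsg.Agent.Lib.Helper65

universe u

/-- Frattini argument in a convenient form: a normal subgroup `N` contains a `p`-subgroup `P`
(a Sylow `p`-subgroup of `N`), nontrivial when `p ∣ |N|`, with `N_G(P) N = G`. -/
theorem exists_pgroup_normalizer_sup_eq_top {G : Type u} [Group G] [Finite G] (N : Subgroup G)
    [N.Normal] (p : ℕ) [Fact p.Prime] :
    ∃ P : Subgroup G, P ≤ N ∧ IsPGroup p P ∧ (p ∣ Nat.card N → P ≠ ⊥) ∧
      Subgroup.normalizer (P : Set G) ⊔ N = ⊤ := by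
  obtain ⟨P0⟩ : Nonempty (Sylow p ↥N) := inferInstance
  refine ⟨(P0 : Subgroup ↥N).map N.subtype, Subgroup.map_subtype_le _, ?_, ?_, ?_⟩
  · exact P0.isPGroup'.map N.subtype
  · intro hd hbot
    have h1 := (Subgroup.map_eq_bot_iff_of_injective (P0 : Subgroup ↥N) N.subtype_injective).mp hbot
    exact P0.ne_bot_of_dvd_card hd h1
  · exact Sylow.normalizer_sup_eq_top P0

/-- if `H ⊔ N = ⊤` with `N` normal then the index of `N` in `H` equals the index of `N` -/
theorem relIndex_eq_index_of_sup_eq_top {G : Type u} [Group G] (H N : Subgroup G) [N.Normal]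
    (h : H ⊔ N = ⊤) : N.relIndex H = N.index := by
  rw [← Subgroup.relIndex_sup_right, h, Subgroup.relIndex_top_right]

/-- a finite `p`-group is solvable -/
theorem isSolvable_of_isPGroup {G : Type u} [Group G] [Finite G] {p : ℕ} (hp : p.Prime)
    (h : IsPGroup p G) : Group.IsSolvable G := by
  have : Fact p.Prime := ⟨hp⟩
  have := h.isNilpotent
  infer_instance

end Cfsg.Agent.Lib.Helper65
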