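import Mathlib
import Cfsg.Agent.S0143
import Cfsg.Agent.Lib.Helper65.Frattini

set_option autoImplicit false

universe u

namespace Cfsg.Agent.Lib.Helper65

/-- If `N` is normal in a finite group then `|N : C ∩ N|` divides `|G : C|`. -/
theorem relIndex_dvd_index_of_normal_right {G : Type u} [Group G] [Finite G]
    (C N : Subgroup G) [N.Normal] : C.relIndex N ∣ C.index := by
  have h1 : (C ⊓ N).relIndex N * N.index = (C ⊓ N).index :=
    Subgroup.relIndex_mul_index inf_le_right
  have h2 : (C ⊓ N).relIndex C * C.index = (C ⊓ N).index :=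
    Subgroup.relIndex_mul_index inf_le_left
  rw [Subgroup.inf_relIndex_right] at h1
  rw [Subgroup.inf_relIndex_left] at h2
  obtain ⟨t, ht⟩ : N.relIndex C ∣ N.index := Subgroup.relIndex_dvd_index_of_normal N C
  have h3 : N.relIndex C ≠ 0 := by
    have : (N.subgroupOf C).index ≠ 0 := Subgroup.index_ne_zero_of_finite
    exact this
  refine ⟨t, ?_⟩
  have h4 : N.relIndex C * C.index = N.relIndex C * (C.relIndex N * t) := by
    rw [h2, ← h1, ht]; ring
  exact Nat.eq_of_mul_eq_mul_left (Nat.pos_of_ne_zero h3) h4

theorem isSolvable_of_abelian_primePow_index_aux (p : ℕ) (hp : p.Prime) :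
    ∀ n : ℕ, ∀ (G : Type u) [Group G] [Finite G], Nat.card G = n → ∀ (C : Subgroup G),
      (∀ a ∈ C, ∀ b ∈ C, a * b = b * a) → (∃ k, C.index = p ^ k) → Group.IsSolvable G := by
  intro n
  induction n using Nat.strong_induction_on with
  | _ n ih =>
    intro G _ _ hn C hC ⟨k, hk⟩
    by_cases hsimple : ∃ N : Subgroup G, N.Normal ∧ N ≠ ⊥ ∧ N ≠ ⊤
    · obtain ⟨N, hN, hbot, htop⟩ := hsimple
      have hcardN : Nat.card N < n := by
        rw [← hn]
        exact lt_of_le_of_ne (Subgroup.card_le_card_group N)
          (fun h => htop ((Subgroup.card_eq_iff_eq_top N).1 h))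
      have hcardQ : Nat.card (G ⧸ N) < n := by
        rw [← hn, ← Subgroup.index_eq_card, ← Subgroup.index_mul_card N]
        have h1 : 1 < Nat.card N := (Subgroup.one_lt_card_iff_ne_bot N).2 hbot
        have h2 : 0 < N.index := Nat.pos_of_ne_zero Subgroup.index_ne_zero_of_finite
        exact lt_mul_of_one_lt_right h2 h1
      have hsN : Group.IsSolvable N := by
        refine ih _ hcardN N rfl (C.subgroupOf N) ?_ ?_
        · intro a ha b hb
          apply Subtype.ext
          exact hC a ha b hb
        · have h1 : C.relIndex N ∣ p ^ k := hk ▸ relIndex_dvd_index_of_normal_right C N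
          obtain ⟨j, _, hj⟩ := (Nat.dvd_prime_pow hp).1 h1
          exact ⟨j, hj⟩
      have hsQ : Group.IsSolvable (G ⧸ N) := by
        refine ih _ hcardQ (G ⧸ N) rfl (C.map (QuotientGroup.mk' N)) ?_ ?_
        · rintro _ ⟨a, ha, rfl⟩ _ ⟨b, hb, rfl⟩
          rw [← map_mul, ← map_mul, hC a ha b hb]
        · have h1 : (C.map (QuotientGroup.mk' N)).index ∣ p ^ k :=
            hk ▸ Subgroup.index_map_dvd C (QuotientGroup.mk'_surjective N)
          obtain ⟨j, _, hj⟩ := (Nat.dvd_prime_pow hp).1 h1
          exact ⟨j, hj⟩
      exact Group.isSolvable_of_ker_le_range N.subtype (QuotientGroup.mk' N)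
        (by rw [QuotientGroup.ker_mk', Subgroup.range_subtype])
    · by_cases htriv : Subsingleton G
      · exact Group.isSolvable_of_comm (fun a b => Subsingleton.elim _ _)
      · rw [not_subsingleton_iff_nontrivial] at htriv
        have hS : IsSimpleGroup G := by
          refine ⟨fun N hN => ?_⟩
          by_contra hcon
          rw [not_or] at hcon
          exact hsimple ⟨N, hN, hcon.1, hcon.2⟩
        by_cases hCbot : C = ⊥
        · rw [hCbot, Subgroup.index_bot] at hk
          exact isSolvable_of_isPGroup hp (IsPGroup.of_card hk)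
        · obtain ⟨x, hx, hx1'⟩ : ∃ x ∈ C, x ≠ 1 := by
            by_contra hcon
            apply hCbot
            rw [eq_bot_iff]
            intro y hy
            rw [Subgroup.mem_bot]
            by_contra hy1
            exact hcon ⟨y, hy, hy1⟩
          have hle : C ≤ Subgroup.centralizer ({x} : Set G) := by
            intro c hc
            rw [Subgroup.mem_centralizer_iff]
            intro y hy
            rw [Set.mem_singleton_iff] at hy
            rw [hy]
            exact hC x hx c hc
          have h1 : (Subgroup.centralizer ({x} : Set G)).index ∣ p ^ k :=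
            hk ▸ Subgroup.index_dvd_of_le hle
          obtain ⟨j, _, hj⟩ := (Nat.dvd_prime_pow hp).1 h1
          have hprime : (Nat.card G).Prime := Cfsg.Agent.S0143.result p j hp x hx1' hj
          exact isSolvable_of_isPGroup hprime (IsPGroup.of_card (n := 1) (pow_one _).symm)

/-- A finite group with an abelian subgroup of prime power index is solvable. -/
theorem isSolvable_of_abelian_primePow_index {G : Type u} [Group G] [Finite G] {p : ℕ}
    (hp : p.Prime) (C : Subgroup G) (hC : ∀ a ∈ C, ∀ b ∈ C, a * b = b * a)
    (hk : ∃ k, C.index = p ^ k) : Group.IsSolvable G :=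
  isSolvable_of_abelian_primePow_index_aux p hp (Nat.card G) G rfl C hC hk

end Cfsg.Agent.Lib.Helper65
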