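import Mathlib
import Cfsg.Agent.Lib.Helper11.BG144Defs
import Cfsg.Agent.Lib.Helper97.BG1366O
import Cfsg.Agent.Lib.Helper31.FittingHall
import Cfsg.Agent.Lib.Helper71.BG11a
import Cfsg.Agent.Lib.Helper55.Uniq2
import Cfsg.Agent.S1350

/-!
# Keystone 137903 (K-1379-V3): an element of `C_G(x0)` of order prime to `σ(N)` is `C_G(x0)`-conjugate
into `L` (Hall's theorem in the solvable group `C_G(x0) = (L ⊓ C)(N_σ ⊓ C)`).
-/

set_option autoImplicit false

namespace Cfsg.Agent.Lib.Helper65.BG1379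

open Cfsg Subgroup Cfsg.Agent.Lib.Helper11.BG144

variable {G : Type*} [Group G] [Finite G]

/-- LEAF V3 (137903) -/
theorem exists_conj_mem_of_coprime (hG : IsMinSimpleOddOrder G) {L N : Subgroup G} {x0 g : G}
    (hL : IsCoatom L) (hx0 : x0 ∈ sigmaCore L) (hx01 : x0 ≠ 1) (hS : Supp L x0 N)
    (hg : g ∈ centralizer ({x0} : Set G))
    (hcop : ∀ q : ℕ, q.Prime → q ∣ orderOf g → q ∉ sigma N) :
    ∃ c ∈ centralizer ({x0} : Set G), c * g * c⁻¹ ∈ L := by
  classical
  set C : Subgroup G := centralizer ({x0} : Set G) with hCdef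
  set Q : Subgroup G := L ⊓ C with hQdef
  set R : Subgroup G := sigmaCore N ⊓ C with hRdef
  have hCN : C ≤ N := hS.cent_le
  have hNtop : N ≠ ⊤ := hS.coatom.1
  have hCtop : C ≠ ⊤ := fun h => hNtop (top_le_iff.1 (h ▸ hCN))
  have hsolv : Group.IsSolvable C := Cfsg.Agent.Lib.Helper55.ms_solvable hG hCtop
  have hcompl : IsComplIn Q R C := by
    refine ⟨inf_le_right, inf_le_right, ?_, ?_⟩
    · rw [eq_bot_iff, ← hS.inf_bot]
      intro z hz
      exact ⟨hz.2.1, hz.1.1⟩
    · intro m hm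
      exact hS.cent_split m hm
  have hcard : Nat.card Q * Nat.card R = Nat.card C :=
    Cfsg.Agent.Lib.Helper31.IsComplIn.card_mul hcompl
  have hrel : Q.relIndex C = Nat.card R := by
    have h1 := Cfsg.Agent.Lib.Helper97.BG1366.card_mul_relIndex_of_le (inf_le_right : Q ≤ C)
    have hQpos : 0 < Nat.card Q := Nat.card_pos
    exact Nat.eq_of_mul_eq_mul_left hQpos (h1.trans hcard.symm)
  have hHall : IsPiHallOf (sigma N)ᶜ Q C := by
    refine ⟨inf_le_right, ?_, ?_⟩
    · intro p hp hpQ hpσ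
      have hQLN : Q ≤ L ⊓ N := fun z hz => ⟨hz.1, hCN hz.2⟩
      have h1 : Nat.card Q ∣ Nat.card (L ⊓ N : Subgroup G) := Subgroup.card_dvd_of_le hQLN
      have h2 := Cfsg.Agent.Lib.Helper31.IsComplIn.card_mul hS.compl
      have h3 := Cfsg.Agent.Lib.Helper97.BG1366.card_mul_relIndex_of_le
        (Cfsg.Agent.Lib.Helper71.BG11.sigmaCore_le N)
      have h4 : (sigmaCore N).relIndex N = Nat.card (L ⊓ N : Subgroup G) := by
        have hpos : 0 < Nat.card (sigmaCore N) := Nat.card_pos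
        apply Nat.eq_of_mul_eq_mul_left hpos
        rw [h3, ← h2, mul_comm]
      have h5 := (Cfsg.Agent.S1350.result hG N hS.coatom).1.2.2 p hp hpσ
      apply h5
      rw [h4]
      exact hpQ.trans h1
    · intro p hp hpσ hpd
      apply hpσ
      rw [hrel] at hpd
      have h1 : Nat.card R ∣ Nat.card (sigmaCore N) := Subgroup.card_dvd_of_le inf_le_left
      exact Cfsg.Agent.Lib.Helper71.BG11.sigmaCore_pi hG hS.coatom hp (hpd.trans h1)
  have hA : zpowers g ≤ C := by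
    rw [zpowers_le]; exact hg
  obtain ⟨m, hm, hle⟩ := Cfsg.Agent.Lib.Helper97.BG1366.exists_cj_ge_of_hall hsolv hHall hA (by
    intro p hp hpd
    rw [Nat.card_zpowers] at hpd
    exact hcop p hp hpd)
  have hgm : g ∈ Q.map (MulAut.conj m).toMonoidHom := hle (mem_zpowers g)
  obtain ⟨q, hq, hqg⟩ := hgm
  refine ⟨m⁻¹, inv_mem hm, ?_⟩
  have : m⁻¹ * g * m⁻¹⁻¹ = q := by
    rw [← hqg]; simp [MulAut.conj_apply, mul_assoc]
  rw [this]
  exact hq.1

end Cfsg.Agent.Lib.Helper65.BG1379
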