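import Mathlib
import Cfsg.Agent.S1350
import Cfsg.Agent.Lib.Helper31.FittingHall
import Cfsg.Agent.Lib.Helper32.BG151B
import Cfsg.Agent.Lib.Helper71.BG10Sub
import Cfsg.Agent.Lib.Helper71.BG11a
import Cfsg.Agent.Lib.Helper97.BG1366O

/-!
# Keystone 138105 (K-1381-E1): `(M')_F = M_F` for type `P₂`.
-/

set_option autoImplicit false

namespace Cfsg.Agent.Lib.Helper65.BG1381

open Cfsg Subgroup
open scoped commutatorElement

variable {G : Type*} [Group G] [Finite G]

/-- `M` normalizes its derived subgroup -/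
theorem conj_mem_derived {M : Subgroup G} {m d : G} (hm : m ∈ M) (hd : d ∈ ⁅M, M⁆) :
    m * d * m⁻¹ ∈ ⁅M, M⁆ := by
  have h : ⁅M, M⁆ ≤ (⁅M, M⁆).comap (MulAut.conj m).toMonoidHom := by
    rw [Subgroup.commutator_le]
    intro a ha b hb
    rw [Subgroup.mem_comap]
    show (MulAut.conj m) ⁅a, b⁆ ∈ ⁅M, M⁆
    rw [map_commutatorElement]
    apply Subgroup.commutator_mem_commutator
    · show m * a * m⁻¹ ∈ M
      exact M.mul_mem (M.mul_mem hm ha) (M.inv_mem hm)
    · show m * b * m⁻¹ ∈ M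
      exact M.mul_mem (M.mul_mem hm hb) (M.inv_mem hm)
  exact h hd

/-- KEYSTONE 138105  K-1381-E1 -/
theorem fittingHallOf_derived (hG : IsMinSimpleOddOrder G) {M K U : Subgroup G} (hM : IsCoatom M)
    (hKU : IsSigmaDecomposition M K U) (hp : (Nat.card K).Prime)
    (hnil : Group.IsNilpotent (sigmaCore M)) (hF : fittingHallOf M = sigmaCore M)
    (hd : ⁅M, M⁆ = U ⊔ sigmaCore M) (hcompl : IsComplIn ⁅M, M⁆ K M) :
    fittingHallOf ⁅M, M⁆ = fittingHallOf M := by
  classical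
  have hDM : ⁅M, M⁆ ≤ M := hcompl.1
  have hcard : Nat.card ↥⁅M, M⁆ * Nat.card K = Nat.card M :=
    Cfsg.Agent.Lib.Helper31.IsComplIn.card_mul hcompl
  have hDpos : 0 < Nat.card ↥⁅M, M⁆ := Nat.card_pos
  have hKpos : 0 < Nat.card K := Nat.card_pos
  -- `|M : M'| = |K|`
  have hrelD : (⁅M, M⁆).relIndex M = Nat.card K := by
    have h1 := Cfsg.Agent.Lib.Helper97.BG1366.card_mul_relIndex_of_le hDM
    exact Nat.eq_of_mul_eq_mul_left hDpos (h1.trans hcard.symm)
  -- `|M : K| = |M'|`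
  have hrelK : K.relIndex M = Nat.card ↥⁅M, M⁆ := by
    have h1 := Cfsg.Agent.Lib.Helper97.BG1366.card_mul_relIndex_of_le hKU.hall.1
    apply Nat.eq_of_mul_eq_mul_left hKpos
    rw [h1, ← hcard, mul_comm]
  -- `p ∤ |M'|`
  have hpD : ¬ Nat.card K ∣ Nat.card ↥⁅M, M⁆ := by
    have hpκ : Nat.card K ∈ kappa M := hKU.hall.2.1 _ hp dvd_rfl
    have := hKU.hall.2.2 _ hp hpκ
    rwa [hrelK] at this
  apply le_antisymm
  · -- `⊆`
    show (fittingHall ↥⁅M, M⁆).map (⁅M, M⁆).subtype ≤ fittingHallOf M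
    rw [Subgroup.map_le_iff_le_comap]
    unfold fittingHall
    apply sSup_le
    rintro N ⟨hNn, hNnil, hNcop⟩
    rw [← Subgroup.map_le_iff_le_comap]
    have hinj : Function.Injective (⁅M, M⁆).subtype := Subgroup.subtype_injective _
    have hN'D : N.map (⁅M, M⁆).subtype ≤ ⁅M, M⁆ := Subgroup.map_subtype_le N
    have hN'card : Nat.card ↥(N.map (⁅M, M⁆).subtype) = Nat.card N :=
      Subgroup.card_map_of_injective hinj
    have hsubOf : (N.map (⁅M, M⁆).subtype).subgroupOf ⁅M, M⁆ = N :=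
      Subgroup.comap_map_eq_self_of_injective hinj N
    have hN'rel : (N.map (⁅M, M⁆).subtype).relIndex ⁅M, M⁆ = N.index := by
      unfold Subgroup.relIndex
      rw [hsubOf]
    have hcopD : (Nat.card ↥(N.map (⁅M, M⁆).subtype)).Coprime
        ((N.map (⁅M, M⁆).subtype).relIndex ⁅M, M⁆) := by
      rw [hN'card, hN'rel]; exact hNcop
    have hnormD : ⁅M, M⁆ ≤ normalizer ((N.map (⁅M, M⁆).subtype : Subgroup G) : Set G) := by
      rw [← Subgroup.normal_subgroupOf_iff_le_normalizer hN'D, hsubOf]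
      exact hNn
    have hnil' : Group.IsNilpotent ↥(N.map (⁅M, M⁆).subtype) :=
      (Group.isNilpotent_congr (N.equivMapOfInjective _ hinj)).1 hNnil
    -- Hall for the set of primes dividing `|N'|`
    have hHall : IsPiHallOf {p | p ∣ Nat.card ↥(N.map (⁅M, M⁆).subtype)}
        (N.map (⁅M, M⁆).subtype) ⁅M, M⁆ := by
      refine ⟨hN'D, fun p _ h => h, ?_⟩
      intro p hpp hp1 hp2
      have h1 : p ∣ Nat.gcd (Nat.card ↥(N.map (⁅M, M⁆).subtype))
          ((N.map (⁅M, M⁆).subtype).relIndex ⁅M, M⁆) := Nat.dvd_gcd hp1 hp2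
      rw [hcopD] at h1
      exact hpp.one_lt.ne' (Nat.dvd_one.1 h1)
    -- `M` normalizes `N'`
    have hconj : ∀ m ∈ M, ∀ x ∈ N.map (⁅M, M⁆).subtype, m * x * m⁻¹ ∈ N.map (⁅M, M⁆).subtype := by
      intro m hm x hx
      have hZ : (N.map (⁅M, M⁆).subtype).map (MulAut.conj m).toMonoidHom ≤
          N.map (⁅M, M⁆).subtype := by
        apply Cfsg.Agent.Lib.Helper71.BG10.le_of_isPiHallOf_normal hHall hnormD
        · rintro _ ⟨y, hy, rfl⟩
          exact conj_mem_derived hm (hN'D hy)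
        · intro p _ hpd
          rw [Subgroup.card_map_of_injective (MulAut.conj m).injective] at hpd
          exact hpd
      exact hZ ⟨x, hx, rfl⟩
    have hnormM : M ≤ normalizer ((N.map (⁅M, M⁆).subtype : Subgroup G) : Set G) := by
      intro m hm
      rw [Subgroup.mem_normalizer_iff]
      intro h
      constructor
      · intro hh
        exact hconj m hm h hh
      · intro hh
        have := hconj m⁻¹ (M.inv_mem hm) _ hh
        simpa [mul_assoc] using this
    have hcopM : (Nat.card ↥(N.map (⁅M, M⁆).subtype)).Coprime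
        ((N.map (⁅M, M⁆).subtype).relIndex M) := by
      rw [← Subgroup.relIndex_mul_relIndex _ _ _ hN'D hDM, hrelD]
      apply Nat.Coprime.mul_right hcopD
      apply Nat.Coprime.symm
      rw [Nat.Prime.coprime_iff_not_dvd hp]
      intro h
      exact hpD (h.trans (Subgroup.card_dvd_of_le hN'D))
    exact Cfsg.Agent.Lib.Helper32.BG151.le_fittingHallOf (hN'D.trans hDM) hnormM hnil' hcopM
  · -- `⊇`
    rw [hF]
    have hσD : sigmaCore M ≤ ⁅M, M⁆ := by rw [hd]; exact le_sup_right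
    have hσM : sigmaCore M ≤ M := Cfsg.Agent.Lib.Helper71.BG11.sigmaCore_le M
    apply Cfsg.Agent.Lib.Helper32.BG151.le_fittingHallOf hσD
      (hDM.trans (Cfsg.Agent.Lib.Helper71.BG11.le_normalizer_sigmaCore M)) hnil
    have h1 : (sigmaCore M).relIndex ⁅M, M⁆ ∣ (sigmaCore M).relIndex M :=
      Dvd.intro _ (Subgroup.relIndex_mul_relIndex _ _ _ hσD hDM)
    apply Nat.Coprime.coprime_dvd_right h1
    apply Nat.coprime_of_dvd
    intro p hpp hp1 hp2
    have hS := (Cfsg.Agent.S1350.result hG M hM).1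
    exact hS.2.2 p hpp (hS.2.1 p hpp hp1) hp2

end Cfsg.Agent.Lib.Helper65.BG1381
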