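import Mathlib
import Cfsg.Agent.Lib.Helper16.BG1363Defs
import Cfsg.Agent.Lib.Helper55.Basic
import Cfsg.Agent.Lib.Helper01.BG134CJ
import Cfsg.Agent.Lib.Helper71.BG11a

/-!
# Keystone 143503 (K-1435-P1): `κ(H) = ∅`.
-/

set_option autoImplicit false

namespace Cfsg.Agent.Lib.Helper65.BG1435

open Cfsg Subgroup Cfsg.Agent.Lib.Helper55 Cfsg.Agent.Lib.Helper11.BG14D
  Cfsg.Agent.Lib.Helper16.BG1363

variable {G : Type*} [Group G] [Finite G]

/-- KEYSTONE 143503  K-1435-P1 -/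
theorem NU.kappa_empty (hG : IsMinSimpleOddOrder G) {M K U R H Ms : Subgroup G} {r : ℕ}
    (c : NU M K U R H r) (pf : PF M K Ms) (hp : (Nat.card K).Prime)
    (hnc : ∀ g : G, H ≠ M.map (MulAut.conj g).toMonoidHom) (hpH : Nat.card K ∉ sigma H) :
    kappa H = ∅ := by
  by_contra hne
  have hne' : (kappa H).Nonempty := Set.nonempty_iff_ne_empty.2 hne
  obtain ⟨g, hg | hg⟩ := pf.h69 H c.hH hne'
  · exact hnc g hg
  · apply hpH
    have h1 : Nat.card K ∣ Nat.card (sigmaCore Ms) := Subgroup.card_dvd_of_le pf.hKMs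
    have h2 : Nat.card K ∈ sigma Ms :=
      Cfsg.Agent.Lib.Helper71.BG11.sigmaCore_pi hG pf.hMs hp h1
    rw [hg]
    exact (Cfsg.Agent.Lib.Helper01.BG134.mem_sigma_cj_iff g).2 h2

end Cfsg.Agent.Lib.Helper65.BG1435
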