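import Mathlib

/-!
# Keystone 147206 (K-147P, BG-3): a nilpotent subgroup not centralized by `U` has a characteristic
Sylow subgroup not centralized by `U`.
-/

set_option autoImplicit false

namespace Cfsg.Agent.Lib.Helper65.BG147P

variable {G : Type*} [Group G] [Finite G]

/-- For a normal Sylow subgroup `S` of `R`, everything normalizing `R` normalizes the image of `S`. -/
theorem conj_map_le_of_normal_sylow {R : Subgroup G} {q : ℕ} [Fact q.Prime] (S : Sylow q R)
    (hSn : (S : Subgroup R).Normal) {g : G} (hg : g ∈ Subgroup.normalizer (R : Set G))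
    {h : G} (hh : h ∈ (S : Subgroup R).map R.subtype) :
    g * h * g⁻¹ ∈ (S : Subgroup R).map R.subtype := by
  classical
  have : Unique (Sylow q R) := Sylow.unique_of_normal S hSn
  obtain ⟨s, hs, rfl⟩ := hh
  -- the conjugate of `S` by `g`, as a subgroup of `R`
  have hgR : ∀ x : G, x ∈ R → g * x * g⁻¹ ∈ R := fun x hx =>
    (Subgroup.mem_normalizer_iff.1 hg x).1 hx
  obtain ⟨T, hTdef⟩ : ∃ T : Subgroup R, T =
      (((S : Subgroup R).map R.subtype).map (MulAut.conj g).toMonoidHom).subgroupOf R := ⟨_, rfl⟩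
  have hT : IsPGroup q T := by
    rw [hTdef]
    have h1 : IsPGroup q (((S : Subgroup R).map R.subtype).map (MulAut.conj g).toMonoidHom) :=
      (S.2.map _).map _
    exact h1.comap_of_injective _ (Subgroup.subtype_injective R)
  obtain ⟨S', hS'⟩ := hT.exists_le_sylow
  have hSS' : S' = S := Subsingleton.elim _ _
  rw [hSS'] at hS'
  have hmem : (⟨g * (s : G) * g⁻¹, hgR _ s.2⟩ : R) ∈ T := by
    rw [hTdef, Subgroup.mem_subgroupOf]
    refine ⟨(s : G), ⟨s, hs, rfl⟩, ?_⟩
    simp [MulAut.conj_apply]
  exact ⟨_, hS' hmem, rfl⟩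

theorem exists_pgroup_not_centralized {R U : Subgroup G} (hR : Group.IsNilpotent R)
    (hU : ¬ R ≤ Subgroup.centralizer (U : Set G)) :
    ∃ q : ℕ, q.Prime ∧ ∃ Q : Subgroup G, Q ≤ R ∧ IsPGroup q Q ∧
      Subgroup.normalizer (R : Set G) ≤ Subgroup.normalizer (Q : Set G) ∧
      ¬ Q ≤ Subgroup.centralizer (U : Set G) := by
  classical
  by_contra hcon
  push Not at hcon
  apply hU
  have key : ∀ q : ℕ, q.Prime → ∀ S : Sylow q R,
      (S : Subgroup R).map R.subtype ≤ Subgroup.centralizer (U : Set G) := by
    intro q hq S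
    have : Fact q.Prime := ⟨hq⟩
    have hSn : (S : Subgroup R).Normal :=
      Sylow.normal_of_normalizerCondition Group.normalizerCondition_of_isNilpotent S
    refine hcon q hq _ ?_ (S.2.map _) ?_
    · rintro _ ⟨s, -, rfl⟩
      exact s.2
    · intro g hg
      rw [Subgroup.mem_normalizer_iff]
      intro h
      constructor
      · intro hh
        exact conj_map_le_of_normal_sylow S hSn hg hh
      · intro hh
        have hg' : g⁻¹ ∈ Subgroup.normalizer (R : Set G) := inv_mem hg
        have := conj_map_le_of_normal_sylow S hSn hg' hh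
        simpa [mul_assoc] using this
  -- the centralizer of `U` in `R`
  set C : Subgroup R := (Subgroup.centralizer (U : Set G)).subgroupOf R with hC
  have hCtop : C = ⊤ := by
    rw [← Subgroup.index_eq_one]
    by_contra hne
    obtain ⟨p, hp, hpd⟩ := Nat.exists_prime_and_dvd hne
    have : Fact p.Prime := ⟨hp⟩
    obtain ⟨S⟩ : Nonempty (Sylow p R) := inferInstance
    have hSC : (S : Subgroup R) ≤ C := by
      intro s hs
      rw [hC, Subgroup.mem_subgroupOf]
      exact key p hp S ⟨s, hs, rfl⟩
    have h1 : C.index ∣ (S : Subgroup R).index := Subgroup.index_dvd_of_le hSC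
    exact S.not_dvd_index (hpd.trans h1)
  intro r hr
  have : (⟨r, hr⟩ : R) ∈ C := by rw [hCtop]; trivial
  rw [hC, Subgroup.mem_subgroupOf] at this
  exact this

end Cfsg.Agent.Lib.Helper65.BG147P
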