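import Mathlib
import Cfsg.Agent.S1350
import Cfsg.Agent.S1431
import Cfsg.Agent.Lib.Helper71.BG11a
import Cfsg.Agent.Lib.Helper65.BG151D

/-!
# Keystone 135511 (K-151-I): the normal Sylow `q`-subgroup of `M_σ`, `q ∣ |K*|`, is not cyclic.
-/

set_option autoImplicit false

namespace Cfsg.Agent.Lib.Helper65.BG151

open Cfsg

/-- K-151-I -/
theorem not_isCyclic_of_normal_sylow {G : Type*} [Group G] [Finite G]
    (hG : IsMinSimpleOddOrder G) {M : Subgroup G} (hM : IsCoatom M) {K : Subgroup G}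
    (hK : IsPiHallOf (kappa M) K M) (hK1 : K ≠ ⊥) (q : ℕ) (hq : q.Prime)
    (hqd : q ∣ Nat.card ↥(sigmaCore M ⊓ Subgroup.centralizer (K : Set G)))
    (S : Subgroup G) (hSσ : S ≤ sigmaCore M) (hSq : IsPGroup q S)
    (hSyl : ¬ q ∣ S.relIndex (sigmaCore M)) (hSn : M ≤ Subgroup.normalizer (S : Set G)) :
    ¬ IsCyclic S := by
  classical
  intro hSc
  have : Fact q.Prime := ⟨hq⟩
  have hσM : sigmaCore M ≤ M := Cfsg.Agent.Lib.Helper71.BG11.sigmaCore_le M
  -- `q ∈ σ(M)`
  have hqσ : q ∈ sigma M := by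
    refine Cfsg.Agent.Lib.Helper71.BG11.sigmaCore_pi hG hM hq (hqd.trans ?_)
    exact Subgroup.card_dvd_of_le inf_le_left
  -- `q ∤ |K|`
  have hqK : ¬ q ∣ Nat.card K := by
    intro h
    exact (hK.2.1 q hq h).2.2.1 hqσ
  have hcop : (Nat.card K).Coprime q := ((Nat.Prime.coprime_iff_not_dvd hq).2 hqK).symm
  -- `q ≠ 2`
  have hq2 : q ≠ 2 := by
    rintro rfl
    have h1 : 2 ∣ Nat.card G := hqd.trans (Subgroup.card_subgroup_dvd_card _)
    have h2 : Odd (Nat.card G) := hG.1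
    rw [Nat.odd_iff] at h2
    omega
  -- an element of order `q` in `K*`
  obtain ⟨y0, hy0⟩ := exists_prime_orderOf_dvd_card' q hqd
  have hyσ : (y0 : G) ∈ sigmaCore M := y0.2.1
  have hyC : (y0 : G) ∈ Subgroup.centralizer (K : Set G) := y0.2.2
  have hyo : orderOf (y0 : G) = q := by rw [Subgroup.orderOf_coe]; exact hy0
  -- the Sylow subgroup of `M_σ`
  have hS' : IsPGroup q (S.subgroupOf (sigmaCore M)) :=
    hSq.comap_of_injective _ (Subgroup.subtype_injective _)
  have hidx : ¬ q ∣ (S.subgroupOf (sigmaCore M)).index := hSyl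
  let P : Sylow q (sigmaCore M) := hS'.toSylow hidx
  have hPcoe : (P : Subgroup (sigmaCore M)) = S.subgroupOf (sigmaCore M) := hS'.toSylow_coe hidx
  have hPn : (P : Subgroup (sigmaCore M)).Normal := by
    rw [hPcoe]
    exact (Subgroup.normal_subgroupOf_iff_le_normalizer hSσ).2 (hσM.trans hSn)
  have hUn : Unique (Sylow q (sigmaCore M)) := Sylow.unique_of_normal P hPn
  -- `y0 ∈ S`
  have hyS : (y0 : G) ∈ S := by
    have hZ : IsPGroup q (Subgroup.zpowers (⟨(y0 : G), hyσ⟩ : sigmaCore M)) := by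
      apply IsPGroup.of_card (n := 1)
      rw [Nat.card_zpowers, pow_one, ← hyo]
      exact (Subgroup.orderOf_mk _ _)
    obtain ⟨Q, hQ⟩ := hZ.exists_le_sylow
    have hQP : Q = P := Subsingleton.elim _ _
    have h1 : (⟨(y0 : G), hyσ⟩ : sigmaCore M) ∈ (P : Subgroup (sigmaCore M)) := by
      rw [← hQP]; exact hQ (Subgroup.mem_zpowers _)
    rw [hPcoe, Subgroup.mem_subgroupOf] at h1
    exact h1
  have hy1 : (y0 : G) ≠ 1 := by
    intro h
    rw [h, orderOf_one] at hyo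
    exact hq.one_lt.ne hyo
  have hyK : K ≤ Subgroup.centralizer ({(y0 : G)} : Set G) := by
    intro k hk
    rw [Subgroup.mem_centralizer_iff]
    intro z hz
    rw [Set.mem_singleton_iff] at hz
    rw [hz]
    exact ((Subgroup.mem_centralizer_iff.1 hyC) k hk).symm
  have hKS : K ≤ Subgroup.centralizer (S : Set G) :=
    le_centralizer_of_cyclic q hq2 S K hSq hSc (hK.1.trans hSn) hcop (y0 : G) hyS hy1 hyK
  have hSK : S ≤ sigmaCore M ⊓ Subgroup.centralizer (K : Set G) := by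
    intro s hs
    refine ⟨hSσ hs, ?_⟩
    show s ∈ Subgroup.centralizer (K : Set G)
    rw [Subgroup.mem_centralizer_iff]
    intro k hk
    exact ((Subgroup.mem_centralizer_iff.1 (hKS hk)) s hs).symm
  have h3 := ((Cfsg.Agent.S1431.result hG M hM K hK hK1).2.2.1 q hq hqd P).2.2
  apply h3
  rw [hPcoe, Subgroup.map_subgroupOf_eq_of_le hSσ]
  exact hSK

end Cfsg.Agent.Lib.Helper65.BG151
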