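import Mathlib
import Cfsg.Agent.S1350
import Cfsg.Agent.S1354
import Cfsg.Agent.S1430
import Cfsg.Agent.S1431
import Cfsg.Agent.Lib.Helper71.BG10Sub
import Cfsg.Agent.Lib.Helper71.BG11a
import Cfsg.Agent.Lib.Helper55.Uniq2
import Cfsg.Agent.Lib.Helper54.BG134Fr2
import Cfsg.Agent.Lib.Helper76.Fitting
import Cfsg.Agent.Lib.Helper97.BG1366O

/-!
# Keystone 135607 (K-152-L2c): `C_M(M_F) ≤ F(M)` in the non-nilpotent case `M_σ = Q ⋊ D`.
-/

set_option autoImplicit false

namespace Cfsg.Agent.Lib.Helper65.BG152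

open Cfsg

/-- K-152-L2c -/
theorem centralizer_le_fittingOf_of_structure {G : Type*} [Group G] [Finite G]
    (hG : IsMinSimpleOddOrder G) {M : Subgroup G} (hM : IsCoatom M) {K Q D : Subgroup G}
    (hKU : IsSigmaDecomposition M K ⊥) (hK1 : K ≠ ⊥) (q : ℕ) (hq : q.Prime)
    (hQn : M ≤ Subgroup.normalizer (Q : Set G)) (hQq : IsPGroup q Q)
    (hcop : (Nat.card Q).Coprime (Q.relIndex M))
    (hKQ : sigmaCore M ⊓ Subgroup.centralizer (K : Set G) ≤ Q) (hQD : Q ⊔ D = sigmaCore M)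
    (hD : Group.IsNilpotent D) (hQF : Q ≤ fittingHallOf M) :
    M ⊓ Subgroup.centralizer (fittingHallOf M : Set G) ≤ fittingOf M := by
  classical
  have hq' : Fact q.Prime := ⟨hq⟩
  have hσM : sigmaCore M ≤ M := Cfsg.Agent.Lib.Helper71.BG11.sigmaCore_le M
  have hQσ : Q ≤ sigmaCore M := by rw [← hQD]; exact le_sup_left
  have hDσ : D ≤ sigmaCore M := by rw [← hQD]; exact le_sup_right
  have hKM : K ≤ M := hKU.hall.1
  have hsolv : Group.IsSolvable M := Cfsg.Agent.Lib.Helper55.ms_solvable hG hM.1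
  -- `K*`
  have hKs1 : sigmaCore M ⊓ Subgroup.centralizer (K : Set G) ≠ ⊥ :=
    (Cfsg.Agent.S1354.result hG M hM K hKU.cyclic hKU.hall).1
  have hKsq : IsPGroup q ↥(sigmaCore M ⊓ Subgroup.centralizer (K : Set G)) := hQq.to_le hKQ
  have hqKs : q ∣ Nat.card ↥(sigmaCore M ⊓ Subgroup.centralizer (K : Set G)) := by
    obtain ⟨n, hn⟩ := IsPGroup.iff_card.1 hKsq
    have hn0 : n ≠ 0 := by
      rintro rfl
      rw [pow_zero] at hn
      exact hKs1 (Subgroup.card_eq_one.1 hn)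
    rw [hn]; exact dvd_pow_self q hn0
  -- `Q` is a Sylow `q`-subgroup of `M_σ`
  have hqQ : q ∣ Nat.card Q := hqKs.trans (Subgroup.card_dvd_of_le hKQ)
  have hqM : ¬ q ∣ Q.relIndex M := by
    intro h
    have h1 : q ∣ Nat.gcd (Nat.card Q) (Q.relIndex M) := Nat.dvd_gcd hqQ h
    rw [hcop] at h1
    exact hq.one_lt.ne' (Nat.dvd_one.1 h1)
  have hqσ : ¬ q ∣ (Q.subgroupOf (sigmaCore M)).index := by
    intro h
    apply hqM
    have h2 := Subgroup.relIndex_mul_relIndex Q (sigmaCore M) M hQσ hσM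
    exact (show q ∣ Q.relIndex (sigmaCore M) from h).trans (Dvd.intro _ h2)
  have hS' : IsPGroup q (Q.subgroupOf (sigmaCore M)) :=
    hQq.comap_of_injective _ (Subgroup.subtype_injective _)
  let S : Sylow q (sigmaCore M) := hS'.toSylow hqσ
  have hScoe : (S : Subgroup (sigmaCore M)) = Q.subgroupOf (sigmaCore M) := hS'.toSylow_coe hqσ
  have hQKs : ¬ Q ≤ sigmaCore M ⊓ Subgroup.centralizer (K : Set G) := by
    have h3 := ((Cfsg.Agent.S1431.result hG M hM K hKU.hall hK1).2.2.1 q hq hqKs S).2.2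
    rwa [hScoe, Subgroup.map_subgroupOf_eq_of_le hQσ] at h3
  -- no nontrivial element of `K` centralizes `Q`
  have hKQ' : ∀ k ∈ K, k ≠ 1 → k ∉ Subgroup.centralizer (Q : Set G) := by
    intro k hk hk1 hkQ
    apply hQKs
    rw [← (Cfsg.Agent.S1430.result hG M hM K hKU.hall hK1).1 k hk hk1]
    intro x hx
    refine ⟨hQσ hx, ?_⟩
    show x ∈ Subgroup.centralizer ({k} : Set G)
    rw [Subgroup.mem_centralizer_iff]
    intro z hz
    rw [Set.mem_singleton_iff] at hz
    rw [hz]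
    exact ((Subgroup.mem_centralizer_iff.1 hkQ) x hx).symm
  -- `C := C_M(Q)` is normalized by `M`
  have hCn : ∀ m ∈ M, ∀ c ∈ M ⊓ Subgroup.centralizer (Q : Set G),
      m * c * m⁻¹ ∈ M ⊓ Subgroup.centralizer (Q : Set G) := by
    intro m hm c hc
    refine Subgroup.mem_inf.2 ⟨M.mul_mem (M.mul_mem hm hc.1) (M.inv_mem hm), ?_⟩
    rw [Subgroup.mem_centralizer_iff]
    intro x hx
    have hx' : m⁻¹ * x * m ∈ Q := by
      have := (Subgroup.mem_normalizer_iff.1 (hQn (inv_mem hm)) x).1 hx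
      simpa using this
    have hcx := (Subgroup.mem_centralizer_iff.1 hc.2) _ hx'
    calc x * (m * c * m⁻¹) = m * ((m⁻¹ * x * m) * c) * m⁻¹ := by group
      _ = m * (c * (m⁻¹ * x * m)) * m⁻¹ := by rw [hcx]
      _ = m * c * m⁻¹ * x := by group
  -- primes of `|C|` do not divide `|K|`
  have hCK : ∀ p : ℕ, p.Prime → p ∣ Nat.card ↥(M ⊓ Subgroup.centralizer (Q : Set G)) →
      ¬ p ∣ Nat.card K := by
    intro p hp hpC hpK
    have : Fact p.Prime := ⟨hp⟩
    obtain ⟨c, hc⟩ := exists_prime_orderOf_dvd_card' p hpC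
    have hcC : (c : G) ∈ M ⊓ Subgroup.centralizer (Q : Set G) := c.2
    have hco : orderOf (c : G) = p := by rw [Subgroup.orderOf_coe]; exact hc
    have hpκ : p ∈ kappa M := hKU.hall.2.1 p hp hpK
    obtain ⟨m, hm, hle⟩ := Cfsg.Agent.Lib.Helper97.BG1366.exists_cj_ge_of_hall hsolv hKU.hall
      (A := Subgroup.zpowers (c : G)) (Subgroup.zpowers_le.2 hcC.1) (by
        intro r hr hrd
        rw [Nat.card_zpowers, hco] at hrd
        rw [(Nat.prime_dvd_prime_iff_eq hr hp).1 hrd]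
        exact hpκ)
    obtain ⟨k, hk, hkc⟩ := hle (Subgroup.mem_zpowers _)
    have hkc' : m * k * m⁻¹ = (c : G) := by simpa [MulAut.conj_apply] using hkc
    have hk1 : k ≠ 1 := by
      rintro rfl
      have h1 : (c : G) = 1 := by rw [← hkc']; group
      rw [h1, orderOf_one] at hco
      exact hp.one_lt.ne hco
    have hkC : k ∈ M ⊓ Subgroup.centralizer (Q : Set G) := by
      have h1 : k = m⁻¹ * (c : G) * m⁻¹⁻¹ := by rw [← hkc']; group
      rw [h1]
      exact hCn _ (inv_mem hm) _ hcC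
    exact hKQ' k hk hk1 hkC.2
  -- `M = K M_σ`
  have hMsup : M ≤ K ⊔ sigmaCore M := by
    intro m hm
    obtain ⟨a, ha, b, hb, hab⟩ := hKU.compl.2.2.2 m hm
    rw [Subgroup.mem_bot] at ha
    rw [hab, ha, one_mul]
    exact hb
  have hcardM : Nat.card M ∣ Nat.card K * Nat.card (sigmaCore M) := by
    have h1 := Cfsg.Agent.Lib.Helper54.BG134.card_sup_dvd_mul_fr2 K (sigmaCore M)
      (hKM.trans (Cfsg.Agent.Lib.Helper71.BG11.le_normalizer_sigmaCore M))
    exact (Subgroup.card_dvd_of_le hMsup).trans h1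
  -- `C ≤ M_σ`
  have hCσ : M ⊓ Subgroup.centralizer (Q : Set G) ≤ sigmaCore M := by
    apply Cfsg.Agent.Lib.Helper71.BG10.le_of_isPiHallOf_normal (Cfsg.Agent.S1350.result hG M hM).1
      (Cfsg.Agent.Lib.Helper71.BG11.le_normalizer_sigmaCore M) inf_le_left
    intro p hp hpC
    have h1 : p ∣ Nat.card K * Nat.card (sigmaCore M) :=
      (hpC.trans (Subgroup.card_dvd_of_le inf_le_left)).trans hcardM
    rcases (Nat.Prime.dvd_mul hp).1 h1 with h | h
    · exact absurd h (hCK p hp hpC)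
    · exact Cfsg.Agent.Lib.Helper71.BG11.sigmaCore_pi hG hM hp h
  -- `C` is nilpotent
  have hQ'n : (Q.subgroupOf (sigmaCore M)).Normal :=
    (Subgroup.normal_subgroupOf_iff_le_normalizer hQσ).2 (hσM.trans hQn)
  have hquot : Group.IsNilpotent (↥(sigmaCore M) ⧸ Q.subgroupOf (sigmaCore M)) := by
    let g : ↥D →* ↥(sigmaCore M) ⧸ Q.subgroupOf (sigmaCore M) :=
      (QuotientGroup.mk' (Q.subgroupOf (sigmaCore M))).comp (Subgroup.inclusion hDσ)
    have hg : Function.Surjective g := by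
      intro y
      obtain ⟨x, rfl⟩ := QuotientGroup.mk_surjective y
      have hx : x ∈ Q.subgroupOf (sigmaCore M) ⊔ D.subgroupOf (sigmaCore M) := by
        rw [← Subgroup.subgroupOf_sup hQσ hDσ, hQD, Subgroup.subgroupOf_self]
        exact Subgroup.mem_top x
      rw [Subgroup.mem_sup_of_normal_left] at hx
      obtain ⟨a, ha, d, hd, rfl⟩ := hx
      refine ⟨⟨(d : G), hd⟩, ?_⟩
      show (QuotientGroup.mk' (Q.subgroupOf (sigmaCore M))) (Subgroup.inclusion hDσ ⟨(d : G), hd⟩)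
        = ((a * d : ↥(sigmaCore M)) : ↥(sigmaCore M) ⧸ Q.subgroupOf (sigmaCore M))
      rw [QuotientGroup.mk_mul, (QuotientGroup.eq_one_iff a).2 ha, one_mul]
      rfl
    exact Group.nilpotent_of_surjective g hg
  have hCnil : Group.IsNilpotent ↥(M ⊓ Subgroup.centralizer (Q : Set G)) := by
    let f : ↥(M ⊓ Subgroup.centralizer (Q : Set G)) →*
        ↥(sigmaCore M) ⧸ Q.subgroupOf (sigmaCore M) :=
      (QuotientGroup.mk' (Q.subgroupOf (sigmaCore M))).comp (Subgroup.inclusion hCσ)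
    refine Subgroup.isNilpotent_of_ker_le_center f ?_
    intro c hc
    rw [MonoidHom.mem_ker] at hc
    have hcQ : (c : G) ∈ Q := by
      have h1 : (Subgroup.inclusion hCσ c) ∈ Q.subgroupOf (sigmaCore M) :=
        (QuotientGroup.eq_one_iff _).1 hc
      exact h1
    rw [Subgroup.mem_center_iff]
    intro d
    apply Subtype.ext
    show (d : G) * (c : G) = (c : G) * (d : G)
    exact ((Subgroup.mem_centralizer_iff.1 d.2.2) (c : G) hcQ).symm
  -- `C ≤ F(M)`
  have hCF : M ⊓ Subgroup.centralizer (Q : Set G) ≤ fittingOf M := by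
    have hnorm : ((M ⊓ Subgroup.centralizer (Q : Set G)).subgroupOf M).Normal := by
      refine ⟨fun c hc m => ?_⟩
      rw [Subgroup.mem_subgroupOf] at hc ⊢
      exact hCn (m : G) m.2 (c : G) hc
    have hnil' : Group.IsNilpotent ↥((M ⊓ Subgroup.centralizer (Q : Set G)).subgroupOf M) :=
      (Group.isNilpotent_congr (Subgroup.subgroupOfEquivOfLe
        (inf_le_left : M ⊓ Subgroup.centralizer (Q : Set G) ≤ M))).2 hCnil
    have h1 := Cfsg.Agent.Lib.Helper76.le_fittingSubgroup hnorm hnil'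
    intro c hc
    exact ⟨⟨c, hc.1⟩, h1 (Subgroup.mem_subgroupOf.2 hc), rfl⟩
  -- conclusion
  refine le_trans ?_ hCF
  intro x hx
  refine ⟨hx.1, ?_⟩
  exact Subgroup.centralizer_le (SetLike.coe_subset_coe.2 hQF) hx.2

end Cfsg.Agent.Lib.Helper65.BG152
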