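import Cfsg.Agent.Lib.Helper54.FStarAct

/-!
# Lemma F, step F4 (for S1428 / BG 13.4)

`N` a `p`-group of class at most two, `R` an `r`-group (`r ≠ p`) normalizing `N` and centralizing every
commutator of `N`, `C_N(R)` abelian.  Then `C_N(R) ≤ Z(N)`.
-/

set_option autoImplicit false

namespace Cfsg.Agent.Lib.Helper65.BGFrobF4

open Subgroup
open scoped commutatorElement

variable {G : Type*} [Group G]

/-- element computation behind F4 -/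
theorem key_commute (x n ρ : G) (hxρ : ρ * x = x * ρ)
    (hcn : (x * n * x⁻¹ * n⁻¹) * n = n * (x * n * x⁻¹ * n⁻¹))
    (hcm : (x * n * x⁻¹ * n⁻¹) * (ρ * n⁻¹ * ρ⁻¹) = (ρ * n⁻¹ * ρ⁻¹) * (x * n * x⁻¹ * n⁻¹))
    (hρc : ρ * (x * n⁻¹ * x⁻¹ * n⁻¹⁻¹) = (x * n⁻¹ * x⁻¹ * n⁻¹⁻¹) * ρ) :
    x * (n * (ρ * n⁻¹ * ρ⁻¹)) = (n * (ρ * n⁻¹ * ρ⁻¹)) * x := by
  set c := x * n * x⁻¹ * n⁻¹ with hc
  set m := ρ * n⁻¹ * ρ⁻¹ with hm
  set c' := x * n⁻¹ * x⁻¹ * n⁻¹⁻¹ with hc'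
  -- c' = c⁻¹
  have e1 : c' = n⁻¹ * c⁻¹ * n := by rw [hc', hc]; group
  have e2 : c⁻¹ * n = n * c⁻¹ := by
    have : n = c * n * c⁻¹ := by rw [hcn]; group
    calc c⁻¹ * n = c⁻¹ * (c * n * c⁻¹) := by rw [← this]
      _ = n * c⁻¹ := by group
  have e3 : c' = c⁻¹ := by
    rw [e1]
    calc n⁻¹ * c⁻¹ * n = n⁻¹ * (c⁻¹ * n) := by group
      _ = n⁻¹ * (n * c⁻¹) := by rw [e2]
      _ = c⁻¹ := by group
  -- x * m = c' * m * x
  have hxρ' : ρ⁻¹ * x = x * ρ⁻¹ := by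
    calc ρ⁻¹ * x = ρ⁻¹ * (x * ρ) * ρ⁻¹ := by group
      _ = ρ⁻¹ * (ρ * x) * ρ⁻¹ := by rw [hxρ]
      _ = x * ρ⁻¹ := by group
  have e4 : x * m = (ρ * c' * ρ⁻¹) * m * x := by
    rw [hm, hc']
    calc x * (ρ * n⁻¹ * ρ⁻¹) = (x * ρ) * n⁻¹ * ρ⁻¹ := by group
      _ = (ρ * x) * n⁻¹ * ρ⁻¹ := by rw [hxρ]
      _ = ρ * (x * n⁻¹ * x⁻¹ * n⁻¹⁻¹) * n⁻¹ * (x * ρ⁻¹) := by group
      _ = ρ * (x * n⁻¹ * x⁻¹ * n⁻¹⁻¹) * n⁻¹ * (ρ⁻¹ * x) := by rw [hxρ']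
      _ = ρ * (x * n⁻¹ * x⁻¹ * n⁻¹⁻¹) * ρ⁻¹ * (ρ * n⁻¹ * ρ⁻¹) * x := by group
  have e5 : ρ * c' * ρ⁻¹ = c' := by
    calc ρ * c' * ρ⁻¹ = (ρ * c') * ρ⁻¹ := by group
      _ = (c' * ρ) * ρ⁻¹ := by rw [hρc]
      _ = c' := by group
  have e6 : x * m = c⁻¹ * m * x := by rw [e4, e5, e3]
  have e7 : x * n = c * n * x := by rw [hc]; group
  have e8 : c⁻¹ * m = m * c⁻¹ := by
    have : m = c * m * c⁻¹ := by rw [hcm]; group
    calc c⁻¹ * m = c⁻¹ * (c * m * c⁻¹) := by rw [← this]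
      _ = m * c⁻¹ := by group
  calc x * (n * m) = (x * n) * m := by group
    _ = (c * n * x) * m := by rw [e7]
    _ = c * n * (x * m) := by group
    _ = c * n * (c⁻¹ * m * x) := by rw [e6]
    _ = c * (n * c⁻¹) * m * x := by group
    _ = c * (c⁻¹ * n) * m * x := by rw [e2]
    _ = (n * m) * x := by group

/-- **F4**: `C_N(R) ≤ Z(N)` for `N` of class at most two, `R` an `r`-group (`r ≠ p`) normalizing the `p`-group `N`
and centralizing all commutators of `N`, provided `C_N(R)` is abelian. -/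
theorem cent_le_centralizer_of_class_two [Finite G] {p r : ℕ} [Fact p.Prime] [Fact r.Prime]
    (N R : Subgroup G) (hN : IsPGroup p N) (hR : IsPGroup r R) (hrp : r ≠ p)
    (hRN : R ≤ normalizer (N : Set G))
    (hcl : ∀ a ∈ N, ∀ b ∈ N, ∀ c ∈ N, (a * b * a⁻¹ * b⁻¹) * c = c * (a * b * a⁻¹ * b⁻¹))
    (hRc : ∀ ρ ∈ R, ∀ a ∈ N, ∀ b ∈ N, ρ * (a * b * a⁻¹ * b⁻¹) = (a * b * a⁻¹ * b⁻¹) * ρ)
    (hab : ∀ x ∈ N ⊓ centralizer (R : Set G), ∀ y ∈ N ⊓ centralizer (R : Set G), x * y = y * x) :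
    N ⊓ centralizer (R : Set G) ≤ centralizer (N : Set G) := by
  intro x hx
  have hxN : x ∈ N := hx.1
  have hxR : ∀ ρ ∈ R, ρ * x = x * ρ := fun ρ hρ => (mem_centralizer_iff.1 hx.2) ρ hρ
  -- coprimality
  have hcop : (Nat.card ↥N).Coprime r := by
    obtain ⟨k, hk⟩ := IsPGroup.iff_card.1 hN
    rw [hk]
    exact Nat.Coprime.pow_left _ ((Nat.coprime_primes (Fact.out : p.Prime) (Fact.out : r.Prime)).2 (Ne.symm hrp))
  have hdec := Cfsg.Agent.Lib.Helper54.commutator_sup_inf_centralizer_of_coprime (p := r) (R := N) (Y := R)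
    hR hcop hRN
  -- the centralizer of x in N
  have hle : ⁅N, R⁆ ⊔ (N ⊓ centralizer (R : Set G)) ≤ centralizer ({x} : Set G) := by
    apply sup_le
    · rw [Subgroup.commutator_le]
      intro n hn ρ hρ
      rw [mem_centralizer_iff]
      intro y hy
      rw [Set.mem_singleton_iff] at hy
      subst hy
      have hm : ρ * n⁻¹ * ρ⁻¹ ∈ N := (mem_normalizer_iff.1 (hRN hρ) n⁻¹).1 (N.inv_mem hn)
      have hcomm : ⁅n, ρ⁆ = n * (ρ * n⁻¹ * ρ⁻¹) := by rw [commutatorElement_def]; group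
      rw [hcomm]
      exact key_commute y n ρ (hxR ρ hρ) (hcl y hxN n hn n hn) (hcl y hxN n hn _ hm)
        (hRc ρ hρ y hxN n⁻¹ (N.inv_mem hn))
    · intro y hy
      rw [mem_centralizer_iff]
      intro z hz
      rw [Set.mem_singleton_iff] at hz
      subst hz
      exact hab z hx y hy
  rw [mem_centralizer_iff]
  intro n hn
  have hn' : n ∈ ⁅N, R⁆ ⊔ (N ⊓ centralizer (R : Set G)) := by rw [hdec]; exact hn
  have : n ∈ centralizer ({x} : Set G) := hle hn'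
  exact ((mem_centralizer_iff.1 this) x rfl).symm

end Cfsg.Agent.Lib.Helper65.BGFrobF4
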