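import Mathlib
import Cfsg.Prelude.Def_Blocks
import Cfsg.Agent.Lib.Helper01.CD3Defs
import Cfsg.Agent.Lib.Helper84.CD3C2
import Cfsg.Agent.Lib.Helper83.Quotient
import Cfsg.Agent.Lib.Helper83.CharMisc

/-!
# S4460 pack K-CD3, leaf 446024 K-CD3-C2: a `p`-group quotient is abelian

Glue over `Helper84.CD3.mul_irr_of_pPower_index` (Gallagher step), inflation
(`Helper83.isIrrCharacter_inflate`) and `Helper83.exists_nonlinear_of_not_comm`.
-/

set_option autoImplicit false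

namespace Cfsg.Agent.Lib.Helper65.CD3

open Cfsg Cfsg.Agent.Lib.Helper01.CD3

universe u

/-- Core contradiction: an irreducible `β` trivial on `K` (of `p`-power index) of degree `m`
divisible by `p`, together with an irreducible of the coprime degree `n`. -/
theorem c2_aux {G : Type u} [Group G] [Finite G] {m n : ℕ} (hm : 1 < m) (hn : 1 < n)
    (hmn : Nat.Coprime m n) (hcd : ThreeDeg G m n)
    (K : Subgroup G) [K.Normal] (p : ℕ) [Fact p.Prime] (hidx : ∃ a : ℕ, K.index = p ^ a)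
    {χ β : G → ℂ} (hχ : IsIrrCharacter G χ) (hχn : charDegree χ = n)
    (hβ : IsIrrCharacter G β) (hβK : ∀ k ∈ K, β k = β 1) (hβm : charDegree β = m)
    (hpm : p ∣ m) : False := by
  classical
  have : Fintype G := Fintype.ofFinite G
  have hp : p.Prime := Fact.out
  have hpn : ¬ p ∣ n := by
    intro h
    have h1 : p ∣ Nat.gcd m n := Nat.dvd_gcd hpm h
    rw [hmn] at h1
    exact hp.one_lt.ne' (Nat.dvd_one.mp h1)
  have hχc := Cfsg.Agent.Lib.Helper83.isCharacter_of_irr hχ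
  have hβc := Cfsg.Agent.Lib.Helper83.isCharacter_of_irr hβ
  have hχ1 : χ 1 = (n : ℂ) := by
    rw [← Cfsg.Agent.Lib.Helper83.charDegree_cast hχc, hχn]
  have hβ1 : β 1 = (m : ℂ) := by
    rw [← Cfsg.Agent.Lib.Helper83.charDegree_cast hβc, hβm]
  have hirr : IsIrrCharacter G (β * χ) :=
    Cfsg.Agent.Lib.Helper84.CD3.mul_irr_of_pPower_index K p hidx hχ hβ hβK n hχ1 hpn
  have hdeg : charDegree (β * χ) = m * n := by
    apply Cfsg.Agent.Lib.Helper84.charDegree_eq_of_one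
    rw [Pi.mul_apply, hβ1, hχ1]
    push_cast
    ring
  rcases hcd _ hirr with h | h | h
  · rw [hdeg] at h
    nlinarith
  · rw [hdeg] at h
    nlinarith
  · rw [hdeg] at h
    nlinarith

/-- 446024 K-CD3-C2: a `p`-group quotient of `G` is abelian. -/
theorem pgroup_quotient_comm {G : Type u} [Group G] [Finite G] {m n : ℕ} (hm : 1 < m) (hn : 1 < n)
    (hmn : Nat.Coprime m n) (hcd : ThreeDeg G m n)
    (hm' : ∃ χ : G → ℂ, IsIrrCharacter G χ ∧ charDegree χ = m)
    (hn' : ∃ χ : G → ℂ, IsIrrCharacter G χ ∧ charDegree χ = n)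
    (K : Subgroup G) [K.Normal] (p : ℕ) [Fact p.Prime] (hp : IsPGroup p (G ⧸ K)) :
    ∀ a b : G ⧸ K, a * b = b * a := by
  classical
  by_contra hnc
  have hpp : p.Prime := Fact.out
  obtain ⟨β, hβne⟩ := Cfsg.Agent.Lib.Helper83.exists_nonlinear_of_not_comm hnc
  -- the inflation
  set β' : G → ℂ := fun g : G => (β : G ⧸ K → ℂ) (QuotientGroup.mk g) with hβ'
  have hβ'irr : IsIrrCharacter G β' := Cfsg.Agent.Lib.Helper83.isIrrCharacter_inflate K β.2
  have hβ'K : ∀ k ∈ K, β' k = β' 1 := by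
    intro k hk
    simp only [hβ']
    rw [(QuotientGroup.eq_one_iff k).mpr hk, QuotientGroup.mk_one]
  have hβ'1 : β' 1 = (β : G ⧸ K → ℂ) 1 := by
    simp only [hβ']
    rw [QuotientGroup.mk_one]
  have hdeg : charDegree β' = charDegree (β : G ⧸ K → ℂ) := by
    simp only [charDegree, hβ'1]
  -- the degree of β is a power of p
  obtain ⟨a, ha⟩ := IsPGroup.iff_card.mp hp
  have hidx : ∃ a : ℕ, K.index = p ^ a := ⟨a, by rw [Subgroup.index_eq_card, ha]⟩
  have hdvd : charDegree (β : G ⧸ K → ℂ) ∣ p ^ a := by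
    rw [← ha]
    exact Cfsg.Agent.Lib.Helper83.irr_charDegree_dvd_card β
  obtain ⟨b, _, hb⟩ := (Nat.dvd_prime_pow hpp).mp hdvd
  have hβc := Cfsg.Agent.Lib.Helper83.isCharacter_of_irr β.2
  have hbne : b ≠ 0 := by
    intro hb0
    apply hβne
    rw [← Cfsg.Agent.Lib.Helper83.charDegree_cast hβc, hb, hb0]
    simp
  have hpd : p ∣ charDegree β' := by
    rw [hdeg, hb]
    exact dvd_pow_self p hbne
  have hne1 : charDegree β' ≠ 1 := by
    intro h1
    rw [h1] at hpd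
    exact hpp.one_lt.ne' (Nat.dvd_one.mp hpd)
  obtain ⟨χm, hχm, hχmd⟩ := hm'
  obtain ⟨χn, hχn, hχnd⟩ := hn'
  rcases hcd β' hβ'irr with h | h | h
  · exact hne1 h
  · exact c2_aux hm hn hmn hcd K p hidx hχn hχnd hβ'irr hβ'K h (h ▸ hpd)
  · exact c2_aux hn hm hmn.symm hcd.symm K p hidx hχm hχmd hβ'irr hβ'K h (h ▸ hpd)

end Cfsg.Agent.Lib.Helper65.CD3
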