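import Mathlib
import Cfsg.Agent.Lib.Helper73.Ito

/-!
# Class sizes `{1, m, mn}`: basic lemmas (towards S4284)
-/

set_option autoImplicit false
set_option linter.unusedSectionVars false

namespace Cfsg.Agent.Lib.Helper65.CS3

open Subgroup

variable {G : Type*} [Group G]

local notation "Cz(" x ")" => Subgroup.centralizer ({x} : Set G)

/-- the class size hypothesis `{1, m, mn}` -/
structure Hyp (G : Type*) [Group G] (m n : ℕ) : Prop where
  hm : 1 < m
  hn : 1 < n
  hcop : m.Coprime n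
  hcs : ∀ x : G, (Subgroup.centralizer ({x} : Set G)).index = 1 ∨
    (Subgroup.centralizer ({x} : Set G)).index = m ∨
    (Subgroup.centralizer ({x} : Set G)).index = m * n
  hsmall : ∃ x : G, (Subgroup.centralizer ({x} : Set G)).index = m
  hbig : ∃ x : G, (Subgroup.centralizer ({x} : Set G)).index = m * n

/-- `x` has prime power order for the prime `p` -/
def IsPElt (p : ℕ) (x : G) : Prop := ∃ k : ℕ, orderOf x = p ^ k

/-- case (b): no primary `π(m)`-element has class size `m` -/
def CaseB (G : Type*) [Group G] (m : ℕ) : Prop :=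
  ∀ p : ℕ, p.Prime → p ∣ m → ∀ u : G, IsPElt p u →
    (Subgroup.centralizer ({u} : Set G)).index ≠ m

lemma mem_Cz {x y : G} : y ∈ Cz(x) ↔ y * x = x * y := Subgroup.mem_centralizer_singleton_iff

lemma mem_Cz' {x y : G} : y ∈ Cz(x) ↔ Commute y x := Subgroup.mem_centralizer_singleton_iff

lemma self_mem_Cz (x : G) : x ∈ Cz(x) := mem_Cz.2 rfl

lemma center_le_Cz (x : G) : Subgroup.center G ≤ Cz(x) := Subgroup.center_le_centralizer _

lemma mem_Cz_comm {x y : G} : y ∈ Cz(x) ↔ x ∈ Cz(y) := by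
  rw [mem_Cz, mem_Cz]; exact eq_comm

lemma index_eq_one_iff_center (x : G) : (Cz(x)).index = 1 ↔ x ∈ Subgroup.center G :=
  Cfsg.Agent.Lib.Helper73.index_Cz_eq_one_iff x

lemma IsPElt.conj {p : ℕ} {x : G} (hx : IsPElt p x) (g : G) : IsPElt p (g * x * g⁻¹) := by
  obtain ⟨k, hk⟩ := hx
  refine ⟨k, ?_⟩
  rw [← hk, ← MulAut.conj_apply]
  exact MulEquiv.orderOf_eq (MulAut.conj g) x

lemma IsPElt.pow {p : ℕ} (hp : p.Prime) {x : G} (hx : IsPElt p x) (j : ℕ) : IsPElt p (x ^ j) := by
  obtain ⟨k, hk⟩ := hx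
  have h1 : orderOf (x ^ j) ∣ p ^ k := hk ▸ orderOf_pow_dvd j
  obtain ⟨i, _, hi⟩ := (Nat.dvd_prime_pow hp).1 h1
  exact ⟨i, hi⟩

lemma Cz_conj (x g : G) (c : G) : g * c * g⁻¹ ∈ Cz(g * x * g⁻¹) ↔ c ∈ Cz(x) := by
  rw [mem_Cz, mem_Cz]
  constructor
  · intro h
    have : g * (c * x) * g⁻¹ = g * (x * c) * g⁻¹ := by
      calc g * (c * x) * g⁻¹ = g * c * g⁻¹ * (g * x * g⁻¹) := by group
        _ = g * x * g⁻¹ * (g * c * g⁻¹) := h
        _ = g * (x * c) * g⁻¹ := by group
    exact mul_left_cancel (mul_right_cancel this)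
  · intro h
    calc g * c * g⁻¹ * (g * x * g⁻¹) = g * (c * x) * g⁻¹ := by group
      _ = g * (x * c) * g⁻¹ := by rw [h]
      _ = g * x * g⁻¹ * (g * c * g⁻¹) := by group

section fin

variable [Finite G] {m n : ℕ}

lemma Hyp.m_pos (h : Hyp G m n) : 0 < m := lt_trans Nat.zero_lt_one h.hm

lemma Hyp.n_pos (h : Hyp G m n) : 0 < n := lt_trans Nat.zero_lt_one h.hn

lemma Hyp.mn_ne_m (h : Hyp G m n) : m * n ≠ m := by
  intro e
  have : m * n = m * 1 := by rw [e, mul_one]
  have := Nat.eq_of_mul_eq_mul_left h.m_pos this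
  have := h.hn
  omega

lemma Hyp.not_mn_dvd_m (h : Hyp G m n) : ¬ m * n ∣ m := by
  intro hd
  have := Nat.le_of_dvd h.m_pos hd
  have h2 : m * 2 ≤ m * n := Nat.mul_le_mul_left m h.hn
  have := h.m_pos
  omega

/-- a noncentral element is small or big -/
lemma Hyp.of_not_center (h : Hyp G m n) {x : G} (hx : x ∉ Subgroup.center G) :
    (Cz(x)).index = m ∨ (Cz(x)).index = m * n := by
  rcases h.hcs x with h1 | h1
  · exact absurd ((index_eq_one_iff_center x).1 h1) hx
  · exact h1

lemma Hyp.not_center_of_small (h : Hyp G m n) {x : G} (hx : (Cz(x)).index = m) :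
    x ∉ Subgroup.center G := by
  intro hc
  rw [← index_eq_one_iff_center, hx] at hc
  have := h.hm
  omega

lemma Hyp.not_center_of_big (h : Hyp G m n) {x : G} (hx : (Cz(x)).index = m * n) :
    x ∉ Subgroup.center G := by
  intro hc
  rw [← index_eq_one_iff_center, hx] at hc
  have := h.hm
  have := h.n_pos
  nlinarith

/-- over a small centralizer everything is small or central -/
lemma Hyp.small_or_central_of_le (h : Hyp G m n) {x y : G} (hx : (Cz(x)).index = m)
    (hle : Cz(x) ≤ Cz(y)) : (Cz(y)).index = 1 ∨ (Cz(y)).index = m := by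
  have hd : (Cz(y)).index ∣ m := hx ▸ Subgroup.index_dvd_of_le hle
  rcases h.hcs y with h1 | h1 | h1
  · exact Or.inl h1
  · exact Or.inr h1
  · rw [h1] at hd
    exact absurd hd h.not_mn_dvd_m

lemma Hyp.Cz_eq_of_small_le (h : Hyp G m n) {x y : G} (hx : (Cz(x)).index = m)
    (hy : (Cz(y)).index = m) (hle : Cz(x) ≤ Cz(y)) : Cz(x) = Cz(y) :=
  Cfsg.Agent.Lib.Helper73.eq_of_le_of_index_eq hle (by rw [hx, hy])

/-- below a big centralizer everything is big -/
lemma Hyp.big_of_le (h : Hyp G m n) {x y : G} (hx : (Cz(x)).index = m * n)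
    (hle : Cz(y) ≤ Cz(x)) : (Cz(y)).index = m * n := by
  have hd : m * n ∣ (Cz(y)).index := hx ▸ Subgroup.index_dvd_of_le hle
  have hmn : 0 < m * n := Nat.mul_pos h.m_pos h.n_pos
  rcases h.hcs y with h1 | h1 | h1
  · rw [h1] at hd
    have := Nat.le_of_dvd Nat.one_pos hd
    have := h.hm
    have := h.n_pos
    nlinarith
  · rw [h1] at hd
    exact absurd hd h.not_mn_dvd_m
  · exact h1

lemma Hyp.Cz_eq_of_big_le (h : Hyp G m n) {x y : G} (hx : (Cz(x)).index = m * n)
    (hle : Cz(y) ≤ Cz(x)) : Cz(y) = Cz(x) :=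
  Cfsg.Agent.Lib.Helper73.eq_of_le_of_index_eq hle (by rw [hx, h.big_of_le hx hle])

/-- centralizer of a product of commuting elements of coprime orders -/
lemma Cz_mul_of_coprime {x c : G} (hxc : Commute x c)
    (hcop : (orderOf x).Coprime (orderOf c)) : Cz(x * c) = Cz(x) ⊓ Cz(c) := by
  apply le_antisymm
  · intro g hg
    rw [mem_Cz'] at hg
    have := Cfsg.Agent.S4127.comm_of_comm_mul x c g hxc hcop hg
    exact Subgroup.mem_inf.2 ⟨mem_Cz'.2 this.1, mem_Cz'.2 this.2⟩
  · intro g hg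
    obtain ⟨h1, h2⟩ := Subgroup.mem_inf.1 hg
    rw [mem_Cz'] at h1 h2 ⊢
    exact h1.mul_right h2

/-- **B1**: in the centralizer of a big `r`-element, the `r'`-elements are central. -/
lemma Hyp.big_central (h : Hyp G m n) {r : ℕ} {w : G} (hw : IsPElt r w)
    (hbig : (Cz(w)).index = m * n) {c : G} (hc : c ∈ Cz(w)) (hcop : (orderOf c).Coprime r)
    {g : G} (hg : g ∈ Cz(w)) : g * c = c * g := by
  obtain ⟨k, hk⟩ := hw
  have hwc : Commute w c := (mem_Cz'.1 hc).symm
  have hco : (orderOf w).Coprime (orderOf c) := by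
    rw [hk]
    exact (Nat.Coprime.pow_right k hcop).symm
  have h1 : Cz(w * c) = Cz(w) ⊓ Cz(c) := Cz_mul_of_coprime hwc hco
  have h2 : Cz(w * c) = Cz(w) := h.Cz_eq_of_big_le hbig (h1 ▸ inf_le_left)
  have h3 : g ∈ Cz(c) := by
    have : g ∈ Cz(w) ⊓ Cz(c) := by rw [← h1, h2]; exact hg
    exact (Subgroup.mem_inf.1 this).2
  exact mem_Cz.1 h3

/-! ### `p`-parts -/

lemma fact_card_Cz (p : ℕ) (x : G) :
    (Nat.card Cz(x)).factorization p + (Cz(x)).index.factorization p =
      (Nat.card G).factorization p := by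
  have h1 := Subgroup.card_mul_index Cz(x)
  rw [← h1, Nat.factorization_mul Nat.card_pos.ne' Subgroup.index_ne_zero_of_finite]
  rfl

lemma pgroup_exponent_le (p : ℕ) {K : Subgroup G} {x : G} (hle : K ≤ Cz(x)) :
    (Nat.card K).factorization p + (Cz(x)).index.factorization p ≤
      (Nat.card G).factorization p := by
  rw [← fact_card_Cz p x]
  have hd : Nat.card K ∣ Nat.card Cz(x) := Subgroup.card_dvd_of_le hle
  have := (Nat.factorization_le_iff_dvd Nat.card_pos.ne' Nat.card_pos.ne').2 hd p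
  omega

lemma exists_sylow_in_Cz (p : ℕ) [Fact p.Prime] (x : G) :
    ∃ K : Subgroup G, IsPGroup p K ∧ K ≤ Cz(x) ∧
      (Nat.card K).factorization p + (Cz(x)).index.factorization p =
        (Nat.card G).factorization p := by
  obtain ⟨S⟩ : Nonempty (Sylow p Cz(x)) := inferInstance
  refine ⟨(S : Subgroup Cz(x)).map (Cz(x)).subtype, S.2.map _, Subgroup.map_subtype_le _, ?_⟩
  rw [← fact_card_Cz p x]
  congr 1
  have h1 : Nat.card ((S : Subgroup Cz(x)).map (Cz(x)).subtype) = Nat.card S :=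
    Subgroup.card_map_of_injective (Subgroup.subtype_injective _)
  rw [h1, Sylow.card_eq_multiplicity]
  rw [Nat.Prime.factorization_pow (Fact.out : p.Prime)]
  simp

lemma factorization_lt_of_lt (p : ℕ) [Fact p.Prime] {K K' : Subgroup G} (hK' : IsPGroup p K')
    (hlt : K < K') : (Nat.card K).factorization p < (Nat.card K').factorization p := by
  have hK : IsPGroup p K := hK'.to_le hlt.le
  obtain ⟨a, ha⟩ := IsPGroup.iff_card.1 hK
  obtain ⟨b, hb⟩ := IsPGroup.iff_card.1 hK'
  have hp : p.Prime := Fact.out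
  rw [ha, hb, Nat.Prime.factorization_pow hp, Nat.Prime.factorization_pow hp]
  simp only [Finsupp.single_eq_same]
  have hcard : Nat.card K < Nat.card K' := by
    by_contra hge
    push Not at hge
    have hle : Nat.card K' = Nat.card K :=
      le_antisymm hge (Nat.le_of_dvd Nat.card_pos (Subgroup.card_dvd_of_le hlt.le))
    have : K = K' := by
      have h2 : (K : Set G) = (K' : Set G) := by
        apply Set.eq_of_subset_of_ncard_le hlt.le _ (Set.toFinite _)
        rw [← Nat.card_coe_set_eq, ← Nat.card_coe_set_eq]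
        exact hle.le
      exact SetLike.coe_injective h2
    exact hlt.ne this
  rw [ha, hb] at hcard
  exact (Nat.pow_lt_pow_iff_right hp.one_lt).1 hcard

/-- `p`-part of the class size of a noncentral element, `p ∣ m` -/
lemma Hyp.fact_index_of_not_center (h : Hyp G m n) {p : ℕ} (hp : p.Prime) (hpm : p ∣ m) {x : G}
    (hx : x ∉ Subgroup.center G) : (Cz(x)).index.factorization p = m.factorization p := by
  rcases h.of_not_center hx with h1 | h1
  · rw [h1]
  · rw [h1, Nat.factorization_mul h.m_pos.ne' h.n_pos.ne']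
    have : ¬ p ∣ n := by
      intro hpn
      have := Nat.dvd_gcd hpm hpn
      rw [h.hcop] at this
      exact hp.one_lt.ne' (Nat.dvd_one.1 this)
    simp [Nat.factorization_eq_zero_of_not_dvd this]

lemma Hyp.fact_index_le (h : Hyp G m n) {p : ℕ} (hp : p.Prime) (hpm : p ∣ m) (x : G) :
    (Cz(x)).index.factorization p ≤ m.factorization p := by
  by_cases hx : x ∈ Subgroup.center G
  · rw [(index_eq_one_iff_center x).2 hx]; simp
  · rw [h.fact_index_of_not_center hp hpm hx]

lemma Hyp.fact_m_pos (h : Hyp G m n) {p : ℕ} (hp : p.Prime) (hpm : p ∣ m) :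
    0 < m.factorization p :=
  hp.factorization_pos_of_dvd h.m_pos.ne' hpm

lemma isPElt_of_mem {p : ℕ} [Fact p.Prime] {K : Subgroup G} (hK : IsPGroup p K) {x : G}
    (hx : x ∈ K) : IsPElt p x := by
  obtain ⟨k, hk⟩ := (IsPGroup.iff_orderOf.1 hK) ⟨x, hx⟩
  refine ⟨k, ?_⟩
  rw [← hk]
  exact (Subgroup.orderOf_mk x hx).symm

lemma isPGroup_zpowers {p : ℕ} [Fact p.Prime] {x : G} (hx : IsPElt p x) :
    IsPGroup p (Subgroup.zpowers x) := by
  obtain ⟨k, hk⟩ := hx
  apply IsPGroup.of_card (n := k)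
  rw [Nat.card_zpowers, hk]

/-- **B2**: every centralizer contains a noncentral `p`-element, for `p ∣ m`. -/
lemma Hyp.exists_noncentral_pelt (h : Hyp G m n) {p : ℕ} (hp : p.Prime) (hpm : p ∣ m) (g : G) :
    ∃ u ∈ Cz(g), IsPElt p u ∧ u ∉ Subgroup.center G := by
  haveI : Fact p.Prime := ⟨hp⟩
  by_contra hcon
  push Not at hcon
  obtain ⟨K, hKp, hKle, hKe⟩ := exists_sylow_in_Cz p g
  have hKc : K ≤ Subgroup.center G := fun u hu => hcon u (hKle hu) (isPElt_of_mem hKp hu)
  obtain ⟨P, hKP⟩ := hKp.exists_le_sylow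
  have hPc : (P : Subgroup G) ≤ Subgroup.center G := by
    intro x hxP
    by_contra hxc
    have hxK : x ∉ K := fun hxK => hxc (hKc hxK)
    have hK'P : K ⊔ Subgroup.zpowers x ≤ (P : Subgroup G) :=
      sup_le hKP ((Subgroup.zpowers_le).2 hxP)
    have hK'p : IsPGroup p (K ⊔ Subgroup.zpowers x : Subgroup G) := P.2.to_le hK'P
    have hlt : K < K ⊔ Subgroup.zpowers x := by
      refine lt_of_le_of_ne le_sup_left ?_
      intro e
      apply hxK
      rw [e]
      exact (le_sup_right : Subgroup.zpowers x ≤ _) (Subgroup.mem_zpowers x)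
    have hle' : K ⊔ Subgroup.zpowers x ≤ Cz(x) :=
      sup_le (hKc.trans (center_le_Cz x)) ((Subgroup.zpowers_le).2 (self_mem_Cz x))
    have h1 := pgroup_exponent_le p hle'
    have h2 := factorization_lt_of_lt p hK'p hlt
    have h3 := h.fact_index_of_not_center hp hpm hxc
    have h4 := h.fact_index_le hp hpm g
    omega
  obtain ⟨x0, hx0⟩ := h.hsmall
  have h5 : (Cz(x0)).index ∣ (P : Subgroup G).index :=
    Subgroup.index_dvd_of_le (hPc.trans (center_le_Cz x0))
  rw [hx0] at h5
  exact P.not_dvd_index (hpm.trans h5)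

/-- **B3'**: a small centralizer is the centralizer of a small element of prime power order. -/
lemma Hyp.exists_primary_of_small (h : Hyp G m n) :
    ∀ (N : ℕ) (y : G), orderOf y = N → (Cz(y)).index = m →
      ∃ r : ℕ, r.Prime ∧ ∃ y' : G, IsPElt r y' ∧ (Cz(y')).index = m ∧ Cz(y') = Cz(y) := by
  intro N
  induction N using Nat.strong_induction_on with
  | _ N ih =>
    intro y hyN hy
    have hyc := h.not_center_of_small hy
    have hy1 : orderOf y ≠ 1 := by
      intro e
      rw [orderOf_eq_one_iff] at e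
      exact hyc (e ▸ Subgroup.one_mem _)
    set p := (orderOf y).minFac with hpdef
    have hp : p.Prime := Nat.minFac_prime hy1
    obtain ⟨u, v, huv, hu, hv, hup, hvp⟩ := Cfsg.Agent.Lib.Helper73.dec' y p hp
    have hzle : Subgroup.zpowers y ≤ Cz(y) := (Subgroup.zpowers_le).2 (self_mem_Cz y)
    have hleu : Cz(y) ≤ Cz(u) := by
      intro g hg
      rw [mem_Cz'] at hg ⊢
      obtain ⟨k, rfl⟩ := Subgroup.mem_zpowers_iff.1 hu
      exact hg.zpow_right k
    have hlev : Cz(y) ≤ Cz(v) := by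
      intro g hg
      rw [mem_Cz'] at hg ⊢
      obtain ⟨k, rfl⟩ := Subgroup.mem_zpowers_iff.1 hv
      exact hg.zpow_right k
    rcases h.small_or_central_of_le hy hleu with hu1 | hum
    · -- `u` central
      have huc : u ∈ Subgroup.center G := (index_eq_one_iff_center u).1 hu1
      have hCv : Cz(v) = Cz(y) := by
        apply le_antisymm _ hlev
        intro g hg
        rw [mem_Cz] at hg ⊢
        rw [← huv]
        have h1 : g * u = u * g := (Subgroup.mem_center_iff.1 huc g)
        calc g * (u * v) = (g * u) * v := by group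
          _ = u * (g * v) := by rw [h1]; group
          _ = u * (v * g) := by rw [hg]
          _ = u * v * g := by group
      have hvm : (Cz(v)).index = m := by rw [hCv, hy]
      have hvlt : orderOf v < N := by
        rw [← hyN]
        have hdvd : orderOf v ∣ orderOf y := by
          obtain ⟨k, rfl⟩ := Subgroup.mem_zpowers_iff.1 hv
          exact orderOf_dvd_of_pow_eq_one (by rw [← zpow_natCast, ← zpow_mul, mul_comm, zpow_mul, zpow_natCast, pow_orderOf_eq_one, one_zpow])
        have hne : orderOf v ≠ orderOf y := by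
          intro e
          rw [e] at hvp
          have : p ∣ orderOf y := Nat.minFac_dvd _
          have h2 := Nat.dvd_gcd this (dvd_refl p)
          rw [hvp] at h2
          exact hp.one_lt.ne' (Nat.dvd_one.1 h2)
        exact lt_of_le_of_ne (Nat.le_of_dvd (orderOf_pos y) hdvd) hne
      obtain ⟨r, hr, y', hy'r, hy'm, hy'C⟩ := ih (orderOf v) hvlt v rfl hvm
      exact ⟨r, hr, y', hy'r, hy'm, hy'C.trans hCv⟩
    · exact ⟨p, hp, u, hup, hum, (h.Cz_eq_of_small_le hy hum hleu).symm⟩

lemma Hyp.exists_primary_of_small' (h : Hyp G m n) {y : G} (hy : (Cz(y)).index = m) :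
    ∃ r : ℕ, r.Prime ∧ ∃ y' : G, IsPElt r y' ∧ (Cz(y')).index = m ∧ Cz(y') = Cz(y) :=
  h.exists_primary_of_small _ y rfl hy

/-- in case (b) a small primary element is an `r`-element with `r ∤ m` -/
lemma Hyp.not_dvd_of_small_primary (h : Hyp G m n) (hB : CaseB G m) {r : ℕ} (hr : r.Prime) {y : G}
    (hyr : IsPElt r y) (hy : (Cz(y)).index = m) : ¬ r ∣ m :=
  fun hrm => hB r hr hrm y hyr hy

/-- in case (b) noncentral primary `π(m)`-elements are big -/
lemma Hyp.big_of_pelt (h : Hyp G m n) (hB : CaseB G m) {p : ℕ} (hp : p.Prime) (hpm : p ∣ m) {u : G}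
    (hu : IsPElt p u) (huc : u ∉ Subgroup.center G) : (Cz(u)).index = m * n := by
  rcases h.of_not_center huc with h1 | h1
  · exact absurd h1 (hB p hp hpm u hu)
  · exact h1

/-- **B3**: in case (b), the centralizer of a noncentral `p`-element (`p ∣ m`) of a small
centralizer is contained in it. -/
lemma Hyp.Cz_le_of_small (h : Hyp G m n) (hB : CaseB G m) {y : G} (hy : (Cz(y)).index = m)
    {p : ℕ} (hp : p.Prime) (hpm : p ∣ m) {u : G} (hu : IsPElt p u)
    (huc : u ∉ Subgroup.center G) (huy : u ∈ Cz(y)) : Cz(u) ≤ Cz(y) := by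
  obtain ⟨r, hr, y', hy'r, hy'm, hy'C⟩ := h.exists_primary_of_small' hy
  have hrm := h.not_dvd_of_small_primary hB hr hy'r hy'm
  have hrp : r ≠ p := fun e => hrm (e ▸ hpm)
  have hubig := h.big_of_pelt hB hp hpm hu huc
  have hy'u : y' ∈ Cz(u) := by
    rw [mem_Cz_comm, hy'C]; exact huy
  obtain ⟨k, hk⟩ := hy'r
  have hcop : (orderOf y').Coprime p := by
    rw [hk]
    exact Nat.Coprime.pow_left k ((Nat.coprime_primes hr hp).2 hrp)
  intro g hg
  rw [← hy'C]
  exact mem_Cz.2 (h.big_central hu hubig hy'u hcop hg)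

end fin

end Cfsg.Agent.Lib.Helper65.CS3
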