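import Mathlib
import Cfsg.Agent.Lib.Helper65.CS3Basic
import Cfsg.Agent.Lib.Helper75.ClassProd

/-!
# Class sizes `{1, p, pn}`, case (b): small centralizers are normal (towards S4284)
-/

set_option autoImplicit false
set_option linter.unusedSectionVars false
set_option linter.unusedVariables false

namespace Cfsg.Agent.Lib.Helper65.CS3

open Subgroup

variable {G : Type*} [Group G]

local notation "Cz(" x ")" => Subgroup.centralizer ({x} : Set G)

/-- case (b) with `m = p` prime, plus: commutators of a Sylow `p`-subgroup are central -/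
structure HypB (G : Type*) [Group G] (p n : ℕ) : Prop where
  hyp : Hyp G p n
  caseB : CaseB G p
  hcomm : ∀ P : Sylow p G, ∀ a ∈ P, ∀ b ∈ P, a * b * a⁻¹ * b⁻¹ ∈ Subgroup.center G

lemma idx_conj (a y : G) : (Cz(a * y * a⁻¹)).index = (Cz(y)).index := by
  have h1 : Cz(a * y * a⁻¹) = (Cz(y)).map ((MulAut.conj a : G ≃* G) : G →* G) := by
    ext c
    rw [Subgroup.mem_map]
    constructor
    · intro hc
      refine ⟨a⁻¹ * c * a, ?_, ?_⟩
      · rw [← Cz_conj y a]
        have : a * (a⁻¹ * c * a) * a⁻¹ = c := by group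
        rw [this]; exact hc
      · simp [MulAut.conj_apply, mul_assoc]
    · rintro ⟨d, hd, rfl⟩
      have : ((MulAut.conj a : G ≃* G) : G →* G) d = a * d * a⁻¹ := by simp [MulAut.conj_apply]
      rw [this, Cz_conj]
      exact hd
  rw [h1, Subgroup.index_map_equiv]

section fin

variable [Finite G] {p n : ℕ} [Fact p.Prime]

/-- **A2**: conjugates of a `p`-element of a small centralizer stay in it. -/
lemma HypB.conj_pelt_mem (H : HypB G p n) {y u : G} (hy : (Cz(y)).index = p) (hu : IsPElt p u)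
    (huy : u ∈ Cz(y)) (g : G) : g * u * g⁻¹ ∈ Cz(y) := by
  obtain ⟨P, hP⟩ := (isPGroup_zpowers hu).exists_le_sylow
  have huP : u ∈ (P : Subgroup G) := hP (Subgroup.mem_zpowers u)
  have hcop : (P : Subgroup G).index.Coprime (Cz(y)).index := by
    rw [hy]
    exact (Nat.Coprime.symm ((Nat.Prime.coprime_iff_not_dvd Fact.out).2 P.not_dvd_index))
  obtain ⟨k, hk, x, hx, rfl⟩ :=
    Cfsg.Agent.Lib.Helper75.ClassProd.exists_mul_of_coprime_index (P : Subgroup G) Cz(y) hcop g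
  have hz := H.hcomm P x hx u huP
  have h1 : x * u * x⁻¹ ∈ Cz(y) := by
    have : x * u * x⁻¹ = (x * u * x⁻¹ * u⁻¹) * u := by group
    rw [this]
    exact mul_mem (center_le_Cz y hz) huy
  have : k * x * u * (k * x)⁻¹ = k * (x * u * x⁻¹) * k⁻¹ := by group
  rw [this]
  exact mul_mem (mul_mem hk h1) (inv_mem hk)

/-- **A2'**: the centralizer of a noncentral `p`-element of a small centralizer `C(y)` lies in all
conjugates of `C(y)`. -/
lemma HypB.Cz_le_conj (H : HypB G p n) {y u : G} (hy : (Cz(y)).index = p) (hu : IsPElt p u)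
    (huc : u ∉ Subgroup.center G) (huy : u ∈ Cz(y)) (a : G) : Cz(u) ≤ Cz(a * y * a⁻¹) := by
  have hy' : (Cz(a * y * a⁻¹)).index = p := by rw [idx_conj, hy]
  have huy' : u ∈ Cz(a * y * a⁻¹) := by
    have h1 := H.conj_pelt_mem hy hu huy a⁻¹
    rw [← Cz_conj y a] at h1
    have : a * (a⁻¹ * u * a⁻¹⁻¹) * a⁻¹ = u := by group
    rw [this] at h1
    exact h1
  exact H.hyp.Cz_le_of_small H.caseB hy' Fact.out (dvd_refl p) hu huc huy'

lemma HypB.conj_mem_of_mem_Cz (H : HypB G p n) {y u : G} (hy : (Cz(y)).index = p) (hu : IsPElt p u)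
    (huc : u ∉ Subgroup.center G) (huy : u ∈ Cz(y)) {g : G} (hg : g ∈ Cz(u)) (a : G) :
    a * g * a⁻¹ ∈ Cz(y) := by
  have h1 := H.Cz_le_conj hy hu huc huy a⁻¹ hg
  rw [← Cz_conj _ a] at h1
  have : a * (a⁻¹ * y * a⁻¹⁻¹) * a⁻¹ = y := by group
  rw [this] at h1
  exact h1

/-- **A3** -/
lemma HypB.conj_mem_of_coprime (H : HypB G p n) {y g : G} (hy : (Cz(y)).index = p)
    (hg : g ∈ Cz(y)) (hcop : (orderOf g).Coprime (orderOf y)) (a : G) :
    a * g * a⁻¹ ∈ Cz(y) := by
  have hgy : Commute g y := mem_Cz'.1 hg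
  have h1 : Cz(g * y) = Cz(g) ⊓ Cz(y) := Cz_mul_of_coprime hgy hcop
  obtain ⟨u, hu1, hup, huc⟩ := H.hyp.exists_noncentral_pelt Fact.out (dvd_refl p) (g * y)
  rw [h1] at hu1
  obtain ⟨hug, huy⟩ := Subgroup.mem_inf.1 hu1
  exact H.conj_mem_of_mem_Cz hy hup huc huy (mem_Cz_comm.1 hug) a

/-- big `r`-elements of a small centralizer, `r ≠ p` -/
lemma HypB.conj_mem_of_big (H : HypB G p n) {y g : G} (hy : (Cz(y)).index = p)
    (hg : g ∈ Cz(y)) {r : ℕ} (hr : r.Prime) (hrp : r ≠ p) (hgr : IsPElt r g)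
    (hgbig : (Cz(g)).index = p * n) (a : G) : a * g * a⁻¹ ∈ Cz(y) := by
  obtain ⟨u, hu1, hup, huc⟩ := H.hyp.exists_noncentral_pelt Fact.out (dvd_refl p) g
  have hcop : (orderOf u).Coprime r := by
    obtain ⟨k, hk⟩ := hup
    rw [hk]
    exact Nat.Coprime.pow_left k ((Nat.coprime_primes Fact.out hr).2 (Ne.symm hrp))
  have hyg : y ∈ Cz(g) := mem_Cz_comm.1 hg
  have h2 := H.hyp.big_central hgr hgbig hu1 hcop hyg
  have huy : u ∈ Cz(y) := mem_Cz.2 h2.symm
  exact H.conj_mem_of_mem_Cz hy hup huc huy (mem_Cz_comm.1 hu1) a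

/-- conjugates of a small element commute -/
lemma HypB.conj_comm_of_small (H : HypB G p n) {g : G} (hg : (Cz(g)).index = p) (a : G) :
    a * g * a⁻¹ ∈ Cz(g) := by
  obtain ⟨u, hu1, hup, huc⟩ := H.hyp.exists_noncentral_pelt Fact.out (dvd_refl p) g
  exact H.conj_mem_of_mem_Cz hg hup huc hu1 (mem_Cz_comm.1 hu1) a

end fin

end Cfsg.Agent.Lib.Helper65.CS3
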