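import Mathlib
import Cfsg.Agent.Lib.Helper65.CS3B1

set_option autoImplicit false
set_option linter.unusedSectionVars false
set_option linter.unusedVariables false

namespace Cfsg.Agent.Lib.Helper65.CS3

open Subgroup

variable {G : Type*} [Group G]

local notation "Cz(" x ")" => Subgroup.centralizer ({x} : Set G)

/-- an `r`-element whose conjugates commute pairwise lies, with all its conjugates, in every
subgroup of index prime to `r` -/
lemma conj_mem_of_comm_conj [Finite G] {r : ℕ} [Fact r.Prime] {g : G} (hgr : IsPElt r g)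
    (hcomm : ∀ a : G, a * g * a⁻¹ ∈ Cz(g)) (Y : Subgroup G) (hY : ¬ r ∣ Y.index) (a : G) :
    a * g * a⁻¹ ∈ Y := by
  have hr : r.Prime := Fact.out
  set S : Set G := Set.range (fun a : G => a * g * a⁻¹) with hS
  set M : Subgroup G := Subgroup.closure S with hM
  -- pairwise commuting
  have h1 : ∀ s ∈ S, ∀ t ∈ S, s * t = t * s := by
    rintro s ⟨a, rfl⟩ t ⟨b, rfl⟩
    have h := hcomm (a⁻¹ * b)
    rw [← Cz_conj g a] at h
    have e : a * (a⁻¹ * b * g * (a⁻¹ * b)⁻¹) * a⁻¹ = b * g * b⁻¹ := by group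
    rw [e] at h
    exact (mem_Cz.1 h).symm
  have h2 : M ≤ Subgroup.centralizer S := by
    rw [hM, Subgroup.closure_le]
    intro s hs
    rw [SetLike.mem_coe, Subgroup.mem_centralizer_iff]
    intro t ht
    exact h1 t ht s hs
  have h3 : M ≤ Subgroup.centralizer (M : Set G) := by
    rw [hM, Subgroup.closure_le]
    intro s hs
    rw [SetLike.mem_coe, Subgroup.mem_centralizer_iff]
    intro x hx
    have := h2 hx
    rw [Subgroup.mem_centralizer_iff] at this
    exact (this s hs).symm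
  have h4 : ∀ x ∈ M, ∀ y ∈ M, x * y = y * x := by
    intro x hx y hy
    have := h3 hy
    rw [Subgroup.mem_centralizer_iff] at this
    exact this x hx
  -- `M` is an `r`-group
  have h5 : ∀ x ∈ M, IsPElt r x := by
    intro x hx
    induction hx using Subgroup.closure_induction with
    | mem s hs =>
      obtain ⟨a, rfl⟩ := hs
      exact hgr.conj a
    | one => exact ⟨0, by simp⟩
    | mul x y hx hy ihx ihy =>
      obtain ⟨i, hi⟩ := ihx
      obtain ⟨j, hj⟩ := ihy
      have hc : Commute x y := h4 x hx y hy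
      have hd : orderOf (x * y) ∣ r ^ (max i j) := by
        refine hc.orderOf_mul_dvd_lcm.trans ?_
        rw [hi, hj]
        exact Nat.lcm_dvd (pow_dvd_pow r (le_max_left i j)) (pow_dvd_pow r (le_max_right i j))
      obtain ⟨k, _, hk⟩ := (Nat.dvd_prime_pow hr).1 hd
      exact ⟨k, hk⟩
    | inv x hx ih =>
      obtain ⟨i, hi⟩ := ih
      exact ⟨i, by rw [orderOf_inv, hi]⟩
  have h6 : IsPGroup r M := by
    intro x
    obtain ⟨k, hk⟩ := h5 x.1 x.2
    refine ⟨k, ?_⟩
    apply Subtype.ext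
    rw [Subgroup.coe_pow, Subgroup.coe_one, ← hk]
    exact pow_orderOf_eq_one _
  -- fixed point
  have hcard : ¬ r ∣ Nat.card (G ⧸ Y) := hY
  obtain ⟨q, hq⟩ := h6.nonempty_fixed_point_of_prime_not_dvd_card (G ⧸ Y) hcard
  obtain ⟨b, rfl⟩ := QuotientGroup.mk_surjective q
  rw [MulAction.mem_fixedPoints] at hq
  have hx : b * (a * g * a⁻¹) * b⁻¹ ∈ M := by
    apply Subgroup.subset_closure
    exact ⟨b * a, by group⟩
  have h7 := hq ⟨_, hx⟩
  have h8 : ((b * (a * g * a⁻¹) * b⁻¹ * b : G) : G ⧸ Y) = (b : G ⧸ Y) := h7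
  rw [QuotientGroup.eq] at h8
  have e : (b * (a * g * a⁻¹) * b⁻¹ * b)⁻¹ * b = (a * g * a⁻¹)⁻¹ := by group
  rw [e] at h8
  exact (Subgroup.inv_mem_iff Y).1 h8


section fin

variable [Finite G] {p n : ℕ} [Fact p.Prime]

/-- a small centralizer of a primary element is normal -/
lemma HypB.small_normal_primary (H : HypB G p n) {y : G} (hy : (Cz(y)).index = p) {r : ℕ}
    (hr : r.Prime) (hyr : IsPElt r y) {g : G} (hg : g ∈ Cz(y)) (a : G) : a * g * a⁻¹ ∈ Cz(y) := by
  haveI : Fact r.Prime := ⟨hr⟩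
  have hp : p.Prime := Fact.out
  have hrm : ¬ r ∣ p := H.hyp.not_dvd_of_small_primary H.caseB hr hyr hy
  have hrp : r ≠ p := fun e => hrm (e ▸ dvd_refl _)
  obtain ⟨u, v, huv, hu, hv, hur, hvr⟩ := Cfsg.Agent.Lib.Helper73.dec' g r hr
  have hzle : Subgroup.zpowers g ≤ Cz(y) := (Subgroup.zpowers_le).2 hg
  have e : a * g * a⁻¹ = (a * u * a⁻¹) * (a * v * a⁻¹) := by rw [← huv]; group
  rw [e]
  refine mul_mem ?_ ?_
  · -- the `r`-part
    rcases H.hyp.hcs u with h1 | h1 | h1
    · have huc : u ∈ Subgroup.center G := (index_eq_one_iff_center u).1 h1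
      have : a * u * a⁻¹ = u := by
        rw [Subgroup.mem_center_iff.1 huc a]; group
      rw [this]
      exact hzle hu
    · exact conj_mem_of_comm_conj hur (H.conj_comm_of_small h1) Cz(y) (by rw [hy]; exact hrm) a
    · exact H.conj_mem_of_big hy (hzle hu) hr hrp hur h1 a
  · -- the `r'`-part
    obtain ⟨k, hk⟩ := hyr
    exact H.conj_mem_of_coprime hy (hzle hv) (by rw [hk]; exact Nat.Coprime.pow_right k hvr) a

/-- a small centralizer is normal -/
lemma HypB.small_normal (H : HypB G p n) {y : G} (hy : (Cz(y)).index = p) {g : G}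
    (hg : g ∈ Cz(y)) (a : G) : a * g * a⁻¹ ∈ Cz(y) := by
  obtain ⟨r, hr, y', hy'r, hy'm, hy'C⟩ := H.hyp.exists_primary_of_small' hy
  rw [← hy'C] at hg ⊢
  exact H.small_normal_primary hy'm hr hy'r hg a

lemma HypB.small_normal' (H : HypB G p n) {y : G} (hy : (Cz(y)).index = p) : (Cz(y)).Normal :=
  ⟨fun g hg a => H.small_normal hy hg a⟩

/-- a small centralizer contains all `p'`-elements -/
lemma HypB.mem_small_of_coprime (H : HypB G p n) {y : G} (hy : (Cz(y)).index = p) {x : G}
    (hx : (orderOf x).Coprime p) : x ∈ Cz(y) := by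
  haveI := H.small_normal' hy
  have h1 : x ^ p ∈ Cz(y) := by
    have := Subgroup.pow_index_mem Cz(y) x
    rwa [hy] at this
  obtain ⟨j, hj⟩ := exists_pow_eq_self_of_coprime (Nat.Coprime.symm hx)
  rw [← hj]
  exact Subgroup.pow_mem _ h1 j

end fin

end Cfsg.Agent.Lib.Helper65.CS3
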