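import Mathlib

/-!
# The "second centre" tool (towards S4284)

In a `p`-subgroup `P` of `G`, every `P`-invariant subgroup `K ≤ P` not contained in `Z(G)` contains
an element `v ∉ Z(G)` with `v ^ p ∈ Z(G)` and `[g, v] ∈ Z(G)` for all `g ∈ P`.
-/

set_option autoImplicit false

namespace Cfsg.Agent.Lib.Helper65.CS3

open Subgroup

variable {G : Type*} [Group G]

/-- conjugating a power when the commutator is central -/
lemma conj_pow_of_comm_central {g v : G} (hz : g * v * g⁻¹ * v⁻¹ ∈ Subgroup.center G) (j : ℕ) :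
    g * v ^ j * g⁻¹ * (v ^ j)⁻¹ = (g * v * g⁻¹ * v⁻¹) ^ j := by
  set z := g * v * g⁻¹ * v⁻¹ with hzdef
  have h1 : g * v * g⁻¹ = z * v := by rw [hzdef]; group
  have hzv : Commute z v := (Subgroup.mem_center_iff.1 hz v).symm
  have h2 : g * v ^ j * g⁻¹ = (g * v * g⁻¹) ^ j := by
    rw [← MulAut.conj_apply, map_pow, MulAut.conj_apply]
  rw [h2, h1, hzv.mul_pow]
  group

theorem tool [Finite G] {p : ℕ} [Fact p.Prime] (P K : Subgroup G) (hP : IsPGroup p P)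
    (hKP : K ≤ P) (hnorm : ∀ g ∈ P, ∀ k ∈ K, g * k * g⁻¹ ∈ K)
    (hK : ¬ K ≤ Subgroup.center G) :
    ∃ v ∈ K, v ∉ Subgroup.center G ∧ v ^ p ∈ Subgroup.center G ∧
      ∀ g ∈ P, g * v * g⁻¹ * v⁻¹ ∈ Subgroup.center G := by
  classical
  have hp : p.Prime := Fact.out
  haveI : Group.IsNilpotent P := hP.isNilpotent
  obtain ⟨c, hc⟩ := Group.IsNilpotent.nilpotent P
  -- the predicate
  let Q : ℕ → Prop := fun i => ∃ v ∈ K, ∃ hv : v ∈ P,
    (⟨v, hv⟩ : P) ∈ Subgroup.upperCentralSeries P i ∧ v ∉ Subgroup.center G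
  have hQc : Q c := by
    obtain ⟨v, hvK, hvc⟩ := SetLike.not_le_iff_exists.1 hK
    exact ⟨v, hvK, hKP hvK, by rw [hc]; trivial, hvc⟩
  have hex : ∃ i, Q i := ⟨c, hQc⟩
  set i := Nat.find hex with hi
  have hQi : Q i := Nat.find_spec hex
  have hi0 : i ≠ 0 := by
    intro e
    obtain ⟨v, _, hv, hvz, hvc⟩ := hQi
    rw [e, Subgroup.upperCentralSeries_zero, Subgroup.mem_bot] at hvz
    have : v = 1 := congrArg Subtype.val hvz
    exact hvc (this ▸ Subgroup.one_mem _)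
  obtain ⟨i', hi'⟩ := Nat.exists_eq_succ_of_ne_zero hi0
  have hmin : ¬ Q i' := Nat.find_min hex (by rw [← hi, hi']; exact Nat.lt_succ_self i')
  obtain ⟨v, hvK, hvP, hvz, hvc⟩ := hQi
  -- the commutators are central
  have hcomm : ∀ g ∈ P, g * v * g⁻¹ * v⁻¹ ∈ Subgroup.center G := by
    intro g hg
    by_contra hcon
    apply hmin
    have h1 : g * v * g⁻¹ * v⁻¹ ∈ K := K.mul_mem (hnorm g hg v hvK) (K.inv_mem hvK)
    have h1P : g * v * g⁻¹ * v⁻¹ ∈ P := hKP h1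
    refine ⟨g * v * g⁻¹ * v⁻¹, h1, h1P, ?_, hcon⟩
    rw [hi', Nat.succ_eq_add_one] at hvz
    -- `⁅v, g⁻¹⁆`-type element: use the inverse of the commutator
    have h2 := (Subgroup.mem_upperCentralSeries_succ_iff.1 hvz) (⟨g, hg⟩ : P)
    -- `⁅v, g⁆ = v g v⁻¹ g⁻¹`, our element is its inverse
    have h3 : (⟨g * v * g⁻¹ * v⁻¹, h1P⟩ : P) =
        ((⟨v, hvP⟩ : P) * ⟨g, hg⟩ * (⟨v, hvP⟩ : P)⁻¹ * (⟨g, hg⟩ : P)⁻¹)⁻¹ := by
      apply Subtype.ext
      simp only [Subgroup.coe_inv, Subgroup.coe_mul]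
      group
    rw [h3]
    exact Subgroup.inv_mem _ h2
  -- now adjust `v` by a `p`-power
  obtain ⟨k, hk⟩ := (IsPGroup.iff_orderOf.1 hP) ⟨v, hvP⟩
  have hk' : v ^ (p ^ k) = 1 := by
    have : orderOf v = p ^ k := by rw [← hk]; exact (Subgroup.orderOf_mk v hvP).symm
    rw [← this]; exact pow_orderOf_eq_one v
  have hex2 : ∃ j, v ^ (p ^ j) ∈ Subgroup.center G := ⟨k, hk' ▸ Subgroup.one_mem _⟩
  set j := Nat.find hex2 with hj
  have hj1 : v ^ (p ^ j) ∈ Subgroup.center G := Nat.find_spec hex2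
  have hj0 : j ≠ 0 := by
    intro e
    rw [e, pow_zero, pow_one] at hj1
    exact hvc hj1
  obtain ⟨j', hj'⟩ := Nat.exists_eq_succ_of_ne_zero hj0
  have hjmin : v ^ (p ^ j') ∉ Subgroup.center G :=
    Nat.find_min hex2 (by rw [← hj, hj']; exact Nat.lt_succ_self j')
  refine ⟨v ^ (p ^ j'), K.pow_mem hvK _, hjmin, ?_, ?_⟩
  · rw [← pow_mul, ← pow_succ, ← Nat.succ_eq_add_one, ← hj']
    exact hj1
  · intro g hg
    rw [conj_pow_of_comm_central (hcomm g hg)]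
    exact Subgroup.pow_mem _ (hcomm g hg) _

end Cfsg.Agent.Lib.Helper65.CS3
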