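import Mathlib
import Cfsg.Agent.Lib.Helper65.CS3B2
import Cfsg.Agent.Lib.Helper65.CS3Tool

/-!
# Class sizes `{1, p, pn}`, case (b): uniqueness of the small centralizer (towards S4284)
-/

set_option autoImplicit false
set_option linter.unusedSectionVars false
set_option linter.unusedVariables false
set_option linter.style.haveILetI false

namespace Cfsg.Agent.Lib.Helper65.CS3

open Subgroup

variable {G : Type*} [Group G]

local notation "Cz(" x ")" => Subgroup.centralizer ({x} : Set G)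

section fin

variable [Finite G] {p n : ℕ} [Fact p.Prime]

/-- for a normal centralizer `C(y)`, it centralizes the commutators `y⁻¹ (u y u⁻¹)` -/
lemma HypB.Cz_le_Cz_comm (H : HypB G p n) {y : G} (hy : (Cz(y)).index = p) (u : G) :
    Cz(y) ≤ Cz(y⁻¹ * (u * y * u⁻¹)) := by
  intro x hx
  have h1 : u⁻¹ * x * u⁻¹⁻¹ ∈ Cz(y) := H.small_normal hy hx u⁻¹
  rw [← Cz_conj y u] at h1
  have e : u * (u⁻¹ * x * u⁻¹⁻¹) * u⁻¹ = x := by group
  rw [e] at h1
  rw [mem_Cz'] at hx h1 ⊢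
  exact (hx.inv_right).mul_right h1

lemma HypB.not_p_dvd_n (H : HypB G p n) : ¬ p ∣ n := by
  intro hpn
  have hp : p.Prime := Fact.out
  have := Nat.dvd_gcd (dvd_refl p) hpn
  rw [H.hyp.hcop] at this
  exact hp.one_lt.ne' (Nat.dvd_one.1 this)

/-- uniqueness of the small centralizer, primary case -/
lemma HypB.small_unique_primary (H : HypB G p n) {y₁ y₂ : G} (h1 : (Cz(y₁)).index = p)
    (h2 : (Cz(y₂)).index = p) {r₂ : ℕ} (hr₂ : r₂.Prime) (hy₂ : IsPElt r₂ y₂) :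
    Cz(y₁) = Cz(y₂) := by
  have hp : p.Prime := Fact.out
  have h := H.hyp
  by_contra hne
  have hr₂m : ¬ r₂ ∣ p := h.not_dvd_of_small_primary H.caseB hr₂ hy₂ h2
  have hr₂p : r₂ ≠ p := fun e => hr₂m (e ▸ dvd_refl _)
  have hcop₂ : (orderOf y₂).Coprime p := by
    obtain ⟨k, hk⟩ := hy₂
    rw [hk]
    exact Nat.Coprime.pow_left k ((Nat.coprime_primes hr₂ hp).2 hr₂p)
  -- (a)
  have hy21 : y₂ ∈ Cz(y₁) := H.mem_small_of_coprime h1 hcop₂
  have hc12 : Commute y₁ y₂ := (mem_Cz'.1 hy21).symm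
  haveI hN1 := H.small_normal' h1
  haveI hN2 := H.small_normal' h2
  -- (b)
  have hrel : (Cz(y₂)).relIndex Cz(y₁) = p := by
    have hd : (Cz(y₂)).relIndex Cz(y₁) ∣ p := h2 ▸ Subgroup.relIndex_dvd_index_of_normal _ _
    rcases (Nat.dvd_prime hp).1 hd with e | e
    · exfalso
      rw [Subgroup.relIndex_eq_one] at e
      exact hne (h.Cz_eq_of_small_le h1 h2 e)
    · exact e
  have hinf : (Cz(y₁) ⊓ Cz(y₂)).index = p * p := by
    have e1 : (Cz(y₁) ⊓ Cz(y₂)).relIndex Cz(y₁) = (Cz(y₂)).relIndex Cz(y₁) :=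
      Subgroup.inf_relIndex_left _ _
    have e2 := Subgroup.relIndex_mul_index (inf_le_left : Cz(y₁) ⊓ Cz(y₂) ≤ Cz(y₁))
    rw [e1, hrel, h1] at e2
    exact e2.symm
  set y₃ := y₁ * y₂ with hy₃
  have hle3 : Cz(y₁) ⊓ Cz(y₂) ≤ Cz(y₃) := by
    intro x hx
    obtain ⟨hx1, hx2⟩ := Subgroup.mem_inf.1 hx
    rw [mem_Cz'] at hx1 hx2 ⊢
    exact hx1.mul_right hx2
  have h3 : (Cz(y₃)).index = p := by
    rcases h.hcs y₃ with e | e | e
    · exfalso
      have hc : y₃ ∈ Subgroup.center G := (index_eq_one_iff_center y₃).1 e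
      apply hne
      apply h.Cz_eq_of_small_le h1 h2
      intro x hx
      rw [mem_Cz'] at hx ⊢
      have e2 : y₂ = y₁⁻¹ * y₃ := by rw [hy₃]; group
      rw [e2]
      exact (hx.inv_right).mul_right ((Subgroup.mem_center_iff.1 hc x))
    · exact e
    · exfalso
      have hd : (Cz(y₃)).index ∣ (Cz(y₁) ⊓ Cz(y₂)).index := Subgroup.index_dvd_of_le hle3
      rw [e, hinf] at hd
      have hd2 : n ∣ p := Nat.dvd_of_mul_dvd_mul_left hp.pos hd
      rcases (Nat.dvd_prime hp).1 hd2 with e3 | e3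
      · have := h.hn; omega
      · exact H.not_p_dvd_n (e3 ▸ dvd_refl _)
  -- (c)
  have hne32 : Cz(y₃) ≠ Cz(y₂) := by
    intro e
    apply hne
    symm
    apply h.Cz_eq_of_small_le h2 h1
    intro x hx
    have hx3 : x ∈ Cz(y₃) := e ▸ hx
    rw [mem_Cz'] at hx hx3 ⊢
    have e2 : y₁ = y₃ * y₂⁻¹ := by rw [hy₃]; group
    rw [e2]
    exact hx3.mul_right hx.inv_right
  -- (d)
  obtain ⟨u, hu1, hup, huc⟩ := h.exists_noncentral_pelt hp (dvd_refl p) y₁
  have hu2 : u ∉ Cz(y₂) := by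
    intro hu2
    have hle : Cz(u) ≤ Cz(y₁) ⊓ Cz(y₂) :=
      le_inf (h.Cz_le_of_small H.caseB h1 hp (dvd_refl p) hup huc hu1)
        (h.Cz_le_of_small H.caseB h2 hp (dvd_refl p) hup huc hu2)
    have hd : (Cz(y₁) ⊓ Cz(y₂)).index ∣ (Cz(u)).index := Subgroup.index_dvd_of_le hle
    rw [hinf, h.big_of_pelt H.caseB hp (dvd_refl p) hup huc] at hd
    exact H.not_p_dvd_n (Nat.dvd_of_mul_dvd_mul_left hp.pos hd)
  -- (e)
  set c := y₂⁻¹ * (u * y₂ * u⁻¹) with hc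
  have hc' : c = y₃⁻¹ * (u * y₃ * u⁻¹) := by
    have hu1' : u * y₁ = y₁ * u := mem_Cz.1 hu1
    have e1 : u * y₃ * u⁻¹ = y₁ * (u * y₂ * u⁻¹) := by
      rw [hy₃]
      calc u * (y₁ * y₂) * u⁻¹ = (u * y₁) * y₂ * u⁻¹ := by group
        _ = y₁ * u * y₂ * u⁻¹ := by rw [hu1']
        _ = y₁ * (u * y₂ * u⁻¹) := by group
    rw [e1, hc, hy₃]
    group
  have hle2 : Cz(y₂) ≤ Cz(c) := H.Cz_le_Cz_comm h2 u
  have hle3' : Cz(y₃) ≤ Cz(c) := by
    rw [hc']; exact H.Cz_le_Cz_comm h3 u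
  have hcc : c ∈ Subgroup.center G := by
    rcases h.hcs c with e | e | e
    · exact (index_eq_one_iff_center c).1 e
    · exfalso
      exact hne32 ((h.Cz_eq_of_small_le h3 e hle3').trans (h.Cz_eq_of_small_le h2 e hle2).symm)
    · exfalso
      have hd : (Cz(c)).index ∣ (Cz(y₂)).index := Subgroup.index_dvd_of_le hle2
      rw [e, h2] at hd
      exact h.not_mn_dvd_m hd
  -- (f)
  have hconj : u * y₂ * u⁻¹ = y₂ * c := by rw [hc]; group
  have hcy : Commute y₂ c := (Subgroup.mem_center_iff.1 hcc y₂)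
  have hpow1 : c ^ (orderOf y₂) = 1 := by
    have e1 : (u * y₂ * u⁻¹) ^ (orderOf y₂) = 1 := by
      rw [← MulAut.conj_apply, ← map_pow, pow_orderOf_eq_one, map_one]
    rw [hconj, hcy.mul_pow, pow_orderOf_eq_one, one_mul] at e1
    exact e1
  have hpow2 : c ^ (orderOf u) = 1 := by
    have hz : y₂⁻¹ * u * y₂⁻¹⁻¹ * u⁻¹ ∈ Subgroup.center G := by
      have : y₂⁻¹ * u * y₂⁻¹⁻¹ * u⁻¹ = c := by rw [hc]; group
      rw [this]; exact hcc
    have e1 := conj_pow_of_comm_central hz (orderOf u)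
    rw [pow_orderOf_eq_one] at e1
    have e2 : y₂⁻¹ * u * y₂⁻¹⁻¹ * u⁻¹ = c := by rw [hc]; group
    rw [e2] at e1
    rw [← e1]
    group
  have ho1 : orderOf c ∣ orderOf y₂ := orderOf_dvd_of_pow_eq_one hpow1
  have ho2 : orderOf c ∣ orderOf u := orderOf_dvd_of_pow_eq_one hpow2
  have hcopu : (orderOf y₂).Coprime (orderOf u) := by
    obtain ⟨k, hk⟩ := hup
    rw [hk]
    exact Nat.Coprime.pow_right k hcop₂
  have ho : orderOf c = 1 := Nat.eq_one_of_dvd_coprimes hcopu ho1 ho2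
  have hc1 : c = 1 := orderOf_eq_one_iff.1 ho
  apply hu2
  rw [mem_Cz]
  rw [hc1, mul_one] at hconj
  calc u * y₂ = (u * y₂ * u⁻¹) * u := by group
    _ = y₂ * u := by rw [hconj]

/-- uniqueness of the small centralizer -/
lemma HypB.small_unique (H : HypB G p n) {y₁ y₂ : G} (h1 : (Cz(y₁)).index = p)
    (h2 : (Cz(y₂)).index = p) : Cz(y₁) = Cz(y₂) := by
  obtain ⟨r, hr, y', hy'r, hy'm, hy'C⟩ := H.hyp.exists_primary_of_small' h2
  rw [← hy'C]
  exact H.small_unique_primary h1 hy'm hr hy'r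

end fin

end Cfsg.Agent.Lib.Helper65.CS3
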