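import Mathlib
import Cfsg.Agent.Lib.Helper65.CS3B3

/-!
# Class sizes `{1, p, pn}`, case (b): the contradiction (towards S4284)
-/

set_option autoImplicit false
set_option linter.unusedSectionVars false
set_option linter.unusedVariables false
set_option linter.style.haveILetI false

namespace Cfsg.Agent.Lib.Helper65.CS3

open Subgroup

variable {G : Type*} [Group G]

local notation "Cz(" x ")" => Subgroup.centralizer ({x} : Set G)

section fin

variable [Finite G] {p n : ℕ} [Fact p.Prime]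

/-- case (b) with `m = p` prime is impossible -/
theorem HypB.false (H : HypB G p n) : False := by
  have hp : p.Prime := Fact.out
  have h := H.hyp
  obtain ⟨y₀, hy₀⟩ := h.hsmall
  -- (iii)
  have hcopmem : ∀ x : G, (orderOf x).Coprime p → x ∈ Cz(y₀) :=
    fun x hx => H.mem_small_of_coprime hy₀ hx
  -- (iv)
  have hT : ∀ x : G, (Cz(x)).index ≠ p * n → Cz(y₀) ≤ Cz(x) := by
    intro x hx
    rcases h.hcs x with e | e | e
    · have hc : x ∈ Subgroup.center G := (index_eq_one_iff_center x).1 e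
      intro g _
      rw [mem_Cz]
      exact Subgroup.mem_center_iff.1 hc g
    · exact (H.small_unique e hy₀).symm.le
    · exact absurd e hx
  -- F1b
  have hbigle : ∀ r : ℕ, r.Prime → r ≠ p → ∀ w : G, IsPElt r w → (Cz(w)).index = p * n →
      Cz(w) ≤ Cz(y₀) := by
    intro r hr hrp w hw hwbig c hc
    obtain ⟨cp, cp', hcc, hcp, hcp', hcpp, hcp'p⟩ := Cfsg.Agent.Lib.Helper73.dec' c p hp
    have hzle : Subgroup.zpowers c ≤ Cz(w) := (Subgroup.zpowers_le).2 hc
    rw [← hcc]
    refine mul_mem ?_ (hcopmem cp' hcp'p)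
    have hcop : (orderOf cp).Coprime r := by
      obtain ⟨k, hk⟩ := hcpp
      rw [hk]
      exact Nat.Coprime.pow_left k ((Nat.coprime_primes hp hr).2 (Ne.symm hrp))
    have hwy : w ∈ Cz(y₀) := by
      apply hcopmem
      obtain ⟨k, hk⟩ := hw
      rw [hk]
      exact Nat.Coprime.pow_left k ((Nat.coprime_primes hr hp).2 hrp)
    have hyw : y₀ ∈ Cz(w) := mem_Cz_comm.1 hwy
    have := h.big_central hw hwbig (hzle hcp) hcop hyw
    exact mem_Cz.2 this.symm
  -- F1c
  obtain ⟨r, hr, hrn⟩ := Nat.exists_prime_and_dvd (by have := h.hn; omega : n ≠ 1)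
  haveI : Fact r.Prime := ⟨hr⟩
  have hrp : r ≠ p := fun e => H.not_p_dvd_n (e ▸ hrn)
  obtain ⟨u₀, hu₀1, hu₀p, hu₀c⟩ := h.exists_noncentral_pelt hp (dvd_refl p) y₀
  have hu₀big := h.big_of_pelt H.caseB hp (dvd_refl p) hu₀p hu₀c
  obtain ⟨R⟩ : Nonempty (Sylow r G) := inferInstance
  have hexw : ∃ w ∈ (R : Subgroup G), w ∉ Cz(u₀) := by
    by_contra hcon
    push Not at hcon
    have hle : (R : Subgroup G) ≤ Cz(u₀) := hcon
    have hd : (Cz(u₀)).index ∣ (R : Subgroup G).index := Subgroup.index_dvd_of_le hle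
    rw [hu₀big] at hd
    exact R.not_dvd_index ((hrn.mul_left p).trans hd)
  obtain ⟨w, hwR, hwu₀⟩ := hexw
  have hw : IsPElt r w := isPElt_of_mem R.2 hwR
  have hwbig : (Cz(w)).index = p * n := by
    by_contra hcon
    exact hwu₀ (mem_Cz_comm.1 (hT w hcon hu₀1))
  have hwy : w ∈ Cz(y₀) := by
    apply hcopmem
    obtain ⟨k, hk⟩ := hw
    rw [hk]
    exact Nat.Coprime.pow_left k ((Nat.coprime_primes hr hp).2 hrp)
  -- F1d
  obtain ⟨P⟩ : Nonempty (Sylow p G) := inferInstance
  have hexu : ∃ u ∈ (P : Subgroup G), u ∉ Cz(y₀) := by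
    by_contra hcon
    push Not at hcon
    have hle : (P : Subgroup G) ≤ Cz(y₀) := hcon
    have hd : (Cz(y₀)).index ∣ (P : Subgroup G).index := Subgroup.index_dvd_of_le hle
    rw [hy₀] at hd
    exact P.not_dvd_index hd
  obtain ⟨u, huP, huy⟩ := hexu
  have hup : IsPElt p u := isPElt_of_mem P.2 huP
  have huc : u ∉ Subgroup.center G := fun hc => huy (center_le_Cz y₀ hc)
  have hubig := h.big_of_pelt H.caseB hp (dvd_refl p) hup huc
  -- F1e
  obtain ⟨K, hKr, hKle, hKe⟩ := exists_sylow_in_Cz r u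
  have hKT : ∀ x ∈ K, (Cz(x)).index ≠ p * n := by
    intro x hxK hxbig
    have hxr : IsPElt r x := isPElt_of_mem hKr hxK
    have hle := hbigle r hr hrp x hxr hxbig
    exact huy (hle (mem_Cz_comm.1 (hKle hxK)))
  have hKw : K ≤ Cz(w) := by
    intro x hxK
    exact mem_Cz_comm.1 (hT x (hKT x hxK) hwy)
  have hwK : w ∉ K := fun hwK => hKT w hwK hwbig
  have hzn : Subgroup.zpowers w ≤ Subgroup.normalizer (K : Set G) := by
    rw [Subgroup.zpowers_le]
    apply Subgroup.centralizer_le_normalizer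
    rw [Subgroup.mem_centralizer_iff]
    intro x hx
    exact mem_Cz.1 (hKw hx)
  have hK'p : IsPGroup r (K ⊔ Subgroup.zpowers w : Subgroup G) :=
    hKr.to_sup_of_normal_left' (isPGroup_zpowers hw) hzn
  have hlt : K < K ⊔ Subgroup.zpowers w := by
    refine lt_of_le_of_ne le_sup_left ?_
    intro e
    apply hwK
    rw [e]
    exact (le_sup_right : Subgroup.zpowers w ≤ _) (Subgroup.mem_zpowers w)
  have hle' : K ⊔ Subgroup.zpowers w ≤ Cz(w) :=
    sup_le hKw ((Subgroup.zpowers_le).2 (self_mem_Cz w))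
  have e1 := pgroup_exponent_le r hle'
  have e2 := factorization_lt_of_lt r hK'p hlt
  rw [hubig] at hKe
  rw [hwbig] at e1
  omega

end fin

end Cfsg.Agent.Lib.Helper65.CS3
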