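import Mathlib
import Cfsg.Agent.Lib.Helper74.CR2Defs
import Cfsg.Agent.Lib.Helper65.CS3B4

/-!
# Keystone K-S4284-C: `case_b_final` (class sizes `{1, m, mn}`, case (b), `m = p` prime)
-/

set_option autoImplicit false
set_option linter.unusedSectionVars false
set_option linter.unusedVariables false
set_option linter.style.haveILetI false

namespace Cfsg.Agent.Lib.Helper65.CR2

open Subgroup Cfsg.Agent.Lib.Helper74.CR2

/-- the Sylow `p`-subgroup has central commutators, from `|P : P ∩ Z(G)| = p²` -/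
theorem comm_mem_center_of_sq {G : Type*} [Group G] [Finite G] (p : ℕ) [Fact p.Prime]
    (P : Sylow p G)
    (hsq : Nat.card (P : Subgroup G) = p ^ 2 * Nat.card ((P : Subgroup G) ⊓ center G : Subgroup G))
    (a b : G) (ha : a ∈ (P : Subgroup G)) (hb : b ∈ (P : Subgroup G)) :
    a * b * a⁻¹ * b⁻¹ ∈ center G := by
  set Z' : Subgroup (P : Subgroup G) := (center G).subgroupOf (P : Subgroup G) with hZ'
  haveI : Z'.Normal := Subgroup.Normal.subgroupOf inferInstance _
  have hcardZ : Nat.card Z' = Nat.card ((P : Subgroup G) ⊓ center G : Subgroup G) := by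
    have h1 : Z'.map (P : Subgroup G).subtype = center G ⊓ (P : Subgroup G) :=
      Subgroup.subgroupOf_map_subtype _ _
    rw [inf_comm, ← h1]
    exact (Subgroup.card_map_of_injective (Subgroup.subtype_injective _)).symm
  have hq : Nat.card ((P : Subgroup G) ⧸ Z') = p ^ 2 := by
    have h2 := Subgroup.card_eq_card_quotient_mul_card_subgroup Z'
    rw [hsq, hcardZ] at h2
    have hpos : 0 < Nat.card ((P : Subgroup G) ⊓ center G : Subgroup G) := Nat.card_pos
    exact (Nat.eq_of_mul_eq_mul_right hpos h2).symm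
  have hcomm := IsPGroup.commutative_of_card_eq_prime_sq hq
  have h3 : ((⟨a, ha⟩ * ⟨b, hb⟩ * (⟨a, ha⟩ : (P : Subgroup G))⁻¹ * (⟨b, hb⟩ : (P : Subgroup G))⁻¹ :
      (P : Subgroup G)) : (P : Subgroup G) ⧸ Z') = 1 := by
    rw [QuotientGroup.mk_mul, QuotientGroup.mk_mul, QuotientGroup.mk_mul, QuotientGroup.mk_inv,
      QuotientGroup.mk_inv]
    rw [hcomm (↑(⟨a, ha⟩ : (P : Subgroup G))) (↑(⟨b, hb⟩ : (P : Subgroup G)))]
    group
  rw [QuotientGroup.eq_one_iff, hZ', Subgroup.mem_subgroupOf] at h3
  exact h3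

theorem case_b_final {G : Type*} [Group G] [Finite G] {m n : ℕ} (H : Hyp G m n)
    (p : ℕ) [Fact p.Prime] (hmp : m = p)
    (hbig : ∀ u : G, (∃ k : ℕ, orderOf u = p ^ k) → u ∉ center G →
      (centralizer ({u} : Set G)).index = m * n)
    (hsq : ∀ P : Sylow p G,
      Nat.card (P : Subgroup G) = p ^ 2 * Nat.card ((P : Subgroup G) ⊓ center G : Subgroup G))
    (hab : ∀ g : G, (centralizer ({g} : Set G)).index = m * n →
      ∀ a ∈ centralizer ({g} : Set G), ∀ b ∈ centralizer ({g} : Set G), a * b = b * a) :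
    False := by
  subst hmp
  have hp : m.Prime := Fact.out
  have hrange := H.h
  have h : Cfsg.Agent.Lib.Helper65.CS3.Hyp G m n := by
    refine ⟨H.hm, H.hn, H.hcop, ?_, ?_, ?_⟩
    · intro x
      have : (centralizer ({x} : Set G)).index ∈ ({1, m, m * n} : Set ℕ) := by
        rw [← hrange]; exact ⟨x, rfl⟩
      simpa using this
    · have : m ∈ Set.range (fun x : G => (centralizer ({x} : Set G)).index) := by
        rw [hrange]; simp
      obtain ⟨x, hx⟩ := this
      exact ⟨x, hx⟩
    · have : m * n ∈ Set.range (fun x : G => (centralizer ({x} : Set G)).index) := by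
        rw [hrange]; simp
      obtain ⟨x, hx⟩ := this
      exact ⟨x, hx⟩
  have hB : Cfsg.Agent.Lib.Helper65.CS3.CaseB G m := by
    intro q hq hqm u hu hidx
    have hqe : q = m := (Nat.prime_dvd_prime_iff_eq hq hp).1 hqm
    subst hqe
    have huc : u ∉ center G := h.not_center_of_small hidx
    have := hbig u hu huc
    rw [hidx] at this
    exact h.mn_ne_m this.symm
  exact Cfsg.Agent.Lib.Helper65.CS3.HypB.false (G := G) (p := m) (n := n)
    ⟨h, hB, fun P a ha b hb => comm_mem_center_of_sq m P (hsq P) a b ha hb⟩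

end Cfsg.Agent.Lib.Helper65.CR2
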