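import Mathlib

/-!
# The norm trick (towards S4284)

A noncyclic elementary abelian `p`-group of operators on an abelian group `A`: every `a ^ p` is a
product of elements fixed by nontrivial operators.
-/

set_option autoImplicit false

namespace Cfsg.Agent.Lib.Helper65.CS3

open Finset

section abstract

variable {A : Type*} [CommGroup A]

/-- the norm of `a` under the operator `g` of order dividing `p` -/
noncomputable def nrm (p : ℕ) (g : Monoid.End A) (a : A) : A := ∏ i ∈ range p, (g ^ i) a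

lemma nrm_fixed {p : ℕ} {g : Monoid.End A} (hg : g ^ p = 1) (a : A) : g (nrm p g a) = nrm p g a := by
  unfold nrm
  rw [map_prod]
  have h1 : ∀ i, g ((g ^ i) a) = (g ^ (i + 1)) a := by
    intro i
    rw [pow_succ']
    rfl
  simp_rw [h1]
  have h2 := Finset.prod_range_succ' (fun i => (g ^ i) a) p
  have h3 := Finset.prod_range_succ (fun i => (g ^ i) a) p
  rw [h3] at h2
  simp only [hg, pow_zero] at h2
  exact (mul_right_cancel h2).symm

lemma prod_pow_mul_eq {p : ℕ} [Fact p.Prime] {τ : Monoid.End A} (hτ : τ ^ p = 1) (a : A) {i : ℕ}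
    (hi : ¬ p ∣ i) : ∏ j ∈ range p, (τ ^ (i * j)) a = ∏ k ∈ range p, (τ ^ k) a := by
  have hp : p.Prime := Fact.out
  haveI : NeZero p := ⟨hp.ne_zero⟩
  rw [Finset.prod_range, Finset.prod_range]
  have hcop : Nat.Coprime p i := (Nat.Prime.coprime_iff_not_dvd hp).2 hi
  let f : Fin p → Fin p := fun j => ⟨(i * j.val) % p, Nat.mod_lt _ hp.pos⟩
  have hinj : Function.Injective f := by
    intro j j' hjj'
    have h1 : (i * j.val) % p = (i * j'.val) % p := congrArg Fin.val hjj'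
    have h2 : j.val ≡ j'.val [MOD p] :=
      Nat.ModEq.cancel_left_of_coprime (by rw [Nat.gcd_comm]; exact hcop.symm ▸ rfl) h1
    have h3 : j.val % p = j'.val % p := h2
    rw [Nat.mod_eq_of_lt j.2, Nat.mod_eq_of_lt j'.2] at h3
    exact Fin.ext h3
  have hbij : Function.Bijective f := Finite.injective_iff_bijective.1 hinj
  rw [← Fintype.prod_bijective f hbij (fun j => (τ ^ (i * j.val)) a) (fun k => (τ ^ k.val) a)]
  intro j
  show (τ ^ (i * j.val)) a = (τ ^ ((i * j.val) % p)) a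
  rw [pow_eq_pow_mod (i * j.val) hτ]

theorem norm_trick {p : ℕ} [Fact p.Prime] (σ τ : Monoid.End A) (hc : Commute σ τ)
    (hσ : σ ^ p = 1) (hτ : τ ^ p = 1) (B : Subgroup A)
    (hfix : ∀ i j : ℕ, ¬ (p ∣ i ∧ p ∣ j) → ∀ a : A, (σ ^ i * τ ^ j) a = a → a ∈ B) (a : A) :
    a ^ p ∈ B := by
  have hp : p.Prime := Fact.out
  have hp1 : ¬ p ∣ 1 := fun h => hp.one_lt.ne' (Nat.dvd_one.1 h)
  -- the operators `g_j = σ τ^j`
  have hgj : ∀ j : ℕ, (σ * τ ^ j) ^ p = 1 := by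
    intro j
    rw [(hc.pow_right j).mul_pow, hσ, ← pow_mul, mul_comm, pow_mul, hτ, one_pow, one_mul]
  have h1 : ∀ j : ℕ, nrm p (σ * τ ^ j) a ∈ B := by
    intro j
    apply hfix 1 j (fun h => hp1 h.1)
    rw [pow_one]
    exact nrm_fixed (hgj j) a
  have h2 : nrm p τ a ∈ B := by
    apply hfix 0 1 (fun h => hp1 h.2)
    rw [pow_zero, pow_one, one_mul]
    exact nrm_fixed hτ a
  have h3 : nrm p σ (nrm p τ a) ∈ B := by
    apply hfix 1 0 (fun h => hp1 h.1)
    rw [pow_zero, pow_one, mul_one]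
    exact nrm_fixed hσ _
  -- the identity
  have hid : (∏ j ∈ range p, nrm p (σ * τ ^ j) a) * nrm p τ a = a ^ p * nrm p σ (nrm p τ a) := by
    have e1 : ∀ j i : ℕ, ((σ * τ ^ j) ^ i) a = (σ ^ i) ((τ ^ (i * j)) a) := by
      intro j i
      rw [(hc.pow_right j).mul_pow, ← pow_mul, mul_comm j i]
      rfl
    have e2 : ∏ j ∈ range p, nrm p (σ * τ ^ j) a =
        ∏ i ∈ range p, (σ ^ i) (∏ j ∈ range p, (τ ^ (i * j)) a) := by
      unfold nrm
      simp_rw [e1]
      rw [Finset.prod_comm]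
      apply Finset.prod_congr rfl
      intro i _
      rw [map_prod]
    rw [e2]
    -- split off `i = 0`
    obtain ⟨q, hq⟩ : ∃ q, p = q + 1 := Nat.exists_eq_succ_of_ne_zero hp.ne_zero
    have e3 : ∏ i ∈ range p, (σ ^ i) (∏ j ∈ range p, (τ ^ (i * j)) a) =
        (∏ i ∈ range q, (σ ^ (i + 1)) (nrm p τ a)) * a ^ p := by
      conv_lhs => rw [hq, Finset.prod_range_succ']
      congr 1
      · apply Finset.prod_congr rfl
        intro i hi
        rw [← hq]
        congr 1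
        apply prod_pow_mul_eq hτ a
        intro hd
        have hi' := Finset.mem_range.1 hi
        have := Nat.le_of_dvd (Nat.succ_pos i) hd
        omega
      · rw [← hq]
        simp
    rw [e3]
    have e4 : nrm p σ (nrm p τ a) = (∏ i ∈ range q, (σ ^ (i + 1)) (nrm p τ a)) * nrm p τ a := by
      conv_lhs => unfold nrm
      conv_lhs => rw [hq, Finset.prod_range_succ']
      rw [← hq]
      simp [nrm]
    rw [e4]
    ac_rfl
  have h4 : a ^ p = (∏ j ∈ range p, nrm p (σ * τ ^ j) a) * nrm p τ a * (nrm p σ (nrm p τ a))⁻¹ := by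
    rw [hid]; group
  rw [h4]
  exact B.mul_mem (B.mul_mem (Subgroup.prod_mem B (fun j _ => h1 j)) h2) (B.inv_mem h3)

end abstract

section concrete

variable {G : Type*} [Group G]

/-- conjugation by `s` as an endomorphism of an invariant subgroup -/
def conjEnd (A : Subgroup G) (s : G) (hs : ∀ a ∈ A, s * a * s⁻¹ ∈ A) : Monoid.End A where
  toFun a := ⟨s * a * s⁻¹, hs a a.2⟩
  map_one' := by
    apply Subtype.ext
    simp
  map_mul' a b := by
    apply Subtype.ext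
    simp only [Subgroup.coe_mul]
    group

lemma conjEnd_pow_apply (A : Subgroup G) (s : G) (hs : ∀ a ∈ A, s * a * s⁻¹ ∈ A) (i : ℕ) (a : A) :
    (((conjEnd A s hs) ^ i) a : G) = s ^ i * a * (s ^ i)⁻¹ := by
  induction i generalizing a with
  | zero => simp
  | succ i ih =>
    rw [pow_succ]
    show (((conjEnd A s hs) ^ i) ((conjEnd A s hs) a) : G) = _
    rw [ih]
    show s ^ i * (s * a * s⁻¹) * (s ^ i)⁻¹ = _
    rw [pow_succ]
    group

lemma conjEnd_pow_eq_one (A : Subgroup G) (s : G) (hs : ∀ a ∈ A, s * a * s⁻¹ ∈ A) {p : ℕ}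
    (hsp : ∀ a ∈ A, s ^ p * a = a * s ^ p) : (conjEnd A s hs) ^ p = 1 := by
  apply DFunLike.ext
  intro a
  apply Subtype.ext
  rw [conjEnd_pow_apply]
  show s ^ p * (a : G) * (s ^ p)⁻¹ = (a : G)
  rw [hsp a a.2]; group

lemma conjEnd_commute (A : Subgroup G) (s t : G) (hs : ∀ a ∈ A, s * a * s⁻¹ ∈ A)
    (ht : ∀ a ∈ A, t * a * t⁻¹ ∈ A)
    (hst : ∀ a ∈ A, s * (t * a * t⁻¹) * s⁻¹ = t * (s * a * s⁻¹) * t⁻¹) :
    Commute (conjEnd A s hs) (conjEnd A t ht) := by
  apply DFunLike.ext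
  intro a
  apply Subtype.ext
  show s * (t * (a : G) * t⁻¹) * s⁻¹ = t * (s * (a : G) * s⁻¹) * t⁻¹
  exact hst a a.2

lemma conjEnd_pow_mul_pow_apply (A : Subgroup G) (s t : G) (hs : ∀ a ∈ A, s * a * s⁻¹ ∈ A)
    (ht : ∀ a ∈ A, t * a * t⁻¹ ∈ A) (i j : ℕ) (a : A) :
    ((((conjEnd A s hs) ^ i * (conjEnd A t ht) ^ j) a : A) : G) =
      s ^ i * (t ^ j * (a : G) * (t ^ j)⁻¹) * (s ^ i)⁻¹ := by
  show ((((conjEnd A s hs) ^ i) (((conjEnd A t ht) ^ j) a) : A) : G) = _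
  rw [conjEnd_pow_apply, conjEnd_pow_apply]

open scoped IsMulCommutative in
theorem fpf_noncyclic {p : ℕ} [Fact p.Prime] (A B : Subgroup G)
    (hAcomm : ∀ a ∈ A, ∀ b ∈ A, a * b = b * a)
    (hAp : ∀ a ∈ A, (orderOf a).Coprime p)
    (s t : G)
    (hs : ∀ a ∈ A, s * a * s⁻¹ ∈ A) (ht : ∀ a ∈ A, t * a * t⁻¹ ∈ A)
    (hst : ∀ a ∈ A, s * (t * a * t⁻¹) * s⁻¹ = t * (s * a * s⁻¹) * t⁻¹)
    (hsp : ∀ a ∈ A, s ^ p * a = a * s ^ p) (htp : ∀ a ∈ A, t ^ p * a = a * t ^ p)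
    (hfix : ∀ i j : ℕ, ¬ (p ∣ i ∧ p ∣ j) → ∀ a ∈ A,
      (s ^ i * t ^ j) * a = a * (s ^ i * t ^ j) → a ∈ B) :
    A ≤ B := by
  haveI : IsMulCommutative A :=
    IsMulCommutative.of_comm (fun a b => Subtype.ext (hAcomm a a.2 b b.2))
  have key := norm_trick (A := A) (conjEnd A s hs) (conjEnd A t ht)
    (conjEnd_commute A s t hs ht hst) (conjEnd_pow_eq_one A s hs hsp)
    (conjEnd_pow_eq_one A t ht htp) (B.subgroupOf A) (by
    intro i j hij a ha
    rw [Subgroup.mem_subgroupOf]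
    apply hfix i j hij a a.2
    have h1 := conjEnd_pow_mul_pow_apply A s t hs ht i j a
    rw [ha] at h1
    calc s ^ i * t ^ j * (a : G)
        = s ^ i * (t ^ j * (a : G) * (t ^ j)⁻¹) * (s ^ i)⁻¹ * (s ^ i * t ^ j) := by group
      _ = (a : G) * (s ^ i * t ^ j) := by rw [← h1])
  intro a ha
  have h1 : (⟨a, ha⟩ : A) ^ p ∈ B.subgroupOf A := key ⟨a, ha⟩
  rw [Subgroup.mem_subgroupOf] at h1
  have h2 : a ^ p ∈ B := h1
  obtain ⟨k, hk⟩ := exists_pow_eq_self_of_coprime (x := a) (hAp a ha).symm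
  rw [← hk]
  exact B.pow_mem h2 k

end concrete

end Cfsg.Agent.Lib.Helper65.CS3
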