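import Mathlib

set_option autoImplicit false

universe u

namespace Cfsg.Agent.Lib.Helper65

theorem card_section_lt {Z : Type*} [Group Z] [Finite Z] (H : Subgroup Z) (N : Subgroup H)
    [N.Normal] (h : H ≠ ⊤ ∨ N ≠ ⊥) : Nat.card (H ⧸ N) < Nat.card Z := by
  rw [← Subgroup.index_eq_card]
  have h1 : N.index * Nat.card N = Nat.card H := Subgroup.index_mul_card N
  have h2 : Nat.card H ≤ Nat.card Z := Subgroup.card_le_card_group H
  have h3 : 0 < Nat.card N := Nat.card_pos
  have h4 : 0 < N.index := Nat.pos_of_ne_zero Subgroup.index_ne_zero_of_finite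
  rcases h with h | h
  · have h5 : Nat.card H ≠ Nat.card Z := fun h5 => h ((Subgroup.card_eq_iff_eq_top H).1 h5)
    have h6 : N.index ≤ Nat.card H := by
      rw [← h1]
      exact Nat.le_mul_of_pos_right _ h3
    omega
  · have h5 : 1 < Nat.card N := (Subgroup.one_lt_card_iff_ne_bot N).2 h
    have h6 : N.index < Nat.card H := by
      rw [← h1]
      exact lt_mul_of_one_lt_right h4 h5
    omega

theorem exists_critical_aux (Ω : Set ℕ) (P : ∀ (Z : Type u) [Group Z], Prop)
    (hsub : ∀ (Z : Type u) [Group Z] [Finite Z] (H : Subgroup Z) (N : Subgroup H) [N.Normal],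
      P Z → P (H ⧸ N)) :
    ∀ n : ℕ, ∀ (X : Type u) [Group X] [Finite X], Nat.card X = n → P X →
      Set.range (orderOf : X → ℕ) = Ω →
      ∃ (Z : Type u) (_ : Group Z) (_ : Finite Z), P Z ∧ Set.range (orderOf : Z → ℕ) = Ω ∧
        ∀ (H : Subgroup Z) (N : Subgroup H) [N.Normal], (H ≠ ⊤ ∨ N ≠ ⊥) →
          Set.range (orderOf : (H ⧸ N) → ℕ) ≠ Ω := by
  intro n
  induction n using Nat.strong_induction_on with
  | _ n ih =>
    intro X _ _ hn hX hspec
    by_cases hcrit : ∀ (H : Subgroup X) (N : Subgroup H) [N.Normal], (H ≠ ⊤ ∨ N ≠ ⊥) →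
        Set.range (orderOf : (H ⧸ N) → ℕ) ≠ Ω
    · exact ⟨X, inferInstance, inferInstance, hX, hspec, hcrit⟩
    · simp only [not_forall, not_not] at hcrit
      obtain ⟨H, N, hN, hne, hsp⟩ := hcrit
      exact ih (Nat.card (H ⧸ N)) (hn ▸ card_section_lt H N hne) (H ⧸ N) rfl
        (hsub X H N hX) hsp

/-- Among the sections of a finite group `X` with set of element orders `Ω` there is one that is
critical with respect to `Ω`; it inherits every property `P` that passes to sections. -/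
theorem exists_critical (Ω : Set ℕ) (P : ∀ (Z : Type u) [Group Z], Prop)
    (hsub : ∀ (Z : Type u) [Group Z] [Finite Z] (H : Subgroup Z) (N : Subgroup H) [N.Normal],
      P Z → P (H ⧸ N))
    (X : Type u) [Group X] [Finite X] (hX : P X) (hspec : Set.range (orderOf : X → ℕ) = Ω) :
    ∃ (Z : Type u) (_ : Group Z) (_ : Finite Z), P Z ∧ Set.range (orderOf : Z → ℕ) = Ω ∧
      ∀ (H : Subgroup Z) (N : Subgroup H) [N.Normal], (H ≠ ⊤ ∨ N ≠ ⊥) →
        Set.range (orderOf : (H ⧸ N) → ℕ) ≠ Ω :=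
  exists_critical_aux Ω P hsub (Nat.card X) X rfl hX hspec

theorem orderOf_pi_eq_prod {ι : Type*} [Fintype ι] {F : ι → Type*} [∀ i, Monoid (F i)]
    (x : ∀ i, F i)
    (hcop : Pairwise (fun i j => Nat.Coprime (orderOf (x i)) (orderOf (x j)))) :
    orderOf x = ∏ i, orderOf (x i) := by
  apply Nat.dvd_antisymm
  · apply orderOf_dvd_of_pow_eq_one
    funext i
    rw [Pi.pow_apply, Pi.one_apply]
    exact orderOf_dvd_iff_pow_eq_one.1 (Finset.dvd_prod_of_mem _ (Finset.mem_univ i))
  · apply Finset.prod_dvd_of_isRelPrime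
    · intro i _ j _ hij
      exact Nat.coprime_iff_isRelPrime.1 (hcop hij)
    · intro i _
      apply orderOf_dvd_of_pow_eq_one
      rw [← Pi.pow_apply, pow_orderOf_eq_one, Pi.one_apply]

end Cfsg.Agent.Lib.Helper65
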