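import Mathlib

set_option autoImplicit false

namespace Cfsg.Agent.Lib.Helper65

universe u

open Finset

/-- If two commuting nontrivial elements have orders a power of `p` and a power of `q`
for distinct primes `p`, `q`, then the group has an element of order `p * q`. -/
theorem exists_orderOf_eq_mul {G : Type u} [Group G] {p q : ℕ} (hp : p.Prime) (hq : q.Prime)
    (hpq : p ≠ q) (a b : G) (hab : a * b = b * a) (ha : a ≠ 1) (hb : b ≠ 1)
    (hap : ∃ i : ℕ, a ^ (p ^ i) = 1) (hbq : ∃ j : ℕ, b ^ (q ^ j) = 1) :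
    ∃ z : G, orderOf z = p * q := by
  obtain ⟨i, hi⟩ := hap
  obtain ⟨j, hj⟩ := hbq
  have hoa : orderOf a ∣ p ^ i := orderOf_dvd_of_pow_eq_one hi
  have hob : orderOf b ∣ q ^ j := orderOf_dvd_of_pow_eq_one hj
  obtain ⟨i', -, hi'⟩ := (Nat.dvd_prime_pow hp).mp hoa
  obtain ⟨j', -, hj'⟩ := (Nat.dvd_prime_pow hq).mp hob
  have hi0 : i' ≠ 0 := by
    intro h0
    rw [h0, pow_zero, orderOf_eq_one_iff] at hi'
    exact ha hi'
  have hj0 : j' ≠ 0 := by
    intro h0
    rw [h0, pow_zero, orderOf_eq_one_iff] at hj'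
    exact hb hj'
  have hpa : p ∣ orderOf a := by rw [hi']; exact dvd_pow_self p hi0
  have hqb : q ∣ orderOf b := by rw [hj']; exact dvd_pow_self q hj0
  have hoa0 : orderOf a ≠ 0 := by rw [hi']; exact pow_ne_zero _ hp.ne_zero
  have hob0 : orderOf b ≠ 0 := by rw [hj']; exact pow_ne_zero _ hq.ne_zero
  have h1 : orderOf (a ^ (orderOf a / p)) = p := orderOf_pow_orderOf_div hoa0 hpa
  have h2 : orderOf (b ^ (orderOf b / q)) = q := orderOf_pow_orderOf_div hob0 hqb
  have hc : Commute (a ^ (orderOf a / p)) (b ^ (orderOf b / q)) :=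
    (show Commute a b from hab).pow_pow _ _
  refine ⟨a ^ (orderOf a / p) * b ^ (orderOf b / q), ?_⟩
  rw [hc.orderOf_mul_eq_mul_orderOf_of_coprime, h1, h2]
  rw [h1, h2]
  exact (Nat.coprime_primes hp hq).mpr hpq

/-- A Frobenius-type group `S ⋊ ⟨x⟩` (with `x` of prime order acting without fixed points on `S`)
cannot act on a nontrivial abelian group `V` of order coprime to `|S|` in such a way that both
the nontrivial elements of `S` and all elements of order `r` act without fixed points. -/
theorem frobenius_action {G : Type u} [Group G] (V : Subgroup G) [V.Normal]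
    (hVc : ∀ a ∈ V, ∀ b ∈ V, a * b = b * a) [Finite V]
    (S : Subgroup G) [Finite S] (x : G) (r : ℕ) (hr : r.Prime)
    (hxS : x ∈ Subgroup.normalizer (S : Set G)) (hx : orderOf x = r)
    (h3 : ∀ u ∈ S, u * x = x * u → u = 1)
    (h4 : ∀ u ∈ S, u ≠ 1 → ∀ v ∈ V, u * v = v * u → v = 1)
    (h5 : ∀ y : G, orderOf y = r → ∀ v ∈ V, y * v = v * y → v = 1)
    (h6 : S ≠ ⊥)
    (h7 : Nat.Coprime (Nat.card S) (Nat.card V)) : V = ⊥ := by
  classical
  have : Fintype S := Fintype.ofFinite S
  let _ : CommGroup ↥V :=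
    { (inferInstance : Group ↥V) with mul_comm := fun a b => Subtype.ext (hVc a a.2 b b.2) }
  let c : G →* MulAut ↥V := MulAut.conjNormal
  have hc_apply : ∀ (g : G) (v : ↥V), ((c g v : ↥V) : G) = g * v * g⁻¹ := fun g v => rfl
  -- (b) the norm over S is trivial
  have hNS : ∀ w : ↥V, ∏ g : ↥S, c (g : G) w = 1 := by
    intro w
    obtain ⟨u, hu⟩ := (Subgroup.ne_bot_iff_exists_ne_one).mp h6
    set P : ↥V := ∏ g : ↥S, c (g : G) w with hP
    have hfix : c (u : G) P = P := by
      rw [hP, map_prod]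
      have : ∀ g : ↥S, c (u : G) (c (g : G) w) = c ((u * g : ↥S) : G) w := by
        intro g
        rw [Subgroup.coe_mul, map_mul]
        rfl
      simp_rw [this]
      exact (Group.mulLeft_bijective u).prod_comp (fun g : ↥S => c (g : G) w)
    have h := congrArg (fun t : ↥V => (t : G)) hfix
    simp only [hc_apply] at h
    have hcomm : (u : G) * (P : G) = (P : G) * (u : G) := by
      calc (u : G) * (P : G) = ((u : G) * P * (u : G)⁻¹) * u := by group
        _ = (P : G) * u := by rw [h]
    have hu1 : (u : G) ≠ 1 := fun h1 => hu (Subtype.ext h1)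
    have := h4 u u.2 hu1 P P.2 hcomm
    exact Subtype.ext this
  -- (c) the norm over a cyclic group of order r is trivial
  have hNX : ∀ (z : G), orderOf z = r → ∀ v : ↥V, ∏ i ∈ range r, c (z ^ i) v = 1 := by
    intro z hz v
    set P : ↥V := ∏ i ∈ range r, c (z ^ i) v with hP
    have hfix : c z P = P := by
      rw [hP, map_prod]
      have : ∀ i ∈ range r, c z (c (z ^ i) v) = c (z ^ (i + 1)) v := by
        intro i _
        rw [pow_succ', map_mul]
        rfl
      rw [prod_congr rfl this]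
      have e1 := prod_range_succ' (fun i => c (z ^ i) v) r
      have e2 := prod_range_succ (fun i => c (z ^ i) v) r
      have e3 : c (z ^ r) v = c (z ^ 0) v := by
        rw [← hz, pow_orderOf_eq_one, pow_zero]
      rw [e1, e3] at e2
      exact mul_right_cancel e2
    have h := congrArg (fun t : ↥V => (t : G)) hfix
    simp only [hc_apply] at h
    have hcomm : z * (P : G) = (P : G) * z := by
      calc z * (P : G) = (z * P * z⁻¹) * z := by group
        _ = (P : G) * z := by rw [h]
    exact Subtype.ext (h5 z hz P P.2 hcomm)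
  -- main double counting
  rw [Subgroup.eq_bot_iff_forall]
  intro v0 hv0
  set v : ↥V := ⟨v0, hv0⟩ with hv
  have hW1 : ∏ g : ↥S, ∏ i ∈ range r, c ((g : G) * x ^ i * (g : G)⁻¹) v = 1 := by
    apply prod_eq_one
    intro g _
    have hz : orderOf ((g : G) * x * (g : G)⁻¹) = r := by
      rw [← hx]
      exact (MulAut.conj (g : G)).orderOf_eq x
    have := hNX _ hz v
    simp_rw [conj_pow] at this
    exact this
  rw [prod_comm] at hW1
  obtain ⟨r', hr'⟩ : ∃ r', r = r' + 1 := ⟨r - 1, by have := hr.one_lt; omega⟩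
  rw [hr', prod_range_succ'] at hW1
  have hT : ∀ i ∈ range r', ∏ g : ↥S, c ((g : G) * x ^ (i + 1) * (g : G)⁻¹) v = 1 := by
    intro i hi
    rw [mem_range] at hi
    set y := x ^ (i + 1) with hy
    have hyN : y ∈ Subgroup.normalizer (S : Set G) := Subgroup.pow_mem _ hxS _
    have hcop : Nat.Coprime (i + 1) (orderOf x) := by
      rw [hx]
      apply Nat.Coprime.symm
      rw [Nat.Prime.coprime_iff_not_dvd hr]
      exact Nat.not_dvd_of_pos_of_lt (by omega) (by omega)
    obtain ⟨m, hm⟩ := exists_pow_eq_self_of_coprime hcop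
    let φ : ↥S → ↥S := fun g =>
      ⟨(g : G) * y * (g : G)⁻¹ * y⁻¹, by
        have h1 : y * (g : G)⁻¹ * y⁻¹ ∈ S :=
          (Subgroup.mem_normalizer_iff.mp hyN _).mp (S.inv_mem g.2)
        have : (g : G) * y * (g : G)⁻¹ * y⁻¹ = (g : G) * (y * (g : G)⁻¹ * y⁻¹) := by group
        rw [this]
        exact S.mul_mem g.2 h1⟩
    have hφinj : Function.Injective φ := by
      intro g h hgh
      have h1 : (g : G) * y * (g : G)⁻¹ * y⁻¹ = (h : G) * y * (h : G)⁻¹ * y⁻¹ :=
        congrArg Subtype.val hgh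
      have h2 : ((h : G)⁻¹ * g) * y = y * ((h : G)⁻¹ * g) := by
        have h1' : (g : G) * y * (g : G)⁻¹ = (h : G) * y * (h : G)⁻¹ := mul_right_cancel h1
        calc ((h : G)⁻¹ * g) * y = (h : G)⁻¹ * ((g : G) * y * (g : G)⁻¹) * g := by group
          _ = (h : G)⁻¹ * ((h : G) * y * (h : G)⁻¹) * g := by rw [h1']
          _ = y * ((h : G)⁻¹ * g) := by group
      have h3' : ((h : G)⁻¹ * g) * x = x * ((h : G)⁻¹ * g) := by
        have : Commute ((h : G)⁻¹ * g) (y ^ m) := (show Commute _ y from h2).pow_right m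
        rw [hm] at this
        exact this
      have := h3 _ (S.mul_mem (S.inv_mem h.2) g.2) h3'
      exact Subtype.ext (inv_mul_eq_one.mp this).symm
    have hφbij : Function.Bijective φ := Finite.injective_iff_bijective.mp hφinj
    have hrew : ∀ g : ↥S, c ((g : G) * y * (g : G)⁻¹) v = c ((φ g : ↥S) : G) (c y v) := by
      intro g
      have : (g : G) * y * (g : G)⁻¹ = ((φ g : ↥S) : G) * y := by
        show _ = (g : G) * y * (g : G)⁻¹ * y⁻¹ * y
        group
      rw [this, map_mul]
      rfl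
    simp_rw [hrew]
    rw [hφbij.prod_comp (fun g : ↥S => c (g : G) (c y v))]
    exact hNS (c y v)
  rw [prod_eq_one hT, one_mul] at hW1
  simp only [pow_zero, mul_one, mul_inv_cancel, map_one, MulAut.one_apply, prod_const,
    card_univ] at hW1
  have hvS : v ^ Nat.card ↥S = 1 := by
    rw [Nat.card_eq_fintype_card]
    exact hW1
  have hvV : v ^ Nat.card ↥V = 1 := pow_card_eq_one'
  have := pow_gcd_eq_one.mpr ⟨hvS, hvV⟩
  rw [h7, pow_one] at this
  exact congrArg Subtype.val this

end Cfsg.Agent.Lib.Helper65
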