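import Mathlib

set_option autoImplicit false

namespace Cfsg.Agent.Lib.Helper65

/-- `x` is a `p`-element. -/
def IsPElem {G : Type*} [Monoid G] (p : ℕ) (x : G) : Prop := ∃ k : ℕ, x ^ (p ^ k) = 1

/-- The `p`-elements of `G` are closed under products (for finite `G`: normal Sylow `p`). -/
def PClosed (p : ℕ) (G : Type*) [Group G] : Prop :=
  ∀ x y : G, IsPElem p x → IsPElem p y → IsPElem p (x * y)

theorem IsPElem.map {G H : Type*} [Monoid G] [Monoid H] {p : ℕ} {x : G} (f : G →* H)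
    (h : IsPElem p x) : IsPElem p (f x) := by
  obtain ⟨k, hk⟩ := h
  exact ⟨k, by rw [← map_pow, hk, map_one]⟩

theorem IsPElem.of_injective {G H : Type*} [Monoid G] [Monoid H] {p : ℕ} {x : G} (f : G →* H)
    (hf : Function.Injective f) (h : IsPElem p (f x)) : IsPElem p x := by
  obtain ⟨k, hk⟩ := h
  refine ⟨k, hf ?_⟩
  rw [map_pow, hk, map_one]

theorem IsPElem.inv {G : Type*} [Group G] {p : ℕ} {x : G} (h : IsPElem p x) :
    IsPElem p x⁻¹ := by
  obtain ⟨k, hk⟩ := h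
  exact ⟨k, by rw [inv_pow, hk, inv_one]⟩

theorem IsPElem.conj {G : Type*} [Group G] {p : ℕ} {x : G} (h : IsPElem p x) (g : G) :
    IsPElem p (g * x * g⁻¹) := by
  obtain ⟨k, hk⟩ := h
  exact ⟨k, by rw [conj_pow, hk, mul_one, mul_inv_cancel]⟩

theorem IsPElem.orderOf_dvd {G : Type*} [Monoid G] {p : ℕ} {x : G} (h : IsPElem p x) :
    ∃ k, orderOf x ∣ p ^ k := by
  obtain ⟨k, hk⟩ := h
  exact ⟨k, orderOf_dvd_of_pow_eq_one hk⟩

theorem isPElem_of_orderOf_eq {G : Type*} [Monoid G] {p : ℕ} {x : G} (h : orderOf x = p) :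
    IsPElem p x :=
  ⟨1, by rw [pow_one, ← h, pow_orderOf_eq_one]⟩

theorem IsPElem.eq_one_of_coprime {G : Type*} [Monoid G] {p q : ℕ} {x : G}
    (hpq : Nat.Coprime p q) (h1 : IsPElem p x) (h2 : IsPElem q x) : x = 1 := by
  obtain ⟨k, hk⟩ := h1
  obtain ⟨l, hl⟩ := h2
  have h3 : orderOf x ∣ Nat.gcd (p ^ k) (q ^ l) :=
    Nat.dvd_gcd (orderOf_dvd_of_pow_eq_one hk) (orderOf_dvd_of_pow_eq_one hl)
  have h4 : Nat.gcd (p ^ k) (q ^ l) = 1 := Nat.Coprime.pow k l hpq
  rw [h4, Nat.dvd_one] at h3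
  exact orderOf_eq_one_iff.mp h3

/-- `p`-elements lift along surjections from finite groups. -/
theorem isPElem_lift {G Q : Type*} [Group G] [Group Q] [Finite G] {p : ℕ} (hp : p.Prime)
    (f : G →* Q) (hf : Function.Surjective f) (y : Q) (hy : IsPElem p y) :
    ∃ x : G, f x = y ∧ IsPElem p x := by
  obtain ⟨x₀, rfl⟩ := hf y
  obtain ⟨i, hi⟩ := hy
  have hn : orderOf x₀ ≠ 0 := (orderOf_pos x₀).ne'
  obtain ⟨a, m, hm, hnm⟩ := Nat.exists_eq_pow_mul_and_not_dvd hn p hp.ne_one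
  have hcop : Nat.Coprime m (orderOf (f x₀)) := by
    have h1 : orderOf (f x₀) ∣ p ^ i := orderOf_dvd_of_pow_eq_one hi
    have h2 : Nat.Coprime m p := ((Nat.Prime.coprime_iff_not_dvd hp).2 hm).symm
    exact Nat.Coprime.coprime_dvd_right h1 (Nat.Coprime.pow_right i h2)
  obtain ⟨u, hu⟩ := exists_pow_eq_self_of_coprime hcop
  refine ⟨(x₀ ^ m) ^ u, ?_, a, ?_⟩
  · rw [map_pow, map_pow, hu]
  · have h3 : m * (u * p ^ a) = orderOf x₀ * u := by rw [hnm]; ring
    rw [← pow_mul, ← pow_mul, h3, pow_mul, pow_orderOf_eq_one, one_pow]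

theorem PClosed.subgroup {G : Type*} [Group G] {p : ℕ} (h : PClosed p G) (H : Subgroup G) :
    PClosed p H := by
  intro x y hx hy
  have := h (x : G) (y : G) (hx.map H.subtype) (hy.map H.subtype)
  exact IsPElem.of_injective H.subtype H.subtype_injective (by simpa using this)

theorem PClosed.of_surjective {G Q : Type*} [Group G] [Group Q] [Finite G] {p : ℕ}
    (hp : p.Prime) (h : PClosed p G) (f : G →* Q) (hf : Function.Surjective f) :
    PClosed p Q := by
  intro x y hx hy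
  obtain ⟨x', rfl, hx'⟩ := isPElem_lift hp f hf x hx
  obtain ⟨y', rfl, hy'⟩ := isPElem_lift hp f hf y hy
  rw [← map_mul]
  exact (h x' y' hx' hy').map f

theorem PClosed.section {G : Type*} [Group G] [Finite G] {p : ℕ} (hp : p.Prime)
    (h : PClosed p G) (H : Subgroup G) (N : Subgroup H) [N.Normal] : PClosed p (H ⧸ N) :=
  (h.subgroup H).of_surjective hp (QuotientGroup.mk' N) (QuotientGroup.mk'_surjective N)

theorem PClosed.pi {ι : Type*} [Fintype ι] {F : ι → Type*} [∀ i, Group (F i)] {p : ℕ}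
    (h : ∀ i, PClosed p (F i)) : PClosed p (∀ i, F i) := by
  intro x y hx hy
  obtain ⟨a, ha⟩ := hx
  obtain ⟨b, hb⟩ := hy
  have h1 : ∀ i, ∃ k, (x i * y i) ^ (p ^ k) = 1 := by
    intro i
    exact h i (x i) (y i) ⟨a, by rw [← Pi.pow_apply, ha, Pi.one_apply]⟩
      ⟨b, by rw [← Pi.pow_apply, hb, Pi.one_apply]⟩
  choose k hk using h1
  refine ⟨∑ i, k i, ?_⟩
  funext i
  rw [Pi.pow_apply, Pi.mul_apply, Pi.one_apply]
  have h2 : p ^ (k i) ∣ p ^ (∑ i, k i) :=
    pow_dvd_pow p (Finset.single_le_sum (fun _ _ => Nat.zero_le _) (Finset.mem_univ i))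
  obtain ⟨c, hc⟩ := h2
  rw [hc, pow_mul, hk i, one_pow]

/-- If both the `p`-elements and the `q`-elements are closed under products, they commute. -/
theorem PClosed.commute {G : Type*} [Group G] {p q : ℕ} (hpq : Nat.Coprime p q)
    (h1 : PClosed p G) (h2 : PClosed q G) {x y : G} (hx : IsPElem p x) (hy : IsPElem q y) :
    Commute x y := by
  have h3 : IsPElem p (x * (y * x⁻¹ * y⁻¹)) := h1 _ _ hx (hx.inv.conj y)
  have h4 : IsPElem q ((x * y * x⁻¹) * y⁻¹) := h2 _ _ (hy.conj x) hy.inv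
  have h5 : x * (y * x⁻¹ * y⁻¹) = (x * y * x⁻¹) * y⁻¹ := by group
  rw [h5] at h3
  have h6 := IsPElem.eq_one_of_coprime hpq h3 h4
  show x * y = y * x
  have h7 : x * y = ((x * y * x⁻¹) * y⁻¹) * (y * x) := by group
  rw [h7, h6, one_mul]

theorem PClosed.of_coprime_orderOf {G : Type*} [Group G] {p : ℕ}
    (h : ∀ x : G, Nat.Coprime (orderOf x) p) : PClosed p G := by
  have h1 : ∀ x : G, IsPElem p x → x = 1 := by
    intro x hx
    obtain ⟨k, hk⟩ := hx.orderOf_dvd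
    have h2 : Nat.Coprime (orderOf x) (p ^ k) := Nat.Coprime.pow_right k (h x)
    have h3 : orderOf x = 1 := Nat.Coprime.eq_one_of_dvd h2 hk
    exact orderOf_eq_one_iff.mp h3
  intro x y hx hy
  rw [h1 x hx, h1 y hy, mul_one]
  exact ⟨0, one_pow _⟩

end Cfsg.Agent.Lib.Helper65
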