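import Mathlib
import Cfsg.Agent.Lib.Helper65.PClosed

set_option autoImplicit false

namespace Cfsg.Agent.Lib.Helper65

open SemidirectProduct

/-- The multiplication action of a subgroup of the units of a field on its additive group. -/
def affAct (K : Type*) [Field K] (C : Subgroup Kˣ) : C →* MulAut (Multiplicative K) where
  toFun c :=
    { toFun := fun v => Multiplicative.ofAdd (((c : Kˣ) : K) * Multiplicative.toAdd v)
      invFun := fun v => Multiplicative.ofAdd ((((c : Kˣ)⁻¹ : Kˣ) : K) * Multiplicative.toAdd v)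
      left_inv := by
        intro v
        apply Multiplicative.toAdd.injective
        show (((c : Kˣ)⁻¹ : Kˣ) : K) * (((c : Kˣ) : K) * Multiplicative.toAdd v)
          = Multiplicative.toAdd v
        rw [← mul_assoc, Units.inv_mul, one_mul]
      right_inv := by
        intro v
        apply Multiplicative.toAdd.injective
        show ((c : Kˣ) : K) * ((((c : Kˣ)⁻¹ : Kˣ) : K) * Multiplicative.toAdd v)
          = Multiplicative.toAdd v
        rw [← mul_assoc, Units.mul_inv, one_mul]
      map_mul' := by
        intro v w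
        apply Multiplicative.toAdd.injective
        exact mul_add _ _ _ }
  map_one' := by
    apply MulEquiv.ext
    intro v
    apply Multiplicative.toAdd.injective
    show (((1 : C) : Kˣ) : K) * Multiplicative.toAdd v = Multiplicative.toAdd v
    simp
  map_mul' := by
    intro a b
    apply MulEquiv.ext
    intro v
    apply Multiplicative.toAdd.injective
    show (((a * b : C) : Kˣ) : K) * Multiplicative.toAdd v
      = ((a : Kˣ) : K) * (((b : Kˣ) : K) * Multiplicative.toAdd v)
    rw [Subgroup.coe_mul, Units.val_mul, mul_assoc]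

/-- The group `K ⋊ C` for a subgroup `C` of the units of a field `K`. -/
abbrev Aff (K : Type*) [Field K] (C : Subgroup Kˣ) := Multiplicative K ⋊[affAct K C] C

instance finite_Aff {K : Type*} [Field K] [Finite K] (C : Subgroup Kˣ) : Finite (Aff K C) :=
  Finite.of_equiv _ (SemidirectProduct.equivProd (φ := affAct K C)).symm

theorem aff_conj {K : Type*} [Field K] (C : Subgroup Kˣ) (g : Aff K C) (h : g.right ≠ 1) :
    ∃ c : Aff K C, g = c * inr g.right * c⁻¹ := by
  set A := g.right with hA
  have hne : (1 : K) - ((A : Kˣ) : K) ≠ 0 := by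
    intro h0
    apply h
    apply Subtype.ext
    apply Units.ext
    rw [Subgroup.coe_one, Units.val_one]
    exact (sub_eq_zero.mp h0).symm
  let w : Multiplicative K :=
    Multiplicative.ofAdd (((1 : K) - ((A : Kˣ) : K))⁻¹ * Multiplicative.toAdd g.left)
  refine ⟨inl w, ?_⟩
  ext1
  · have h1 : (inl w * inr A * (inl w)⁻¹ : Aff K C).left = w * affAct K C A w⁻¹ := by
      simp [mul_left, inv_left]
    rw [h1]
    apply Multiplicative.toAdd.injective
    show Multiplicative.toAdd g.left =
      Multiplicative.toAdd w + ((A : Kˣ) : K) * (- Multiplicative.toAdd w)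
    have hw : Multiplicative.toAdd w =
      ((1 : K) - ((A : Kˣ) : K))⁻¹ * Multiplicative.toAdd g.left := rfl
    rw [hw]
    field_simp
    ring
  · simp [hA]

theorem aff_orderOf_eq {K : Type*} [Field K] (C : Subgroup Kˣ) (g : Aff K C) (h : g.right ≠ 1) :
    orderOf g = orderOf g.right := by
  obtain ⟨c, hc⟩ := aff_conj C g h
  have h1 : orderOf g = orderOf (inr g.right : Aff K C) := by
    conv_lhs => rw [hc]
    exact (MulAut.conj c).orderOf_eq (inr g.right)
  rw [h1]
  exact orderOf_injective (inr : C →* Aff K C) inr_injective g.right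

theorem aff_pow_char {K : Type*} [Field K] (p : ℕ) [CharP K p] (v : Multiplicative K) :
    v ^ p = 1 := by
  apply Multiplicative.toAdd.injective
  show p • Multiplicative.toAdd v = 0
  rw [nsmul_eq_mul, CharP.cast_eq_zero, zero_mul]

theorem aff_pow_char_of_right_eq_one {K : Type*} [Field K] (p : ℕ) [CharP K p]
    (C : Subgroup Kˣ) (g : Aff K C) (h : g.right = 1) : g ^ p = 1 := by
  have h2 : g ∈ (inl : Multiplicative K →* Aff K C).range := by
    rw [range_inl_eq_ker_rightHom]
    exact h
  obtain ⟨v, hv⟩ := h2
  rw [← hv, ← map_pow, aff_pow_char, map_one]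

theorem aff_spectrum {K : Type*} [Field K] [Finite K] (p q : ℕ) (hp : p.Prime) (hq : q.Prime)
    [CharP K p] (C : Subgroup Kˣ) (hC : Nat.card C = q) :
    Set.range (orderOf : Aff K C → ℕ) = {1, p, q} := by
  apply Set.Subset.antisymm
  · rintro _ ⟨g, rfl⟩
    by_cases h : g.right = 1
    · have h1 : orderOf g ∣ p := orderOf_dvd_of_pow_eq_one (aff_pow_char_of_right_eq_one p C g h)
      rcases (Nat.dvd_prime hp).1 h1 with h2 | h2
      · exact Or.inl h2
      · exact Or.inr (Or.inl h2)
    · rw [aff_orderOf_eq C g h]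
      have h1 : orderOf g.right ∣ q := hC ▸ orderOf_dvd_natCard g.right
      rcases (Nat.dvd_prime hq).1 h1 with h2 | h2
      · exact absurd (orderOf_eq_one_iff.mp h2) h
      · exact Or.inr (Or.inr h2)
  · rintro n (rfl | rfl | rfl)
    · exact ⟨1, orderOf_one⟩
    · refine ⟨inl (Multiplicative.ofAdd (1 : K)), ?_⟩
      rw [orderOf_injective (inl : Multiplicative K →* Aff K C) inl_injective]
      have h1 : orderOf (Multiplicative.ofAdd (1 : K)) ∣ n :=
        orderOf_dvd_of_pow_eq_one (aff_pow_char n _)
      rcases (Nat.dvd_prime hp).1 h1 with h2 | h2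
      · exfalso
        have h3 := orderOf_eq_one_iff.mp h2
        have h4 : (1 : K) = 0 := Multiplicative.ofAdd.injective h3
        exact one_ne_zero h4
      · exact h2
    · have h1 : Nontrivial C := by
        rw [← Finite.one_lt_card_iff_nontrivial, hC]
        exact hq.one_lt
      obtain ⟨c, hc⟩ := exists_ne (1 : C)
      refine ⟨inr c, ?_⟩
      rw [orderOf_injective (inr : C →* Aff K C) inr_injective]
      have h1 : orderOf c ∣ n := hC ▸ orderOf_dvd_natCard c
      rcases (Nat.dvd_prime hq).1 h1 with h2 | h2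
      · exact absurd (orderOf_eq_one_iff.mp h2) hc
      · exact h2

theorem aff_pclosed {K : Type*} [Field K] [Finite K] (p q : ℕ) (hp : p.Prime) (hq : q.Prime)
    (hne : p ≠ q) [CharP K p] (C : Subgroup Kˣ) (hC : Nat.card C = q) :
    PClosed p (Aff K C) := by
  have key : ∀ x : Aff K C, IsPElem p x → x.right = 1 := by
    intro x hx
    have h1 : IsPElem p x.right := hx.map (rightHom : Aff K C →* C)
    have h2 : IsPElem q x.right := ⟨1, by rw [pow_one, ← hC]; exact pow_card_eq_one'⟩
    exact IsPElem.eq_one_of_coprime ((Nat.coprime_primes hp hq).2 hne) h1 h2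
  intro x y hx hy
  refine ⟨1, ?_⟩
  rw [pow_one]
  apply aff_pow_char_of_right_eq_one
  rw [mul_right, key x hx, key y hy, mul_one]

/-- For distinct primes `p`, `q` there is a finite group with element orders `1, p, q` whose
`p`-elements are closed under products. -/
theorem exists_frob (p q : ℕ) (hp : p.Prime) (hq : q.Prime) (hne : p ≠ q) :
    ∃ (F : Type) (_ : Group F) (_ : Finite F),
      Set.range (orderOf : F → ℕ) = {1, p, q} ∧ PClosed p F := by
  have : Fact p.Prime := ⟨hp⟩
  have : Fact q.Prime := ⟨hq⟩
  have hq1 : q - 1 ≠ 0 := by have := hq.two_le; omega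
  have hcard : Nat.card (GaloisField p (q - 1))ˣ = p ^ (q - 1) - 1 := by
    rw [Nat.card_units, GaloisField.card p (q - 1) hq1]
  have hdvd : q ∣ Nat.card (GaloisField p (q - 1))ˣ := by
    rw [hcard]
    have h1 : p ^ Nat.totient q ≡ 1 [MOD q] :=
      Nat.ModEq.pow_totient ((Nat.coprime_primes hp hq).2 hne)
    rw [Nat.totient_prime hq] at h1
    exact (Nat.modEq_iff_dvd' (Nat.one_le_pow _ _ hp.pos)).1 h1.symm
  obtain ⟨ζ, hζ⟩ := exists_prime_orderOf_dvd_card' q hdvd
  have hC : Nat.card (Subgroup.zpowers ζ) = q := by rw [Nat.card_zpowers, hζ]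
  exact ⟨Aff (GaloisField p (q - 1)) (Subgroup.zpowers ζ), inferInstance, inferInstance,
    aff_spectrum p q hp hq _ hC, aff_pclosed p q hp hq hne _ hC⟩

end Cfsg.Agent.Lib.Helper65
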