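import Mathlib
import Cfsg.Prelude.Def_Solvable
import Cfsg.Agent.Lib.Helper72.G42Defs

/-!
# K-G42 (S2553) leaf 255303 L3a: a perfect minimal normal subgroup
-/

set_option autoImplicit false

namespace Cfsg.Agent.Lib.Helper65.G42

open Cfsg.Agent.Lib.Helper72.G42

/-- the commutator subgroup of a `K`-normalized subgroup is `K`-normalized. -/
theorem normalizedBy_commutator {G : Type*} [Group G] {K N : Subgroup G} (h : NormalizedBy K N) :
    NormalizedBy K ⁅N, N⁆ := by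
  intro k hk m hm
  have h1 : N.map (MulAut.conj k).toMonoidHom ≤ N := by
    rintro _ ⟨n, hn, rfl⟩
    simpa using h k hk n hn
  have h2 : (⁅N, N⁆).map (MulAut.conj k).toMonoidHom ≤ ⁅N, N⁆ := by
    rw [Subgroup.map_commutator]
    exact Subgroup.commutator_mono h1 h1
  have h3 : (MulAut.conj k).toMonoidHom m ∈ (⁅N, N⁆).map (MulAut.conj k).toMonoidHom :=
    Subgroup.mem_map_of_mem _ hm
  simpa using h2 h3

/-- 255303 L3a. -/
theorem exists_minNormal_perfect (K : Subgroup (Equiv.Perm (Fin 8))) (hK : K ≠ ⊥)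
    (hsolv : ∀ M : Subgroup (Equiv.Perm (Fin 8)), M ≤ K → NormalizedBy K M → Group.IsSolvable ↥M → M = ⊥) :
    ∃ N : Subgroup (Equiv.Perm (Fin 8)), N ≤ K ∧ NormalizedBy K N ∧ N ≠ ⊥ ∧ ⁅N, N⁆ = N ∧
      ∀ M : Subgroup (Equiv.Perm (Fin 8)), M ≤ N → NormalizedBy K M → M = ⊥ ∨ M = N := by
  classical
  let A : Set (Subgroup (Equiv.Perm (Fin 8))) := {N | N ≤ K ∧ NormalizedBy K N ∧ N ≠ ⊥}
  have hKA : K ∈ A := by
    refine ⟨le_rfl, ?_, hK⟩
    intro k hk m hm
    exact K.mul_mem (K.mul_mem hk hm) (K.inv_mem hk)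
  obtain ⟨N, hNA, hNmin⟩ := (wellFounded_lt (α := Subgroup (Equiv.Perm (Fin 8)))).has_min A ⟨K, hKA⟩
  obtain ⟨hNK, hNn, hN1⟩ := hNA
  have hmin : ∀ M : Subgroup (Equiv.Perm (Fin 8)), M ≤ N → NormalizedBy K M → M = ⊥ ∨ M = N := by
    intro M hMN hMn
    by_cases hM : M = ⊥
    · exact Or.inl hM
    · right
      have hMA : M ∈ A := ⟨hMN.trans hNK, hMn, hM⟩
      have := hNmin M hMA
      exact (lt_or_eq_of_le hMN).resolve_left this
  refine ⟨N, hNK, hNn, hN1, ?_, hmin⟩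
  rcases hmin ⁅N, N⁆ (Subgroup.commutator_le_self N) (normalizedBy_commutator hNn) with h | h
  · exfalso
    apply hN1
    apply hsolv N hNK hNn
    have hc : N ≤ Subgroup.centralizer (N : Set (Equiv.Perm (Fin 8))) :=
      (Subgroup.commutator_eq_bot_iff_le_centralizer).mp h
    apply Group.isSolvable_of_comm
    intro a b
    apply Subtype.ext
    have := hc b.2 a a.2
    simpa using this
  · exact h

end Cfsg.Agent.Lib.Helper65.G42
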