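import Mathlib
import Cfsg.Agent.Lib.Helper65.Hall

set_option autoImplicit false

universe u

namespace Cfsg.Agent.Lib.Helper65

/-- `N` is a `P`-group: every prime divisor of its order satisfies `P`. -/
def IsPiSub {G : Type u} [Group G] (P : ℕ → Prop) (N : Subgroup G) : Prop :=
  ∀ p : ℕ, p.Prime → p ∣ Nat.card N → P p

theorem card_sup_dvd {G : Type u} [Group G] [Finite G] (H N : Subgroup G) [N.Normal] :
    Nat.card (H ⊔ N : Subgroup G) ∣ Nat.card H * Nat.card N := by
  have h1 : N.relIndex (H ⊔ N) * Nat.card N = Nat.card (H ⊔ N : Subgroup G) := by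
    have h2 := (N.subgroupOf (H ⊔ N)).index_mul_card
    rw [Nat.card_congr (Subgroup.subgroupOfEquivOfLe (le_sup_right : N ≤ H ⊔ N)).toEquiv] at h2
    exact h2
  rw [← h1, Subgroup.relIndex_sup_right]
  exact Nat.mul_dvd_mul_right (Subgroup.relIndex_dvd_card N H) _

/-- The largest normal `P`-subgroup of a finite group. -/
theorem exists_largest_normal_pi (G : Type u) [Group G] [Finite G] (P : ℕ → Prop) :
    ∃ H : Subgroup G, H.Normal ∧ IsPiSub P H ∧
      ∀ N : Subgroup G, N.Normal → IsPiSub P N → N ≤ H := by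
  let S := {N : Subgroup G // N.Normal ∧ IsPiSub P N}
  have hne : Nonempty S := ⟨⟨⊥, inferInstance, by
    intro p hp hd
    rw [Subgroup.card_bot, Nat.dvd_one] at hd
    exact absurd hd hp.ne_one⟩⟩
  have hfin : Finite S := Subtype.finite
  obtain ⟨⟨H, hHn, hHP⟩, hmax⟩ := Finite.exists_max (fun N : S => Nat.card (N.1 : Subgroup G))
  refine ⟨H, hHn, hHP, ?_⟩
  intro N hNn hNP
  have hsupn : (H ⊔ N).Normal := Subgroup.sup_normal H N
  have hsupP : IsPiSub P (H ⊔ N) := by
    intro p hp hd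
    have h1 := hd.trans (card_sup_dvd H N)
    rcases (Nat.Prime.dvd_mul hp).1 h1 with h2 | h2
    · exact hHP p hp h2
    · exact hNP p hp h2
  have h3 : Nat.card (H ⊔ N : Subgroup G) ≤ Nat.card H := hmax ⟨H ⊔ N, hsupn, hsupP⟩
  have h4 : H = H ⊔ N := Subgroup.eq_of_le_of_card_ge le_sup_left h3
  rw [h4]
  exact le_sup_right

/-- Modulo the largest normal `P`-subgroup there is no nontrivial normal `P`-subgroup. -/
theorem eq_bot_of_normal_pi_quotient {G : Type u} [Group G] [Finite G] (P : ℕ → Prop)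
    (H : Subgroup G) [H.Normal] (hHP : IsPiSub P H)
    (hmax : ∀ N : Subgroup G, N.Normal → IsPiSub P N → N ≤ H)
    (M : Subgroup (G ⧸ H)) (hMn : M.Normal) (hMP : IsPiSub P M) : M = ⊥ := by
  have h1 : (M.comap (QuotientGroup.mk' H)).Normal := Subgroup.Normal.comap hMn _
  have h2 : IsPiSub P (M.comap (QuotientGroup.mk' H)) := by
    intro p hp hd
    rw [card_comap_mk'_eq] at hd
    rcases (Nat.Prime.dvd_mul hp).1 hd with h3 | h3
    · exact hHP p hp h3
    · exact hMP p hp h3
  have h3 := hmax _ h1 h2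
  rw [eq_bot_iff]
  intro x hx
  obtain ⟨g, rfl⟩ := QuotientGroup.mk'_surjective H x
  have h4 : g ∈ M.comap (QuotientGroup.mk' H) := hx
  have h5 : g ∈ H := h3 h4
  rw [Subgroup.mem_bot]
  exact (QuotientGroup.eq_one_iff g).2 h5

end Cfsg.Agent.Lib.Helper65
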