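import Mathlib
import Cfsg.Agent.Lib.Helper65.OPi

set_option autoImplicit false

universe u

namespace Cfsg.Agent.Lib.Helper65

/-- No element of order `a * b` with `a ∈ A`, `b ∉ A` primes. -/
def NE (A : Set ℕ) (X : Type u) [Group X] : Prop :=
  ∀ a b : ℕ, a.Prime → b.Prime → a ∈ A → b ∉ A → ¬ ∃ g : X, orderOf g = a * b

theorem NE.compl {A : Set ℕ} {X : Type u} [Group X] (h : NE A X) : NE Aᶜ X := by
  intro a b ha hb haA hbA hex
  obtain ⟨g, hg⟩ := hex
  have hb' : b ∈ A := by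
    by_contra hcon
    exact hbA hcon
  exact h b a hb ha hb' haA ⟨g, by rw [hg, mul_comm]⟩

theorem NE.subgroup {A : Set ℕ} {X : Type u} [Group X] (h : NE A X) (K : Subgroup X) :
    NE A K := by
  intro a b ha hb haA hbA hex
  obtain ⟨g, hg⟩ := hex
  exact h a b ha hb haA hbA ⟨(g : X), by rw [Subgroup.orderOf_coe, hg]⟩

theorem NE.quotient {A : Set ℕ} {X : Type u} [Group X] [Finite X] (h : NE A X)
    (N : Subgroup X) [N.Normal] : NE A (X ⧸ N) := by
  intro a b ha hb haA hbA hex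
  obtain ⟨q, hq⟩ := hex
  obtain ⟨g, rfl⟩ := QuotientGroup.mk'_surjective N q
  have h1 : a * b ∣ orderOf g := by
    rw [← hq]
    exact orderOf_map_dvd (QuotientGroup.mk' N) g
  exact h a b ha hb haA hbA ⟨g ^ (orderOf g / (a * b)),
    orderOf_pow_orderOf_div (orderOf_pos g).ne' h1⟩

theorem NE.no_commute {A : Set ℕ} {X : Type u} [Group X] [Finite X] (h : NE A X) {x y : X}
    (hxy : Commute x y) {a b : ℕ} (ha : a.Prime) (hb : b.Prime) (haA : a ∈ A) (hbA : b ∉ A)
    (hax : a ∣ orderOf x) (hby : b ∣ orderOf y) : False := by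
  have h1 : orderOf (x ^ (orderOf x / a)) = a :=
    orderOf_pow_orderOf_div (orderOf_pos x).ne' hax
  have h2 : orderOf (y ^ (orderOf y / b)) = b :=
    orderOf_pow_orderOf_div (orderOf_pos y).ne' hby
  have hne : a ≠ b := fun hab => hbA (hab ▸ haA)
  have hcop : Nat.Coprime (orderOf (x ^ (orderOf x / a))) (orderOf (y ^ (orderOf y / b))) := by
    rw [h1, h2]
    exact (Nat.coprime_primes ha hb).2 hne
  have h3 := (hxy.pow_pow (orderOf x / a) (orderOf y / b)).orderOf_mul_eq_mul_orderOf_of_coprime hcop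
  rw [h1, h2] at h3
  exact h a b ha hb haA hbA ⟨_, h3⟩

theorem coprime_card_index {A : Set ℕ} {X : Type u} [Group X] [Finite X] (N : Subgroup X)
    (hN : IsPiSub (· ∈ A) N) (hI : ∀ p : ℕ, p.Prime → p ∣ N.index → p ∉ A) :
    Nat.Coprime (Nat.card N) N.index :=
  Nat.coprime_of_dvd (fun k hk h1 h2 => hI k hk h2 (hN k hk h1))

/-- Under `NE`, a normal `A`-subgroup of `A'`-index contains the centralizers of its
nonidentity elements. -/
theorem NE.centralizer_le {A : Set ℕ} {X : Type u} [Group X] [Finite X] (h : NE A X)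
    (N : Subgroup X) [N.Normal] (hN : IsPiSub (· ∈ A) N)
    (hI : ∀ p : ℕ, p.Prime → p ∣ N.index → p ∉ A) :
    ∀ n ∈ N, n ≠ 1 → ∀ x : X, n * x = x * n → x ∈ N := by
  intro n hn hn1 x hnx
  by_contra hxN
  have h1 : orderOf n ≠ 1 := fun h1 => hn1 (orderOf_eq_one_iff.1 h1)
  obtain ⟨a, ha, han⟩ := Nat.exists_prime_and_dvd h1
  have haA : a ∈ A := hN a ha (han.trans (Subgroup.orderOf_dvd_natCard N hn))
  have h2 : orderOf (QuotientGroup.mk' N x) ≠ 1 := by
    intro h2
    apply hxN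
    exact (QuotientGroup.eq_one_iff x).1 (orderOf_eq_one_iff.1 h2)
  obtain ⟨b, hb, hbx⟩ := Nat.exists_prime_and_dvd h2
  have hbA : b ∉ A := by
    apply hI b hb
    rw [Subgroup.index_eq_card]
    exact hbx.trans (orderOf_dvd_natCard _)
  have hbx' : b ∣ orderOf x := hbx.trans (orderOf_map_dvd (QuotientGroup.mk' N) x)
  exact h.no_commute (show Commute n x from hnx) ha hb haA hbA han hbx'

end Cfsg.Agent.Lib.Helper65
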