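import Mathlib
import Cfsg.Agent.Lib.Helper65.NoEdge

set_option autoImplicit false

universe u

namespace Cfsg.Agent.Lib.Helper65

/-- If `Q` has a normal subgroup of prime order `p ∉ A`, then (under `NE`) the quotient of `Q` by
its largest normal `A'`-subgroup is an `A`-group. -/
theorem index_pi_of_normal_prime {Q : Type u} [Group Q] [Finite Q] (A : Set ℕ) (hNE : NE A Q)
    (Kb : Subgroup Q) [Kb.Normal] (hK : IsPiSub (· ∉ A) Kb)
    (hmax : ∀ M : Subgroup Q, M.Normal → IsPiSub (· ∉ A) M → M ≤ Kb)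
    (E : Subgroup Q) [E.Normal] (p : ℕ) (hp : p.Prime) (hpA : p ∉ A) (hE : Nat.card E = p) :
    ∀ r : ℕ, r.Prime → r ∣ Kb.index → r ∈ A := by
  have : Fact p.Prime := ⟨hp⟩
  have hcyc : IsCyclic E := isCyclic_of_prime_card hE
  have hcommAut : ∀ φ₁ φ₂ : MulAut E, φ₁ * φ₂ = φ₂ * φ₁ := by
    intro φ₁ φ₂
    apply (IsCyclic.mulAutMulEquiv E).injective
    rw [map_mul, map_mul, mul_comm]
  -- an element of order p in E
  have hnt : Nontrivial E := by
    rw [← Finite.one_lt_card_iff_nontrivial, hE]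
    exact hp.one_lt
  obtain ⟨e', he'⟩ := exists_ne (1 : E)
  have heo : orderOf (e' : Q) = p := by
    rw [Subgroup.orderOf_coe]
    have h1 : orderOf e' ∣ p := hE ▸ orderOf_dvd_natCard e'
    rcases (Nat.dvd_prime hp).1 h1 with h2 | h2
    · exact absurd (orderOf_eq_one_iff.1 h2) he'
    · exact h2
  -- commutators centralize E
  have hcomm : ∀ g h : Q, g * h * g⁻¹ * h⁻¹ ∈ Subgroup.centralizer (E : Set Q) := by
    intro g h
    have h1 : (MulAut.conjNormal (g * h * g⁻¹ * h⁻¹) : MulAut E) = 1 := by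
      rw [map_mul, map_mul, map_mul, map_inv, map_inv,
        hcommAut (MulAut.conjNormal g) (MulAut.conjNormal h)]
      group
    rw [Subgroup.mem_centralizer_iff]
    intro x hx
    have h2 : ((MulAut.conjNormal (g * h * g⁻¹ * h⁻¹) : MulAut E) ⟨x, hx⟩ : Q) = x := by
      rw [h1]
      rfl
    rw [MulAut.conjNormal_apply] at h2
    have h3 : (g * h * g⁻¹ * h⁻¹) * x = x * (g * h * g⁻¹ * h⁻¹) := by
      calc (g * h * g⁻¹ * h⁻¹) * x
          = ((g * h * g⁻¹ * h⁻¹) * x * (g * h * g⁻¹ * h⁻¹)⁻¹) * (g * h * g⁻¹ * h⁻¹) := by group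
        _ = x * (g * h * g⁻¹ * h⁻¹) := by
          have h2' : (g * h * g⁻¹ * h⁻¹) * x * (g * h * g⁻¹ * h⁻¹)⁻¹ = x := h2
          rw [h2']
    exact h3.symm
  -- the centralizer is an A'-group
  have hCpi : IsPiSub (· ∉ A) (Subgroup.centralizer (E : Set Q)) := by
    intro r hr hrd hrA
    have : Fact r.Prime := ⟨hr⟩
    obtain ⟨z, hz⟩ := exists_prime_orderOf_dvd_card' r hrd
    have hzo : orderOf (z : Q) = r := by rw [Subgroup.orderOf_coe, hz]
    have hze : Commute (z : Q) (e' : Q) := by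
      have := (Subgroup.mem_centralizer_iff.1 z.2) (e' : Q) e'.2
      exact this.symm
    exact hNE.no_commute hze hr hp hrA hpA (by rw [hzo]) (by rw [heo])
  have hCle : Subgroup.centralizer (E : Set Q) ≤ Kb := hmax _ inferInstance hCpi
  intro r hr hrd
  by_contra hrA
  have : Fact r.Prime := ⟨hr⟩
  rw [Subgroup.index_eq_card] at hrd
  obtain ⟨xb, hxb⟩ := exists_prime_orderOf_dvd_card' r hrd
  set B : Subgroup Q := (Subgroup.zpowers xb).comap (QuotientGroup.mk' Kb) with hB
  have hKB : Kb ≤ B := by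
    intro k hk
    show QuotientGroup.mk' Kb k ∈ Subgroup.zpowers xb
    have h1 : QuotientGroup.mk' Kb k = 1 := (QuotientGroup.eq_one_iff k).2 hk
    rw [h1]
    exact Subgroup.one_mem _
  have hBn : B.Normal := by
    refine ⟨fun y hy g => ?_⟩
    have h1 : g * y * g⁻¹ = (g * y * g⁻¹ * y⁻¹) * y := by group
    rw [h1]
    exact B.mul_mem (hKB (hCle (hcomm g y))) hy
  have hBcard : Nat.card B = Nat.card Kb * r := by
    rw [hB, card_comap_mk'_eq, Nat.card_zpowers, hxb]
  have hBpi : IsPiSub (· ∉ A) B := by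
    intro s hs hsd
    rw [hBcard] at hsd
    rcases (Nat.Prime.dvd_mul hs).1 hsd with h | h
    · exact hK s hs h
    · rw [(Nat.prime_dvd_prime_iff_eq hs hr).1 h]
      exact hrA
  have hBle : B ≤ Kb := hmax B hBn hBpi
  have h1 : Nat.card B ≤ Nat.card Kb := Subgroup.card_le_of_le hBle
  rw [hBcard] at h1
  have h2 : 0 < Nat.card Kb := Nat.card_pos
  have h3 := hr.two_le
  nlinarith

end Cfsg.Agent.Lib.Helper65
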