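import Mathlib
import Cfsg.Agent.Lib.Helper65.Hall
import Cfsg.Agent.Lib.Helper65.FrobAction

set_option autoImplicit false

namespace Cfsg.Agent.Lib.Helper65

universe u

/-- a nontrivial finite `p`-group has order divisible by `p` -/
theorem dvd_card_of_isPGroup_ne_bot {G : Type u} [Group G] {p : ℕ} (hp : p.Prime)
    (A : Subgroup G) [Finite A]
    (hA : IsPGroup p A) (hne : A ≠ ⊥) : p ∣ Nat.card A := by
  have : Fact p.Prime := ⟨hp⟩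
  rcases hA.card_eq_or_dvd with h | h
  · exact absurd (Subgroup.card_eq_one.mp h) hne
  · exact h

/-- Hall subgroups contain the full `r`-part for `r ∈ π` -/
theorem dvd_card_of_hall {G : Type u} [Group G] [Finite G] {π : Set ℕ} (H : Subgroup G)
    (hH2 : ∀ p : ℕ, p.Prime → p ∣ H.index → p ∉ π) {r : ℕ} (hr : r.Prime) (hrπ : r ∈ π)
    (hrG : r ∣ Nat.card G) : r ∣ Nat.card H := by
  rw [← H.card_mul_index] at hrG
  rcases (Nat.Prime.dvd_mul hr).mp hrG with h | h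
  · exact h
  · exact absurd hrπ (hH2 r hr h)

/-- **Lucido's lemma**: in a finite solvable group, a set of prime divisors of the order that are
pairwise non-adjacent in the prime graph has at most two elements. -/
theorem solvable_coclique_card_le_two (G : Type u) [Group G] [Finite G] [Group.IsSolvable G]
    (ρ : Finset ℕ) (h1 : ∀ r ∈ ρ, r.Prime ∧ r ∣ Nat.card G)
    (h2 : ∀ r ∈ ρ, ∀ s ∈ ρ, r ≠ s → ¬ ∃ x : G, orderOf x = r * s) : ρ.card ≤ 2 := by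
  classical
  by_contra hcard'
  have hcard : 3 ≤ ρ.card := by omega
  -- a Hall ρ-subgroup
  obtain ⟨H, hH1, hH2⟩ := exists_hall G (↑ρ : Set ℕ)
  have hHdvd : ∀ r ∈ ρ, r ∣ Nat.card H := fun r hr =>
    dvd_card_of_hall H hH2 (h1 r hr).1 (Finset.mem_coe.mpr hr) (h1 r hr).2
  have h2H : ∀ r ∈ ρ, ∀ s ∈ ρ, r ≠ s → ¬ ∃ z : ↥H, orderOf z = r * s := by
    intro r hr s hs hrs ⟨z, hz⟩
    exact h2 r hr s hs hrs ⟨(z : G), by rw [Subgroup.orderOf_coe, hz]⟩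
  obtain ⟨r0, hr0⟩ : ρ.Nonempty := Finset.card_pos.mp (by omega)
  have hHnt : Nontrivial ↥H := by
    rw [← Finite.one_lt_card_iff_nontrivial]
    have := Nat.le_of_dvd Nat.card_pos (hHdvd r0 hr0)
    have := (h1 r0 hr0).1.one_lt
    omega
  obtain ⟨ℓ, A, hℓ, hAn, hAne, hAp, hAc⟩ := exists_normal_abelian_pgroup ↥H
  have hℓρ : ℓ ∈ ρ := by
    have h := dvd_card_of_isPGroup_ne_bot hℓ A hAp hAne
    exact Finset.mem_coe.mp (hH1 ℓ hℓ (h.trans A.card_subgroup_dvd_card))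
  -- a Hall subgroup of H for the remaining primes
  obtain ⟨Q, hQ1, hQ2⟩ := exists_hall ↥H (↑(ρ.erase ℓ) : Set ℕ)
  have hQdvd : ∀ r ∈ ρ.erase ℓ, r ∣ Nat.card Q := fun r hr =>
    dvd_card_of_hall Q hQ2 (h1 r (Finset.mem_of_mem_erase hr)).1 (Finset.mem_coe.mpr hr)
      (hHdvd r (Finset.mem_of_mem_erase hr))
  have hcard1 : 2 ≤ (ρ.erase ℓ).card := by
    rw [Finset.card_erase_of_mem hℓρ]; omega
  obtain ⟨r1, hr1⟩ : (ρ.erase ℓ).Nonempty := Finset.card_pos.mp (by omega)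
  have hQnt : Nontrivial ↥Q := by
    rw [← Finite.one_lt_card_iff_nontrivial]
    have := Nat.le_of_dvd Nat.card_pos (hQdvd r1 hr1)
    have := (h1 r1 (Finset.mem_of_mem_erase hr1)).1.one_lt
    omega
  obtain ⟨ℓ2, B, hℓ2, hBn, hBne, hBp, -⟩ := exists_normal_abelian_pgroup ↥Q
  have hℓ2ρ : ℓ2 ∈ ρ.erase ℓ := by
    have h := dvd_card_of_isPGroup_ne_bot hℓ2 B hBp hBne
    exact Finset.mem_coe.mp (hQ1 ℓ2 hℓ2 (h.trans B.card_subgroup_dvd_card))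
  have hcard2 : 1 ≤ ((ρ.erase ℓ).erase ℓ2).card := by
    rw [Finset.card_erase_of_mem hℓ2ρ]; omega
  obtain ⟨ℓ3, hℓ3⟩ : ((ρ.erase ℓ).erase ℓ2).Nonempty := Finset.card_pos.mp (by omega)
  have hℓ3' : ℓ3 ∈ ρ.erase ℓ := Finset.mem_of_mem_erase hℓ3
  have hℓ3ρ : ℓ3 ∈ ρ := Finset.mem_of_mem_erase hℓ3'
  have hℓ2ρ' : ℓ2 ∈ ρ := Finset.mem_of_mem_erase hℓ2ρ
  have h32 : ℓ3 ≠ ℓ2 := Finset.ne_of_mem_erase hℓ3
  have h31 : ℓ3 ≠ ℓ := Finset.ne_of_mem_erase hℓ3'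
  have h21 : ℓ2 ≠ ℓ := Finset.ne_of_mem_erase hℓ2ρ
  have hℓ3p : ℓ3.Prime := (h1 ℓ3 hℓ3ρ).1
  have : Fact ℓ3.Prime := ⟨hℓ3p⟩
  obtain ⟨x, hx⟩ := exists_prime_orderOf_dvd_card' ℓ3 (hQdvd ℓ3 hℓ3')
  -- set up the Frobenius action inside H
  have hSel : ∀ u ∈ B.map Q.subtype, ∃ k : ℕ, u ^ (ℓ2 ^ k) = 1 := by
    rintro u ⟨b, hb, rfl⟩
    obtain ⟨k, hk⟩ := hBp ⟨b, hb⟩
    refine ⟨k, ?_⟩
    have := congrArg (fun t : ↥B => ((t : ↥Q) : ↥H)) hk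
    simpa using this
  have hAel : ∀ v ∈ A, ∃ k : ℕ, v ^ (ℓ ^ k) = 1 := by
    intro v hv
    obtain ⟨k, hk⟩ := hAp ⟨v, hv⟩
    refine ⟨k, ?_⟩
    have := congrArg (fun t : ↥A => (t : ↥H)) hk
    simpa using this
  have hxH : orderOf (x : ↥H) = ℓ3 := by rw [Subgroup.orderOf_coe, hx]
  have hAbot : A = ⊥ := by
    have := hAn
    refine frobenius_action A hAc (B.map Q.subtype) (x : ↥H) ℓ3 hℓ3p ?_ hxH ?_ ?_ ?_ ?_ ?_
    · -- x normalizes S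
      have hxB : x ∈ Subgroup.normalizer (B : Set ↥Q) := by
        rw [Subgroup.normalizer_eq_top]; trivial
      exact Subgroup.le_normalizer_map Q.subtype ⟨x, hxB, rfl⟩
    · intro u hu hcomm
      by_contra hu1
      obtain ⟨z, hz⟩ := exists_orderOf_eq_mul hℓ2 hℓ3p h32.symm u (x : ↥H) hcomm hu1
        (by intro h; rw [h, orderOf_one] at hxH; exact hℓ3p.one_lt.ne hxH)
        (hSel u hu) ⟨1, by rw [pow_one, ← hxH, pow_orderOf_eq_one]⟩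
      exact h2H ℓ2 hℓ2ρ' ℓ3 hℓ3ρ h32.symm ⟨z, hz⟩
    · intro u hu hu1 v hv hcomm
      by_contra hv1
      obtain ⟨z, hz⟩ := exists_orderOf_eq_mul hℓ2 hℓ h21 u v hcomm hu1 hv1 (hSel u hu) (hAel v hv)
      exact h2H ℓ2 hℓ2ρ' ℓ hℓρ h21 ⟨z, hz⟩
    · intro y hy v hv hcomm
      by_contra hv1
      obtain ⟨z, hz⟩ := exists_orderOf_eq_mul hℓ3p hℓ h31 y v hcomm
        (by intro h; rw [h, orderOf_one] at hy; exact hℓ3p.one_lt.ne hy) hv1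
        ⟨1, by rw [pow_one, ← hy, pow_orderOf_eq_one]⟩ (hAel v hv)
      exact h2H ℓ3 hℓ3ρ ℓ hℓρ h31 ⟨z, hz⟩
    · intro h
      exact hBne ((Subgroup.map_eq_bot_iff_of_injective B Q.subtype_injective).mp h)
    · have : Fact ℓ.Prime := ⟨hℓ⟩
      have : Fact ℓ2.Prime := ⟨hℓ2⟩
      obtain ⟨i, hi⟩ := IsPGroup.iff_card.mp hAp
      obtain ⟨j, hj⟩ := IsPGroup.iff_card.mp hBp
      rw [Subgroup.card_subtype, hi, hj]
      exact Nat.Coprime.pow _ _ ((Nat.coprime_primes hℓ2 hℓ).mpr h21)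
  exact hAne hAbot

end Cfsg.Agent.Lib.Helper65
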