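import Mathlib

/-!
# Groups in which the centralizer of every non-central element is a maximal subgroup

Basic analysis (helper65): primary decomposition of elements, the "coprime product" trick,
and the fact that a non-abelian centralizer `C_G(x)` is a `p`-group modulo the center.
-/

set_option autoImplicit false

universe u

namespace Cfsg.Agent.Lib.Helper65

variable {G : Type u} [Group G]

/-- the centralizer of a single element -/
abbrev cen (g : G) : Subgroup G := Subgroup.centralizer ({g} : Set G)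

/-- the hypothesis: centralizers of non-central elements are maximal subgroups -/
def MaxCent (G : Type u) [Group G] : Prop :=
  ∀ g : G, g ∉ Subgroup.center G → IsCoatom (cen g)

theorem mem_cen_iff {g k : G} : k ∈ cen g ↔ k * g = g * k :=
  Subgroup.mem_centralizer_singleton_iff

theorem self_mem_cen (g : G) : g ∈ cen g := mem_cen_iff.2 rfl

theorem center_le_cen (g : G) : Subgroup.center G ≤ cen g := by
  intro z hz
  rw [mem_cen_iff]
  rw [Subgroup.mem_center_iff] at hz
  exact (hz g).symm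

theorem cen_eq_top_iff {u : G} : cen u = ⊤ ↔ u ∈ Subgroup.center G := by
  constructor
  · intro h
    rw [Subgroup.mem_center_iff]
    intro g
    have : g ∈ cen u := by rw [h]; exact Subgroup.mem_top _
    exact mem_cen_iff.1 this
  · intro h
    rw [eq_top_iff]
    intro g _
    rw [mem_cen_iff]
    rw [Subgroup.mem_center_iff] at h
    exact h g

theorem zpowers_le_cen {g m : G} (hm : m ∈ cen g) : Subgroup.zpowers m ≤ cen g :=
  (Subgroup.zpowers_le).2 hm

/-- `cen x ≤ cen u` means `u` is central in `cen x` (given `u ∈ cen x`). -/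
theorem cen_eq_of_le (h : MaxCent G) {x u : G} (hx : x ∉ Subgroup.center G)
    (hu : u ∉ Subgroup.center G) (hle : cen x ≤ cen u) : cen u = cen x := by
  rcases (h x hx).le_iff.1 hle with h1 | h1
  · exact absurd (cen_eq_top_iff.1 h1) hu
  · exact h1

theorem cen_mul_le {a y : G} (hc : Commute a y) (hcop : (orderOf a).Coprime (orderOf y)) :
    cen (a * y) ≤ cen a ⊓ cen y := by
  intro k hk
  rw [mem_cen_iff] at hk
  have hk' : Commute k (a * y) := hk
  have h1 : (a * y) ^ orderOf y = a ^ orderOf y := by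
    rw [hc.mul_pow, pow_orderOf_eq_one, mul_one]
  have h2 : (a * y) ^ orderOf a = y ^ orderOf a := by
    rw [hc.mul_pow, pow_orderOf_eq_one, one_mul]
  obtain ⟨m1, hm1⟩ := exists_pow_eq_self_of_coprime (x := a) hcop.symm
  obtain ⟨m2, hm2⟩ := exists_pow_eq_self_of_coprime (x := y) hcop
  refine ⟨?_, ?_⟩
  · have : Commute k (((a * y) ^ orderOf y) ^ m1) := (hk'.pow_right _).pow_right _
    rw [h1, hm1] at this
    exact mem_cen_iff.2 this.eq
  · have : Commute k (((a * y) ^ orderOf a) ^ m2) := (hk'.pow_right _).pow_right _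
    rw [h2, hm2] at this
    exact mem_cen_iff.2 this.eq

theorem cen_inf_le_mul (a y : G) : cen a ⊓ cen y ≤ cen (a * y) := by
  rintro k ⟨h1, h2⟩
  have h1' : k * a = a * k := mem_cen_iff.1 h1
  have h2' : k * y = y * k := mem_cen_iff.1 h2
  rw [mem_cen_iff, ← mul_assoc, h1', mul_assoc, h2', mul_assoc]

theorem zpow_pow_comm' (x : G) (n : ℕ) (B : ℤ) (m : ℕ) :
    ((x ^ n) ^ B) ^ m = (x ^ (n * m)) ^ B := by
  rw [← zpow_natCast, ← zpow_mul, mul_comm, zpow_mul, zpow_natCast, ← pow_mul]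

theorem mem_of_pow_mem_of_coprime (H : Subgroup G) (g : G) {a b : ℕ} (hab : a.Coprime b)
    (ha : g ^ a ∈ H) (hb : g ^ b ∈ H) : g ∈ H := by
  have h1 : ((Nat.gcd a b : ℕ) : ℤ) = a * Nat.gcdA a b + b * Nat.gcdB a b := Nat.gcd_eq_gcd_ab a b
  rw [hab.gcd_eq_one] at h1
  have h2 : g = (g ^ a) ^ (Nat.gcdA a b) * (g ^ b) ^ (Nat.gcdB a b) := by
    rw [← zpow_natCast, ← zpow_natCast, ← zpow_mul, ← zpow_mul, ← zpow_add, ← h1]
    simp
  rw [h2]
  exact H.mul_mem (H.zpow_mem ha _) (H.zpow_mem hb _)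

/-- Primary decomposition of an element with respect to a prime `p`. -/
theorem exists_decomp [Finite G] (g : G) (p : ℕ) (hp : p.Prime) :
    ∃ (a b : G) (k : ℕ), a ∈ Subgroup.zpowers g ∧ b ∈ Subgroup.zpowers g ∧ g = a * b ∧
      a ^ (p ^ k) = 1 ∧ (orderOf b).Coprime p ∧ (p ∣ orderOf g → orderOf b < orderOf g) := by
  have hn : orderOf g ≠ 0 := (orderOf_pos g).ne'
  obtain ⟨e, t, ht, hnt⟩ := Nat.exists_eq_pow_mul_and_not_dvd hn p hp.ne_one
  have hcop : (p ^ e).Coprime t := Nat.Coprime.pow_left e ((hp.coprime_iff_not_dvd).2 ht)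
  have h1 : ((Nat.gcd (p ^ e) t : ℕ) : ℤ) = (p ^ e : ℕ) * Nat.gcdA (p ^ e) t + t * Nat.gcdB (p ^ e) t :=
    Nat.gcd_eq_gcd_ab _ _
  rw [hcop.gcd_eq_one] at h1
  have ht0 : 0 < t := by
    rcases Nat.eq_zero_or_pos t with h0 | h0
    · rw [h0, mul_zero] at hnt; exact absurd hnt hn
    · exact h0
  refine ⟨(g ^ t) ^ (Nat.gcdB (p ^ e) t), (g ^ (p ^ e)) ^ (Nat.gcdA (p ^ e) t), e, ?_, ?_, ?_, ?_, ?_, ?_⟩
  · exact Subgroup.zpow_mem _ (Subgroup.pow_mem _ (Subgroup.mem_zpowers g) _) _
  · exact Subgroup.zpow_mem _ (Subgroup.pow_mem _ (Subgroup.mem_zpowers g) _) _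
  · rw [← zpow_natCast, ← zpow_natCast, ← zpow_mul, ← zpow_mul, ← zpow_add, add_comm, ← h1]
    simp
  · rw [zpow_pow_comm', show t * p ^ e = orderOf g by rw [hnt, mul_comm], pow_orderOf_eq_one,
      one_zpow]
  · have hb : ((g ^ (p ^ e)) ^ (Nat.gcdA (p ^ e) t)) ^ t = 1 := by
      rw [zpow_pow_comm', show p ^ e * t = orderOf g by rw [hnt], pow_orderOf_eq_one, one_zpow]
    have hd : orderOf ((g ^ (p ^ e)) ^ (Nat.gcdA (p ^ e) t)) ∣ t := orderOf_dvd_of_pow_eq_one hb
    exact Nat.Coprime.coprime_dvd_left hd ((hp.coprime_iff_not_dvd).2 ht).symm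
  · intro hpd
    have hb : ((g ^ (p ^ e)) ^ (Nat.gcdA (p ^ e) t)) ^ t = 1 := by
      rw [zpow_pow_comm', show p ^ e * t = orderOf g by rw [hnt], pow_orderOf_eq_one, one_zpow]
    have hd : orderOf ((g ^ (p ^ e)) ^ (Nat.gcdA (p ^ e) t)) ∣ t := orderOf_dvd_of_pow_eq_one hb
    have hle : orderOf ((g ^ (p ^ e)) ^ (Nat.gcdA (p ^ e) t)) ≤ t := Nat.le_of_dvd ht0 hd
    have he : e ≠ 0 := by
      intro he
      rw [he, pow_zero, one_mul] at hnt
      rw [hnt] at hpd
      exact ht hpd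
    have h2 : 2 ≤ p ^ e := by
      calc 2 ≤ p := hp.two_le
        _ = p ^ 1 := (pow_one p).symm
        _ ≤ p ^ e := Nat.pow_le_pow_right hp.pos (Nat.one_le_iff_ne_zero.2 he)
    rw [hnt]
    nlinarith

/-- A subgroup not contained in the center contains a non-central element of prime power
order. -/
theorem exists_pElem_not_center [Finite G] (A : Subgroup G) :
    ∀ (n : ℕ) (a : G), a ∈ A → a ∉ Subgroup.center G → orderOf a = n →
      ∃ (p : ℕ) (a' : G) (k : ℕ), p.Prime ∧ a' ∈ A ∧ a' ∉ Subgroup.center G ∧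
        a' ^ (p ^ k) = 1 := by
  intro n
  induction n using Nat.strong_induction_on with
  | _ n ih =>
  intro a haA haZ hn
  have hn1 : n ≠ 1 := by
    intro h1
    rw [h1, orderOf_eq_one_iff] at hn
    exact haZ (hn ▸ Subgroup.one_mem _)
  obtain ⟨p, hp, hpd⟩ := Nat.exists_prime_and_dvd hn1
  obtain ⟨a1, b1, k, ha1, hb1, hab, hpow, _, hlt⟩ := exists_decomp a p hp
  have hzA : Subgroup.zpowers a ≤ A := (Subgroup.zpowers_le).2 haA
  by_cases hb1Z : b1 ∈ Subgroup.center G
  · refine ⟨p, a1, k, hp, hzA ha1, ?_, hpow⟩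
    intro ha1Z
    exact haZ (hab ▸ Subgroup.mul_mem _ ha1Z hb1Z)
  · exact ih (orderOf b1) (hn ▸ hlt (hn ▸ hpd)) b1 (hzA hb1) hb1Z rfl

/-- The coprime-product trick. -/
theorem cen_le_of_coprime (h : MaxCent G) {x a y : G} (hx : x ∉ Subgroup.center G)
    (haA : cen x ≤ cen a) (haZ : a ∉ Subgroup.center G) (hy : y ∈ cen x)
    (hcop : (orderOf a).Coprime (orderOf y)) : cen x ≤ cen y := by
  have hax : cen a = cen x := cen_eq_of_le h hx haZ haA
  have hc : Commute a y := by
    have : y ∈ cen a := haA hy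
    exact (mem_cen_iff.1 this).symm
  have hle := cen_mul_le hc hcop
  have hayZ : a * y ∉ Subgroup.center G := by
    intro hay
    have h1 : cen (a * y) = ⊤ := cen_eq_top_iff.2 hay
    rw [h1] at hle
    have : cen a = ⊤ := top_le_iff.1 (le_trans hle inf_le_left)
    exact haZ (cen_eq_top_iff.1 this)
  have hle2 : cen (a * y) ≤ cen x := by
    rw [← hax]; exact le_trans hle inf_le_left
  rcases (h (a * y) hayZ).le_iff.1 hle2 with h1 | h1
  · exact absurd (cen_eq_top_iff.1 h1) hx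
  · rw [h1]; exact le_trans hle inf_le_right

/-- A non-abelian centralizer of a non-central element is a `p`-group modulo the center. -/
theorem exists_prime_pow_mem_center [Finite G] (h : MaxCent G) {x : G}
    (hx : x ∉ Subgroup.center G)
    (hna : ¬ ∀ a ∈ cen x, ∀ b ∈ cen x, a * b = b * a) :
    ∃ p : ℕ, p.Prime ∧ ∀ m ∈ cen x, ∃ k : ℕ, m ^ (p ^ k) ∈ Subgroup.center G := by
  -- the center of `cen x`
  set A : Subgroup G := cen x ⊓ Subgroup.centralizer (cen x : Set G) with hA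
  have hmemA : ∀ a : G, a ∈ A ↔ a ∈ cen x ∧ cen x ≤ cen a := by
    intro a
    rw [hA, Subgroup.mem_inf, Subgroup.mem_centralizer_iff]
    constructor
    · rintro ⟨h1, h2⟩
      refine ⟨h1, fun m hm => ?_⟩
      rw [mem_cen_iff]
      exact h2 m hm
    · rintro ⟨h1, h2⟩
      refine ⟨h1, fun m hm => ?_⟩
      exact mem_cen_iff.1 (h2 hm)
  have hxA : x ∈ A := by
    rw [hmemA]
    exact ⟨self_mem_cen x, le_refl _⟩
  obtain ⟨p, a, k, hp, haA, haZ, hak⟩ := exists_pElem_not_center A (orderOf x) x hxA hx rfl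
  have haA' := (hmemA a).1 haA
  have hoa : orderOf a ∣ p ^ k := orderOf_dvd_of_pow_eq_one hak
  -- (b) p'-elements of `cen x` are central in `cen x`
  have hb : ∀ y ∈ cen x, (orderOf y).Coprime p → cen x ≤ cen y := by
    intro y hy hyp
    apply cen_le_of_coprime h hx haA'.2 haZ hy
    exact Nat.Coprime.coprime_dvd_left hoa (Nat.Coprime.pow_left k hyp.symm)
  -- (e) p'-elements of `A` are central in `G`
  have he : ∀ b ∈ cen x, cen x ≤ cen b → (orderOf b).Coprime p → b ∈ Subgroup.center G := by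
    intro b hbM hbA hbp
    by_contra hbZ
    apply hna
    have hall : ∀ m ∈ cen x, cen x ≤ cen m := by
      intro m hm
      obtain ⟨m1, m2, j, hm1, hm2, hmm, hpow, hcop, _⟩ := exists_decomp m p hp
      have hm1M : m1 ∈ cen x := zpowers_le_cen hm hm1
      have hm2M : m2 ∈ cen x := zpowers_le_cen hm hm2
      have h2 : cen x ≤ cen m2 := hb m2 hm2M hcop
      have h1 : cen x ≤ cen m1 := by
        apply cen_le_of_coprime h hx hbA hbZ hm1M
        have : orderOf m1 ∣ p ^ j := orderOf_dvd_of_pow_eq_one hpow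
        exact Nat.Coprime.coprime_dvd_right this (Nat.Coprime.pow_right j hbp)
      rw [hmm]
      exact le_trans (le_inf h1 h2) (cen_inf_le_mul m1 m2)
    intro a' ha' b' hb'
    have := hall b' hb' ha'
    exact mem_cen_iff.1 this
  refine ⟨p, hp, fun m hm => ?_⟩
  obtain ⟨m1, m2, j, hm1, hm2, hmm, hpow, hcop, _⟩ := exists_decomp m p hp
  have hm2M : m2 ∈ cen x := zpowers_le_cen hm hm2
  have hm2Z : m2 ∈ Subgroup.center G := he m2 hm2M (hb m2 hm2M hcop) hcop
  refine ⟨j, ?_⟩
  have hc : Commute m1 m2 := by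
    rw [Subgroup.mem_center_iff] at hm2Z
    exact hm2Z m1
  rw [hmm, hc.mul_pow, hpow, one_mul]
  exact Subgroup.pow_mem _ hm2Z _

end Cfsg.Agent.Lib.Helper65
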