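import Mathlib
import Cfsg.Agent.S0035
import Cfsg.Agent.Lib.Helper65.FrobCrit
import Cfsg.Agent.Lib.Helper65.MaxCent

/-!
# Maximal centralizers: the case of an abelian centralizer (helper65)

If `C_G(x)` is abelian and maximal, then either it is normal (and `G` is metabelian), or
`C_G(x)/Z(G)` is a Frobenius complement in `G/Z(G)`; the preimage `K` of the Frobenius kernel is
abelian, equal to `C_G(k)` for each `k ∈ K ∖ Z(G)`.
-/

set_option autoImplicit false

universe u

namespace Cfsg.Agent.Lib.Helper65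

open Cfsg
open scoped Pointwise

variable {G : Type u} [Group G]

theorem isSolvable_of_abelian_sup (K M : Subgroup G) [K.Normal]
    (hK : ∀ a ∈ K, ∀ b ∈ K, a * b = b * a) (hM : ∀ a ∈ M, ∀ b ∈ M, a * b = b * a)
    (hsup : K ⊔ M = ⊤) : Group.IsSolvable G := by
  have hKs : Group.IsSolvable K :=
    Group.isSolvable_of_comm (fun a b => Subtype.ext (hK a a.2 b b.2))
  have hdec : ∀ g : G, ∃ m ∈ M, (QuotientGroup.mk' K) g = (QuotientGroup.mk' K) m := by
    intro g
    have hg : g ∈ ((K ⊔ M : Subgroup G) : Set G) := by rw [hsup]; exact Set.mem_univ _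
    rw [Subgroup.normal_mul] at hg
    obtain ⟨k, hk, m, hm, rfl⟩ := Set.mem_mul.1 hg
    refine ⟨m, hm, ?_⟩
    rw [map_mul]
    have : (QuotientGroup.mk' K) k = 1 := by
      rw [QuotientGroup.mk'_apply, QuotientGroup.eq_one_iff]; exact hk
    rw [this, one_mul]
  have hQs : Group.IsSolvable (G ⧸ K) := by
    apply Group.isSolvable_of_comm
    intro a b
    obtain ⟨g1, rfl⟩ := QuotientGroup.mk'_surjective K a
    obtain ⟨g2, rfl⟩ := QuotientGroup.mk'_surjective K b
    obtain ⟨m1, hm1, e1⟩ := hdec g1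
    obtain ⟨m2, hm2, e2⟩ := hdec g2
    rw [e1, e2, ← map_mul, ← map_mul, hM m1 hm1 m2 hm2]
  exact Group.isSolvable_of_ker_le_range K.subtype (QuotientGroup.mk' K) (by simp)

theorem isSolvable_of_normal_abelian_cen (h : MaxCent G) (x : G)
    (hx : x ∉ Subgroup.center G) (hab : ∀ a ∈ cen x, ∀ b ∈ cen x, a * b = b * a)
    (hn : (cen x).Normal) : Group.IsSolvable G := by
  have hco := h x hx
  have hne : cen x ≠ ⊤ := hco.1
  obtain ⟨g, hg⟩ : ∃ g : G, g ∉ cen x := by
    by_contra hcon
    simp only [not_exists, not_not] at hcon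
    exact hne (eq_top_iff.2 (fun g _ => hcon g))
  have hsup : cen x ⊔ Subgroup.zpowers g = ⊤ := by
    apply hco.2
    refine lt_of_le_of_ne le_sup_left ?_
    intro he
    apply hg
    rw [he]
    exact (le_sup_right : Subgroup.zpowers g ≤ _) (Subgroup.mem_zpowers g)
  refine isSolvable_of_abelian_sup (cen x) (Subgroup.zpowers g) hab ?_ hsup
  intro a ha b hb
  obtain ⟨i, rfl⟩ := Subgroup.mem_zpowers_iff.1 ha
  obtain ⟨j, rfl⟩ := Subgroup.mem_zpowers_iff.1 hb
  rw [← zpow_add, ← zpow_add, add_comm]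

/-- conjugation stability gives membership in the normalizer (finite case). -/
theorem mem_normalizer_of_conj_le [Finite G] (M : Subgroup G) (g : G)
    (hg : ∀ m ∈ M, g * m * g⁻¹ ∈ M) : g ∈ Subgroup.normalizer (M : Set G) := by
  have hinj : Function.Injective (fun m : M => (⟨g * m * g⁻¹, hg m m.2⟩ : M)) := by
    intro a b hab
    have := congrArg Subtype.val hab
    simp only [mul_left_inj, mul_right_inj] at this
    exact Subtype.ext this
  have hsurj := Finite.surjective_of_injective hinj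
  rw [Subgroup.mem_normalizer_iff]
  intro t
  constructor
  · exact hg t
  · intro ht
    obtain ⟨m, hm⟩ := hsurj ⟨g * t * g⁻¹, ht⟩
    have := congrArg Subtype.val hm
    simp only [mul_left_inj, mul_right_inj] at this
    rw [← this]; exact m.2

/-- The structure in the non-normal abelian case. -/
theorem frob_structure [Finite G] (h : MaxCent G) (x : G)
    (hx : x ∉ Subgroup.center G) (hab : ∀ a ∈ cen x, ∀ b ∈ cen x, a * b = b * a)
    (hn : ¬ (cen x).Normal) :
    ∃ K : Subgroup G, K.Normal ∧ Subgroup.center G ≤ K ∧ (∀ a ∈ K, ∀ b ∈ K, a * b = b * a) ∧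
      K ⊔ cen x = ⊤ ∧ K ⊓ cen x = Subgroup.center G ∧
      (∀ k ∈ K, k ∉ Subgroup.center G → cen k = K) ∧
      (∀ g : G, g ∉ cen x → ∀ u ∈ cen x, g⁻¹ * u * g ∈ cen x → u ∈ Subgroup.center G) := by
  set M := cen x with hM
  set Z := Subgroup.center G with hZ
  have hco := h x hx
  have hZM : Z ≤ M := center_le_cen x
  -- self-normalizing
  have hnorm : Subgroup.normalizer (M : Set G) = M := by
    rcases hco.le_iff.1 (Subgroup.le_normalizer (H := M)) with h1 | h1
    · exact absurd (Subgroup.normalizer_eq_top_iff.1 h1) hn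
    · exact h1
  -- TI modulo the center
  have hTI : ∀ g : G, g ∉ M → ∀ u ∈ M, g⁻¹ * u * g ∈ M → u ∈ Z := by
    intro g hg u hu hgu
    by_contra huZ
    have hMu : M ≤ cen u := by
      intro m hm
      rw [mem_cen_iff]
      exact hab m hm u hu
    have hcu : cen u = M := cen_eq_of_le h hx huZ hMu
    apply hg
    rw [← hnorm]
    apply mem_normalizer_of_conj_le
    intro m hm
    rw [← hcu, mem_cen_iff]
    -- g m g⁻¹ commutes with u since g⁻¹ u g and m commute
    have h1 := hab m hm _ hgu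
    calc g * m * g⁻¹ * u = g * (m * (g⁻¹ * u * g)) * g⁻¹ := by group
      _ = g * ((g⁻¹ * u * g) * m) * g⁻¹ := by rw [h1]
      _ = u * (g * m * g⁻¹) := by group
  -- the quotient
  set π := QuotientGroup.mk' Z with hπ
  have hπ1 : ∀ g : G, π g = 1 ↔ g ∈ Z := by
    intro g
    rw [hπ, QuotientGroup.mk'_apply, QuotientGroup.eq_one_iff]
  have hπeq : ∀ a b : G, π a = π b → a⁻¹ * b ∈ Z := by
    intro a b hab'
    rw [← hπ1, map_mul, map_inv, hab', inv_mul_cancel]
  set Mb : Subgroup (G ⧸ Z) := M.map π with hMb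
  have hMbmem : ∀ g : G, π g ∈ Mb ↔ g ∈ M := by
    intro g
    constructor
    · rintro ⟨m, hm, hmg⟩
      have := hπeq m g hmg
      have h2 : g = m * (m⁻¹ * g) := by group
      rw [h2]
      exact M.mul_mem hm (hZM this)
    · intro hg
      exact ⟨g, hg, rfl⟩
  have hF : IsFrobeniusComplement Mb := by
    refine ⟨?_, ?_, ?_⟩
    · intro hbot
      have : π x ∈ Mb := (hMbmem x).2 (self_mem_cen x)
      rw [hbot, Subgroup.mem_bot, hπ1] at this
      exact hx this
    · intro htop
      apply hco.1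
      rw [eq_top_iff]
      intro g _
      rw [← hMbmem, htop]
      exact Subgroup.mem_top _
    · intro gb hgb
      obtain ⟨g, rfl⟩ := QuotientGroup.mk'_surjective Z gb
      have hg : g ∉ M := fun hg => hgb ((hMbmem g).2 hg)
      rw [eq_bot_iff]
      rintro yb ⟨hy1, hy2⟩
      obtain ⟨y, rfl⟩ := QuotientGroup.mk'_surjective Z yb
      have hy1' : y ∈ M := (hMbmem y).1 hy1
      have hy2' : π g⁻¹ * π y * π g ∈ Mb := by
        have := (mem_conj_smul (π g) (π y) Mb).1 hy2
        rw [map_inv]; exact this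
      rw [← map_mul, ← map_mul, hMbmem] at hy2'
      rw [Subgroup.mem_bot, hπ1]
      exact hTI g hg y hy1' hy2'
  obtain ⟨Kb, hKbset, hKbn, hKbc⟩ := Cfsg.Agent.S0035.result Mb hF
  have hdisj : Kb ⊓ Mb = ⊥ := disjoint_iff.1 hKbc.disjoint
  set K : Subgroup G := Kb.comap π with hK
  have hKmem : ∀ g : G, g ∈ K ↔ π g ∈ Kb := fun g => Iff.rfl
  have hKn : K.Normal := hKbn.comap π
  have hZK : Z ≤ K := by
    intro z hz
    rw [hKmem, (hπ1 z).2 hz]
    exact Subgroup.one_mem _
  have hKtop : K ≠ ⊤ := by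
    intro htop
    have : π x ∈ Kb ⊓ Mb := by
      refine ⟨(hKmem x).1 ?_, (hMbmem x).2 (self_mem_cen x)⟩
      rw [htop]; exact Subgroup.mem_top _
    rw [hdisj, Subgroup.mem_bot, hπ1] at this
    exact hx this
  -- centralizers of non-central elements of K lie in K
  have hcenK : ∀ k ∈ K, k ∉ Z → cen k = K := by
    intro k hk hkZ
    have hle : cen k ≤ K := by
      intro c hc
      rw [hKmem]
      have : π c ∈ (Kb : Set (G ⧸ Z)) := by
        rw [hKbset]
        by_contra hcon
        simp only [frobeniusKernel, Set.mem_ofPred_eq, not_or, not_forall, not_not] at hcon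
        obtain ⟨hc1, tb, htb⟩ := hcon
        obtain ⟨s, rfl⟩ := QuotientGroup.mk'_surjective Z tb
        have h1 := (mem_conj_smul (π s) (π c) Mb).1 htb
        -- c' = s⁻¹ c s, k' = s⁻¹ k s
        have hc' : π (s⁻¹ * c * s) ∈ Mb := by
          rw [map_mul, map_mul, map_inv]; exact h1
        have hk' : π (s⁻¹ * k * s) ∈ Kb := by
          rw [map_mul, map_mul, map_inv]
          have := hKbn.conj_mem (π k) hk (π s)⁻¹
          rw [inv_inv] at this
          exact this
        have hk'Z : s⁻¹ * k * s ∉ Z := by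
          intro hz
          apply hkZ
          have : k = s * (s⁻¹ * k * s) * s⁻¹ := by group
          rw [this]
          exact (inferInstance : (Subgroup.center G).Normal).conj_mem _ hz s
        have hcomm : (s⁻¹ * c * s) * (s⁻¹ * k * s) = (s⁻¹ * k * s) * (s⁻¹ * c * s) := by
          have := mem_cen_iff.1 hc
          calc (s⁻¹ * c * s) * (s⁻¹ * k * s) = s⁻¹ * (c * k) * s := by group
            _ = s⁻¹ * (k * c) * s := by rw [this]
            _ = (s⁻¹ * k * s) * (s⁻¹ * c * s) := by group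
        by_cases hkM : π (s⁻¹ * k * s) ∈ Mb
        · have : π (s⁻¹ * k * s) ∈ Kb ⊓ Mb := ⟨hk', hkM⟩
          rw [hdisj, Subgroup.mem_bot, hπ1] at this
          exact hk'Z this
        · have hinf := hF.2.2 _ hkM
          have : π (s⁻¹ * c * s) ∈ Mb ⊓ MulAut.conj (π (s⁻¹ * k * s)) • Mb := by
            refine ⟨hc', (mem_conj_smul _ _ _).2 ?_⟩
            rw [← map_inv, ← map_mul, ← map_mul]
            have e : (s⁻¹ * k * s)⁻¹ * (s⁻¹ * c * s) * (s⁻¹ * k * s) = s⁻¹ * c * s := by
              rw [mul_assoc, hcomm, ← mul_assoc, inv_mul_cancel, one_mul]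
            rw [e]; exact hc'
          rw [hinf, Subgroup.mem_bot, hπ1] at this
          apply hc1
          rw [hπ1]
          have e : c = s * (s⁻¹ * c * s) * s⁻¹ := by group
          rw [e]
          exact (inferInstance : (Subgroup.center G).Normal).conj_mem _ this s
      exact this
    rcases (h k hkZ).le_iff.1 hle with h1 | h1
    · exact absurd h1 hKtop
    · exact h1.symm
  have hKab : ∀ a ∈ K, ∀ b ∈ K, a * b = b * a := by
    intro a ha b hb
    by_cases haZ : a ∈ Z
    · rw [Subgroup.mem_center_iff] at haZ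
      exact (haZ b).symm
    · have : b ∈ cen a := by rw [hcenK a ha haZ]; exact hb
      exact (mem_cen_iff.1 this).symm
  refine ⟨K, hKn, hZK, hKab, ?_, ?_, hcenK, hTI⟩
  · rw [eq_top_iff]
    intro g _
    obtain ⟨⟨kb, mb⟩, hkm⟩ := hKbc.2 (π g)
    obtain ⟨k, hk⟩ := QuotientGroup.mk'_surjective Z (kb : G ⧸ Z)
    obtain ⟨m, hm⟩ := QuotientGroup.mk'_surjective Z (mb : G ⧸ Z)
    have hkK : k ∈ K := by rw [hKmem]; rw [← hπ] at hk; rw [hk]; exact kb.2
    have hmM : m ∈ M := by rw [← hMbmem]; rw [← hπ] at hm; rw [hm]; exact mb.2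
    have hkm' : π (k * m) = π g := by
      rw [map_mul]; rw [← hπ] at hk hm; rw [hk, hm]; exact hkm
    have hz := hπeq _ _ hkm'
    have e : g = k * (m * ((k * m)⁻¹ * g)) := by group
    rw [e]
    exact Subgroup.mul_mem _ (Subgroup.mem_sup_left hkK)
      (Subgroup.mem_sup_right (M.mul_mem hmM (hZM hz)))
  · apply le_antisymm
    · rintro g ⟨hgK, hgM⟩
      have : π g ∈ Kb ⊓ Mb := ⟨hgK, (hMbmem g).2 hgM⟩
      rw [hdisj, Subgroup.mem_bot, hπ1] at this
      exact this
    · exact le_inf hZK hZM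

theorem isSolvable_of_abelian_cen [Finite G] (h : MaxCent G) (x : G)
    (hx : x ∉ Subgroup.center G) (hab : ∀ a ∈ cen x, ∀ b ∈ cen x, a * b = b * a) :
    Group.IsSolvable G := by
  by_cases hn : (cen x).Normal
  · exact isSolvable_of_normal_abelian_cen h x hx hab hn
  · obtain ⟨K, hKn, _, hKab, hsup, _, _, _⟩ := frob_structure h x hx hab hn
    exact isSolvable_of_abelian_sup K (cen x) hKab hab hsup

end Cfsg.Agent.Lib.Helper65
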