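import Mathlib
import Cfsg.Agent.Lib.Helper65.FrobCrit
import Cfsg.Agent.Lib.Helper65.MaxCent
import Cfsg.Agent.Lib.Helper65.MaxCentFrob

/-!
# Maximal centralizers: the case where all centralizers are non-abelian (helper65)

If all centralizers of non-central elements are maximal and non-abelian, then `G / Z(G)` is a
`p`-group.
-/

set_option autoImplicit false

universe u

namespace Cfsg.Agent.Lib.Helper65

open scoped Pointwise

variable {G : Type u} [Group G]

theorem cen_nilpotent [Finite G] (w : G) (p : ℕ) (hp : p.Prime)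
    (hpow : ∀ m ∈ cen w, ∃ k : ℕ, m ^ (p ^ k) ∈ Subgroup.center G) :
    Group.IsNilpotent ↥(cen w) := by
  have : Fact p.Prime := ⟨hp⟩
  apply Group.of_quotient_center_nilpotent
  have hP : IsPGroup p (↥(cen w) ⧸ Subgroup.center ↥(cen w)) := by
    intro q
    obtain ⟨m, rfl⟩ := QuotientGroup.mk'_surjective _ q
    obtain ⟨k, hk⟩ := hpow m m.2
    refine ⟨k, ?_⟩
    rw [← map_pow, QuotientGroup.mk'_apply, QuotientGroup.eq_one_iff, Subgroup.mem_center_iff]
    intro t
    apply Subtype.ext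
    have := (Subgroup.mem_center_iff.1 hk) t
    simpa using this
  exact hP.isNilpotent

theorem pgroup_of_pow_mem_center [Finite G] (p : ℕ)
    (hpow : ∀ g : G, ∃ k : ℕ, g ^ (p ^ k) ∈ Subgroup.center G) :
    IsPGroup p (G ⧸ Subgroup.center G) := by
  intro q
  obtain ⟨m, rfl⟩ := QuotientGroup.mk'_surjective _ q
  obtain ⟨k, hk⟩ := hpow m
  refine ⟨k, ?_⟩
  rw [← map_pow, QuotientGroup.mk'_apply, QuotientGroup.eq_one_iff]
  exact hk

theorem isNilpotent_of_pow_mem_center [Finite G] (p : ℕ) (hp : p.Prime)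
    (hpow : ∀ g : G, ∃ k : ℕ, g ^ (p ^ k) ∈ Subgroup.center G) : Group.IsNilpotent G := by
  have : Fact p.Prime := ⟨hp⟩
  apply Group.of_quotient_center_nilpotent
  exact (pgroup_of_pow_mem_center p hpow).isNilpotent

/-- Two centralizers that are `p`-groups modulo the center are conjugate, unless `G / Z(G)` is a
`p`-group. -/
theorem cen_conj_of_pgroup [Finite G] (h : MaxCent G) (p : ℕ) (hp : p.Prime) (w1 w2 : G)
    (h1 : w1 ∉ Subgroup.center G) (h2 : w2 ∉ Subgroup.center G)
    (hp1 : ∀ m ∈ cen w1, ∃ k : ℕ, m ^ (p ^ k) ∈ Subgroup.center G)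
    (hp2 : ∀ m ∈ cen w2, ∃ k : ℕ, m ^ (p ^ k) ∈ Subgroup.center G)
    (g₀ : G) (hg₀ : ∀ k : ℕ, g₀ ^ (p ^ k) ∉ Subgroup.center G) :
    ∃ g : G, ∀ t : G, t ∈ cen w2 ↔ g⁻¹ * t * g ∈ cen w1 := by
  have : Fact p.Prime := ⟨hp⟩
  set Z := Subgroup.center G with hZ
  set π := QuotientGroup.mk' Z with hπ
  have hπ1 : ∀ g : G, π g = 1 ↔ g ∈ Z := by
    intro g
    rw [hπ, QuotientGroup.mk'_apply, QuotientGroup.eq_one_iff]
  have key : ∀ w : G, w ∉ Z → (∀ m ∈ cen w, ∃ k : ℕ, m ^ (p ^ k) ∈ Z) →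
      ∃ S : Sylow p (G ⧸ Z), ∀ t : G, t ∈ cen w ↔ π t ∈ S := by
    intro w hw hpw
    have hP : IsPGroup p ↥((cen w).map π) := by
      rintro ⟨q, m, hm, rfl⟩
      obtain ⟨k, hk⟩ := hpw m hm
      refine ⟨k, Subtype.ext ?_⟩
      show (π m) ^ (p ^ k) = 1
      rw [← map_pow, hπ1]; exact hk
    obtain ⟨S, hS⟩ := hP.exists_le_sylow
    refine ⟨S, ?_⟩
    have hle : cen w ≤ (S : Subgroup (G ⧸ Z)).comap π := by
      intro m hm
      exact hS ⟨m, hm, rfl⟩
    rcases (h w hw).le_iff.1 hle with h3 | h3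
    · exfalso
      have : g₀ ∈ (S : Subgroup (G ⧸ Z)).comap π := by rw [h3]; exact Subgroup.mem_top _
      obtain ⟨k, hk⟩ := S.isPGroup' ⟨π g₀, this⟩
      have hk' : (π g₀) ^ (p ^ k) = 1 := by
        have := congrArg Subtype.val hk
        simpa using this
      rw [← map_pow, hπ1] at hk'
      exact hg₀ k hk'
    · intro t
      rw [← h3]
      exact Iff.rfl
  obtain ⟨S1, hS1⟩ := key w1 h1 hp1
  obtain ⟨S2, hS2⟩ := key w2 h2 hp2
  obtain ⟨gb, hgb⟩ := MulAction.exists_smul_eq (G ⧸ Z) S1 S2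
  obtain ⟨g, rfl⟩ := QuotientGroup.mk'_surjective Z gb
  refine ⟨g, fun t => ?_⟩
  have e : π (g⁻¹ * t * g) = (π g)⁻¹ * π t * π g := by
    rw [map_mul, map_mul, map_inv]
  have hgb' : π g • S1 = S2 := hgb
  rw [hS2 t, hS1, e]
  have h3 : (π t ∈ S2) ↔ π t ∈ MulAut.conj (π g) • (S1 : Subgroup (G ⧸ Z)) := by
    rw [← Sylow.coe_subgroup_smul, hgb']; exact Iff.rfl
  rw [h3, mem_conj_smul]; exact Iff.rfl

/-- If all centralizers of non-central elements are maximal and non-abelian, then `G / Z(G)` is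
a `p`-group. -/
theorem pgroup_mod_center_of_all_nonabelian [Finite G] (h : MaxCent G) (x : G)
    (hx : x ∉ Subgroup.center G)
    (hall : ∀ w : G, w ∉ Subgroup.center G → ¬ ∀ a ∈ cen w, ∀ b ∈ cen w, a * b = b * a) :
    ∃ p : ℕ, p.Prime ∧ ∀ g : G, ∃ k : ℕ, g ^ (p ^ k) ∈ Subgroup.center G := by
  set Z := Subgroup.center G with hZ
  set M := cen x with hM
  obtain ⟨p, hp, hpM⟩ := exists_prime_pow_mem_center h hx (hall x hx)
  refine ⟨p, hp, ?_⟩
  by_contra hcon
  simp only [not_forall, not_exists] at hcon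
  obtain ⟨g₀, hg₀⟩ := hcon
  have : Fact p.Prime := ⟨hp⟩
  have hZM : Z ≤ M := center_le_cen x
  -- an element of the second center of `M`
  have hP : IsPGroup p (↥M ⧸ Subgroup.center ↥M) := by
    intro q
    obtain ⟨m, rfl⟩ := QuotientGroup.mk'_surjective _ q
    obtain ⟨k, hk⟩ := hpM m m.2
    refine ⟨k, ?_⟩
    rw [← map_pow, QuotientGroup.mk'_apply, QuotientGroup.eq_one_iff, Subgroup.mem_center_iff]
    intro t
    apply Subtype.ext
    have := (Subgroup.mem_center_iff.1 hk) t
    simpa using this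
  have hnt : Nontrivial (↥M ⧸ Subgroup.center ↥M) := by
    have hna := hall x hx
    simp only [not_forall] at hna
    obtain ⟨a, ha, b, hb, hab⟩ := hna
    refine ⟨⟨QuotientGroup.mk' _ ⟨a, ha⟩, 1, ?_⟩⟩
    rw [Ne, QuotientGroup.mk'_apply, QuotientGroup.eq_one_iff, Subgroup.mem_center_iff]
    intro hcen
    apply hab
    have := congrArg Subtype.val (hcen ⟨b, hb⟩)
    simpa using this.symm
  have hcn := hP.center_nontrivial
  obtain ⟨⟨yb, hyb⟩, hyb1⟩ := exists_ne (1 : Subgroup.center (↥M ⧸ Subgroup.center ↥M))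
  obtain ⟨y', rfl⟩ := QuotientGroup.mk'_surjective _ yb
  have hy'nc : y' ∉ Subgroup.center ↥M := by
    intro hc
    apply hyb1
    apply Subtype.ext
    show (QuotientGroup.mk' (Subgroup.center ↥M)) y' = 1
    rw [QuotientGroup.mk'_apply, QuotientGroup.eq_one_iff]
    exact hc
  have hy'2 : ∀ m : ↥M, y' * m * y'⁻¹ * m⁻¹ ∈ Subgroup.center ↥M := by
    intro m
    rw [← QuotientGroup.eq_one_iff, ← QuotientGroup.mk'_apply, map_mul, map_mul, map_mul,
      map_inv, map_inv]
    rw [Subgroup.mem_center_iff] at hyb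
    rw [← hyb ((QuotientGroup.mk' (Subgroup.center ↥M)) m)]
    group
  -- translate to `G`
  set y : G := (y' : G) with hy
  have hyM : y ∈ M := y'.2
  obtain ⟨m0, hm0M, hm0⟩ : ∃ m0 ∈ M, m0 * y ≠ y * m0 := by
    by_contra hcon
    simp only [not_exists, not_and, not_not] at hcon
    apply hy'nc
    rw [Subgroup.mem_center_iff]
    intro t
    apply Subtype.ext
    exact hcon t t.2
  have hz : ∀ m ∈ M, ∀ m' ∈ M, (y * m * y⁻¹ * m⁻¹) * m' = m' * (y * m * y⁻¹ * m⁻¹) := by
    intro m hm m' hm'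
    have := Subgroup.mem_center_iff.1 (hy'2 ⟨m, hm⟩) ⟨m', hm'⟩
    have := congrArg Subtype.val this
    simpa using this.symm
  have hyZ : y ∉ Z := by
    intro hyZ
    apply hm0
    rw [Subgroup.mem_center_iff] at hyZ
    exact hyZ m0
  set My := cen y with hMy
  have hcoy := h y hyZ
  have hcox := h x hx
  have hMMy : ¬ M ≤ My := by
    intro hle
    exact hm0 (mem_cen_iff.1 (hle hm0M))
  have hMyM : ¬ My ≤ M := by
    intro hle
    rcases hcoy.le_iff.1 hle with h1 | h1
    · exact hcox.1 h1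
    · exact hMMy (le_of_eq h1)
  set D := M ⊓ My with hD
  -- `M` normalizes `D`
  have hMD : ∀ m ∈ M, ∀ d ∈ D, m * d * m⁻¹ ∈ D := by
    intro m hm d hd
    refine ⟨M.mul_mem (M.mul_mem hm hd.1) (M.inv_mem hm), ?_⟩
    show m * d * m⁻¹ ∈ cen y
    rw [mem_cen_iff]
    have hdy : d * y = y * d := mem_cen_iff.1 hd.2
    have hmdM : m * d * m⁻¹ ∈ M := M.mul_mem (M.mul_mem hm hd.1) (M.inv_mem hm)
    have h1 := hz m hm _ hmdM
    have hyd : y * d * y⁻¹ = d := by
      rw [← hdy, mul_inv_cancel_right]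
    have e1 : y * (m * d * m⁻¹) = (y * m * y⁻¹ * m⁻¹) * (m * (y * d * y⁻¹) * m⁻¹) *
        (y * m * y⁻¹ * m⁻¹)⁻¹ * y := by group
    rw [e1, hyd, h1, mul_inv_cancel_right]
  have hMnorm : M ≤ Subgroup.normalizer (D : Set G) := by
    intro m hm
    rw [Subgroup.mem_normalizer_iff]
    intro d
    constructor
    · exact hMD m hm d
    · intro hd
      have := hMD m⁻¹ (M.inv_mem hm) _ hd
      have e : m⁻¹ * (m * d * m⁻¹) * m⁻¹⁻¹ = d := by group
      rw [e] at this
      exact this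
  -- an element of `My ∖ M` normalizing `D`
  obtain ⟨p', hp', hpMy⟩ := exists_prime_pow_mem_center h hyZ (hall y hyZ)
  have hnil : Group.IsNilpotent ↥My := cen_nilpotent y p' hp' hpMy
  have hnc : NormalizerCondition ↥My := Group.normalizerCondition_of_isNilpotent
  have hDlt : D.subgroupOf My < ⊤ := by
    rw [lt_top_iff_ne_top]
    intro htop
    apply hMyM
    intro t ht
    have : (⟨t, ht⟩ : My) ∈ D.subgroupOf My := by rw [htop]; exact Subgroup.mem_top _
    rw [Subgroup.mem_subgroupOf] at this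
    exact this.1
  have hlt := hnc _ hDlt
  obtain ⟨n', hn'N, hn'D⟩ := SetLike.exists_of_lt hlt
  rw [Subgroup.mem_normalizer_iff] at hn'N
  have hnD : (n' : G) ∈ Subgroup.normalizer (D : Set G) := by
    rw [Subgroup.mem_normalizer_iff]
    intro d
    constructor
    · intro hd
      have := (hn'N ⟨d, hd.2⟩).1 (Subgroup.mem_subgroupOf.2 hd)
      rw [Subgroup.mem_subgroupOf] at this
      simpa using this
    · intro hd
      have hdMy : d ∈ My := by
        have h1 : (n' : G) * d * (n' : G)⁻¹ ∈ My := hd.2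
        have e : d = (n' : G)⁻¹ * ((n' : G) * d * (n' : G)⁻¹) * (n' : G) := by group
        rw [e]
        exact My.mul_mem (My.mul_mem (My.inv_mem n'.2) h1) n'.2
      have := (hn'N ⟨d, hdMy⟩).2 (by
        rw [Subgroup.mem_subgroupOf]
        simpa using hd)
      rw [Subgroup.mem_subgroupOf] at this
      exact this
  have hnM : (n' : G) ∉ M := by
    intro hn
    apply hn'D
    rw [Subgroup.mem_subgroupOf]
    exact ⟨hn, n'.2⟩
  have hNtop : Subgroup.normalizer (D : Set G) = ⊤ := by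
    apply hcox.2
    refine lt_of_le_of_ne hMnorm (fun he => hnM ?_)
    have he' : M = Subgroup.normalizer (D : Set G) := he
    rw [he']; exact hnD
  have hDn : ∀ g : G, ∀ d ∈ D, g * d * g⁻¹ ∈ D := by
    intro g d hd
    have : g ∈ Subgroup.normalizer (D : Set G) := by rw [hNtop]; exact Subgroup.mem_top _
    rw [Subgroup.mem_normalizer_iff] at this
    exact (this d).1 hd
  -- the center of `M` lies in `D`
  have hAD : ∀ a ∈ M, M ≤ cen a → a ∈ D := by
    intro a ha hMa
    refine ⟨ha, ?_⟩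
    show a ∈ cen y
    rw [mem_cen_iff]
    exact (mem_cen_iff.1 (hMa hyM)).symm
  -- every element of `M` lies in `D`
  apply hMMy
  intro m hm
  have hmD : m ∈ D := by
    by_cases hmZ : m ∈ Z
    · exact ⟨hZM hmZ, center_le_cen y hmZ⟩
    · obtain ⟨q, hq, hqm⟩ := exists_prime_pow_mem_center h hmZ (hall m hmZ)
      -- q = p
      have hqp : q = p := by
        by_contra hne
        obtain ⟨k1, hk1⟩ := hpM m hm
        obtain ⟨k2, hk2⟩ := hqm m (self_mem_cen m)
        have hcop : (p ^ k1).Coprime (q ^ k2) :=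
          Nat.Coprime.pow k1 k2 ((Nat.coprime_primes hp hq).2 (fun e => hne e.symm))
        exact hmZ (mem_of_pow_mem_of_coprime Z m hcop hk1 hk2)
      rw [hqp] at hqm
      obtain ⟨g, hg⟩ := cen_conj_of_pgroup h p hp x m hx hmZ hpM hqm g₀ hg₀
      have ha : g⁻¹ * m * g ∈ M := (hg m).1 (self_mem_cen m)
      have hMa : M ≤ cen (g⁻¹ * m * g) := by
        intro m' hm'
        rw [mem_cen_iff]
        have ht : g * m' * g⁻¹ ∈ cen m := by
          rw [hg]
          have e : g⁻¹ * (g * m' * g⁻¹) * g = m' := by group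
          rw [e]; exact hm'
        have h1 := mem_cen_iff.1 ht
        calc m' * (g⁻¹ * m * g) = g⁻¹ * ((g * m' * g⁻¹) * m) * g := by group
          _ = g⁻¹ * (m * (g * m' * g⁻¹)) * g := by rw [h1]
          _ = g⁻¹ * m * g * m' := by group
      have := hDn g _ (hAD _ ha hMa)
      have e : g * (g⁻¹ * m * g) * g⁻¹ = m := by group
      rw [e] at this
      exact this
  exact hmD.2

/-- Main theorem: if the centralizer of every non-central element is a maximal subgroup, the
group is solvable. -/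
theorem isSolvable_of_maxCent [Finite G] (h : MaxCent G) : Group.IsSolvable G := by
  by_cases hc : ∀ x : G, x ∈ Subgroup.center G
  · apply Group.isSolvable_of_comm
    intro a b
    have := hc b
    rw [Subgroup.mem_center_iff] at this
    exact this a
  · simp only [not_forall] at hc
    obtain ⟨x, hx⟩ := hc
    by_cases hab : ∃ w : G, w ∉ Subgroup.center G ∧ ∀ a ∈ cen w, ∀ b ∈ cen w, a * b = b * a
    · obtain ⟨w, hw, hwab⟩ := hab
      exact isSolvable_of_abelian_cen h w hw hwab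
    · simp only [not_exists, not_and] at hab
      obtain ⟨p, hp, hpow⟩ := pgroup_mod_center_of_all_nonabelian h x hx hab
      have := isNilpotent_of_pow_mem_center p hp hpow
      infer_instance

end Cfsg.Agent.Lib.Helper65
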