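import Mathlib
import Cfsg.Agent.Lib.Helper65.MaxCent
import Cfsg.Agent.Lib.Helper65.MaxCentFrob
import Cfsg.Agent.Lib.Helper65.MaxCentNonab

/-!
# Maximal centralizers: the structure of `G / Z(G)` (helper65)
-/

set_option autoImplicit false

universe u

namespace Cfsg.Agent.Lib.Helper65

open scoped Pointwise

variable {G : Type u} [Group G]

/-- A normal maximal subgroup has prime index, and the quotient is cyclic. -/
theorem normal_coatom_prime_index [Finite G] (N : Subgroup G) [hn : N.Normal] (hN : IsCoatom N) :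
    ∃ r : ℕ, r.Prime ∧ N.index = r ∧ (∀ g : G, g ^ r ∈ N) ∧
      (∀ a b : G, a * b * a⁻¹ * b⁻¹ ∈ N) := by
  have hsub : ∀ H : Subgroup (G ⧸ N), H = ⊥ ∨ H = ⊤ := by
    intro H
    have hle : N ≤ H.comap (QuotientGroup.mk' N) := by
      intro n hn'
      rw [Subgroup.mem_comap]
      have : (QuotientGroup.mk' N) n = 1 := by
        rw [QuotientGroup.mk'_apply, QuotientGroup.eq_one_iff]; exact hn'
      rw [this]; exact Subgroup.one_mem _
    rcases hN.le_iff.1 hle with h1 | h1
    · right
      rw [eq_top_iff]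
      intro q _
      obtain ⟨g, rfl⟩ := QuotientGroup.mk'_surjective N q
      have : g ∈ H.comap (QuotientGroup.mk' N) := by rw [h1]; exact Subgroup.mem_top _
      exact this
    · left
      rw [eq_bot_iff]
      intro q hq
      obtain ⟨g, rfl⟩ := QuotientGroup.mk'_surjective N q
      have : g ∈ H.comap (QuotientGroup.mk' N) := hq
      rw [h1] at this
      rw [Subgroup.mem_bot, QuotientGroup.mk'_apply, QuotientGroup.eq_one_iff]
      exact this
  have hcard1 : Nat.card (G ⧸ N) ≠ 1 := by
    intro h1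
    apply hN.1
    rw [← Subgroup.index_eq_one]
    exact h1
  obtain ⟨r, hr, hrd⟩ := Nat.exists_prime_and_dvd hcard1
  have : Fact r.Prime := ⟨hr⟩
  obtain ⟨qb, hqb⟩ := exists_prime_orderOf_dvd_card' (G := G ⧸ N) r hrd
  have hz : Subgroup.zpowers qb = ⊤ := by
    rcases hsub (Subgroup.zpowers qb) with h1 | h1
    · exfalso
      have : qb ∈ Subgroup.zpowers qb := Subgroup.mem_zpowers qb
      rw [h1, Subgroup.mem_bot] at this
      rw [this, orderOf_one] at hqb
      exact hr.one_lt.ne hqb
    · exact h1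
  have hcard : Nat.card (G ⧸ N) = r := by
    rw [← Subgroup.card_top (G := G ⧸ N), ← hz, Nat.card_zpowers, hqb]
  refine ⟨r, hr, hcard, ?_, ?_⟩
  · intro g
    have : ((QuotientGroup.mk' N) g) ^ r = 1 := by
      rw [← hcard]; exact pow_card_eq_one'
    rw [← map_pow, QuotientGroup.mk'_apply, QuotientGroup.eq_one_iff] at this
    exact this
  · intro a b
    have hcomm : ∀ u v : G ⧸ N, u * v = v * u := by
      intro u v
      have hu : u ∈ Subgroup.zpowers qb := by rw [hz]; exact Subgroup.mem_top _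
      have hv : v ∈ Subgroup.zpowers qb := by rw [hz]; exact Subgroup.mem_top _
      obtain ⟨i, rfl⟩ := Subgroup.mem_zpowers_iff.1 hu
      obtain ⟨j, rfl⟩ := Subgroup.mem_zpowers_iff.1 hv
      rw [← zpow_add, ← zpow_add, add_comm]
    rw [← QuotientGroup.eq_one_iff, ← QuotientGroup.mk'_apply, map_mul, map_mul, map_mul, map_inv,
      map_inv, hcomm ((QuotientGroup.mk' N) a) ((QuotientGroup.mk' N) b)]
    group

theorem pow_mul_of_central_comm {w g c : G} (hc : c ∈ Subgroup.center G)
    (hwg : w * g = c * g * w) : ∀ k : ℕ, w * g ^ k = c ^ k * g ^ k * w := by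
  intro k
  induction k with
  | zero => simp
  | succ k ih =>
    have hcg : ∀ t : G, t * c = c * t := fun t => (Subgroup.mem_center_iff.1 hc) t
    calc w * g ^ (k + 1) = (w * g ^ k) * g := by rw [pow_succ, mul_assoc]
      _ = c ^ k * g ^ k * (w * g) := by rw [ih, mul_assoc]
      _ = c ^ k * g ^ k * (c * g * w) := by rw [hwg]
      _ = c ^ k * (g ^ k * c) * g * w := by simp only [mul_assoc]
      _ = c ^ k * (c * g ^ k) * g * w := by rw [hcg]
      _ = c ^ (k + 1) * g ^ (k + 1) * w := by rw [pow_succ, pow_succ]; simp only [mul_assoc]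

theorem pow_mul_of_central_comm' {w g c : G} (hc : c ∈ Subgroup.center G)
    (hwg : w * g = c * g * w) : ∀ k : ℕ, w ^ k * g = c ^ k * g * w ^ k := by
  intro k
  induction k with
  | zero => simp
  | succ k ih =>
    have hcg : ∀ t : G, t * c = c * t := fun t => (Subgroup.mem_center_iff.1 hc) t
    have hck : ∀ t : G, t * c ^ k = c ^ k * t := fun t =>
      (Subgroup.mem_center_iff.1 (Subgroup.pow_mem _ hc k)) t
    calc w ^ (k + 1) * g = w * (w ^ k * g) := by rw [pow_succ', mul_assoc]
      _ = w * (c ^ k * g * w ^ k) := by rw [ih]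
      _ = (w * c ^ k) * g * w ^ k := by simp only [mul_assoc]
      _ = c ^ k * (w * g) * w ^ k := by rw [hck]; simp only [mul_assoc]
      _ = c ^ k * (c * g * w) * w ^ k := by rw [hwg]
      _ = c ^ (k + 1) * g * w ^ (k + 1) := by
        rw [pow_succ, pow_succ']; simp only [mul_assoc]

/-- If all centralizers of non-central elements are normal maximal subgroups, then `G / Z(G)` is
elementary abelian. -/
theorem elemAb_of_all_normal [Finite G] (h : MaxCent G) (x : G) (hx : x ∉ Subgroup.center G)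
    (hnorm : ∀ w : G, w ∉ Subgroup.center G → (cen w).Normal) :
    ∃ p : ℕ, p.Prime ∧ (∀ g : G, g ^ p ∈ Subgroup.center G) ∧
      (∀ a b : G, a * b * a⁻¹ * b⁻¹ ∈ Subgroup.center G) := by
  set Z := Subgroup.center G with hZ
  -- commutators are central
  have hcomm : ∀ a b : G, a * b * a⁻¹ * b⁻¹ ∈ Z := by
    intro a b
    rw [Subgroup.mem_center_iff]
    intro g
    by_cases hg : g ∈ Z
    · rw [Subgroup.mem_center_iff] at hg
      exact (hg _).symm
    · have := hnorm g hg
      obtain ⟨r, _, _, _, hc⟩ := normal_coatom_prime_index (cen g) (h g hg)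
      exact (mem_cen_iff.1 (hc a b)).symm
  -- each non-central element has a prime power in the center
  have hprime : ∀ w : G, w ∉ Z → ∃ r : ℕ, r.Prime ∧ w ^ r ∈ Z := by
    intro w hw
    have := hnorm w hw
    obtain ⟨r, hr, _, hpow, _⟩ := normal_coatom_prime_index (cen w) (h w hw)
    refine ⟨r, hr, ?_⟩
    rw [Subgroup.mem_center_iff]
    intro g
    have hc := hcomm w g
    have hwg : w * g = (w * g * w⁻¹ * g⁻¹) * g * w := by group
    have h1 := pow_mul_of_central_comm hc hwg r
    have h2 := pow_mul_of_central_comm' hc hwg r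
    have h3 : g ^ r * w = w * g ^ r := mem_cen_iff.1 (hpow g)
    have h4 : (w * g * w⁻¹ * g⁻¹) ^ r = 1 := by
      rw [← h3] at h1
      have : (w * g * w⁻¹ * g⁻¹) ^ r * (g ^ r * w) = 1 * (g ^ r * w) := by
        rw [one_mul, ← mul_assoc]; exact h1.symm
      exact mul_right_cancel this
    rw [h2, h4, one_mul]
  obtain ⟨p, hp, hxp⟩ := hprime x hx
  refine ⟨p, hp, ?_, hcomm⟩
  -- work in the (commutative) quotient
  set π := QuotientGroup.mk' Z with hπ
  have hπ1 : ∀ g : G, π g = 1 ↔ g ∈ Z := by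
    intro g
    rw [hπ, QuotientGroup.mk'_apply, QuotientGroup.eq_one_iff]
  have hπc : ∀ a b : G, π a * π b = π b * π a := by
    intro a b
    have := (hπ1 _).2 (hcomm a b)
    rw [map_mul, map_mul, map_mul, map_inv, map_inv] at this
    calc π a * π b = (π a * π b * (π a)⁻¹ * (π b)⁻¹) * (π b * π a) := by group
      _ = π b * π a := by rw [this, one_mul]
  intro w
  by_cases hw : w ∈ Z
  · exact Subgroup.pow_mem _ hw _
  obtain ⟨q, hq, hwq⟩ := hprime w hw
  by_cases hqp : q = p
  · rw [← hqp]; exact hwq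
  exfalso
  have hxπ : (π x) ^ p = 1 := by rw [← map_pow, hπ1]; exact hxp
  have hwπ : (π w) ^ q = 1 := by rw [← map_pow, hπ1]; exact hwq
  have hcop : p.Coprime q := (Nat.coprime_primes hp hq).2 (fun e => hqp e.symm)
  by_cases hv : x * w ∈ Z
  · -- then π x = (π w)⁻¹ has order dividing both p and q
    have h1 : π x * π w = 1 := by rw [← map_mul, hπ1]; exact hv
    have h2 : π x = (π w)⁻¹ := eq_inv_of_mul_eq_one_left h1
    have h3 : (π x) ^ q = 1 := by rw [h2, inv_pow, hwπ, inv_one]
    have h4 : x ^ q ∈ Z := by rw [← hπ1, map_pow]; exact h3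
    exact hx (mem_of_pow_mem_of_coprime Z x hcop hxp h4)
  · obtain ⟨s, hs, hvs⟩ := hprime (x * w) hv
    have h1 : (π x) ^ s * (π w) ^ s = 1 := by
      have : (π (x * w)) ^ s = 1 := by rw [← map_pow, hπ1]; exact hvs
      rw [map_mul, (show Commute (π x) (π w) from hπc x w).mul_pow] at this
      exact this
    -- (π x)^(s*q) = 1
    have h2 : (π x) ^ (s * q) = 1 := by
      have : (π x) ^ s = ((π w) ^ s)⁻¹ := eq_inv_of_mul_eq_one_left h1
      rw [pow_mul, this, inv_pow, ← pow_mul, mul_comm, pow_mul, hwπ, one_pow, inv_one]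
    have h3 : (π w) ^ (s * p) = 1 := by
      have : (π w) ^ s = ((π x) ^ s)⁻¹ := eq_inv_of_mul_eq_one_right h1
      rw [pow_mul, this, inv_pow, ← pow_mul, mul_comm, pow_mul, hxπ, one_pow, inv_one]
    have hps : p = s := by
      by_contra hne
      have hc2 : p.Coprime (s * q) :=
        Nat.Coprime.mul_right ((Nat.coprime_primes hp hs).2 hne) hcop
      have h4 : x ^ (s * q) ∈ Z := by rw [← hπ1, map_pow]; exact h2
      exact hx (mem_of_pow_mem_of_coprime Z x hc2 hxp h4)
    have hqs : q = s := by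
      by_contra hne
      have hc2 : q.Coprime (s * p) :=
        Nat.Coprime.mul_right ((Nat.coprime_primes hq hs).2 hne) hcop.symm
      have h4 : w ^ (s * p) ∈ Z := by rw [← hπ1, map_pow]; exact h3
      exact hw (mem_of_pow_mem_of_coprime Z w hc2 hwq h4)
    exact hqp (hqs.trans hps.symm)

/-- If all abelian centralizers are normal then all centralizers of non-central elements are
normal. -/
theorem all_normal_of_abelian_normal [Finite G] (h : MaxCent G)
    (hII : ∀ w : G, w ∉ Subgroup.center G → (∀ a ∈ cen w, ∀ b ∈ cen w, a * b = b * a) →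
      (cen w).Normal) :
    ∀ w : G, w ∉ Subgroup.center G → (cen w).Normal := by
  intro w' hw'
  by_contra hnn
  have hna : ¬ ∀ a ∈ cen w', ∀ b ∈ cen w', a * b = b * a := fun hab => hnn (hII w' hw' hab)
  by_cases hex : ∃ w : G, w ∉ Subgroup.center G ∧ ∀ a ∈ cen w, ∀ b ∈ cen w, a * b = b * a
  · obtain ⟨w, hw, hab⟩ := hex
    have hMn : (cen w).Normal := hII w hw hab
    have hco := h w hw
    by_cases hw'M : w' ∈ cen w
    · -- then cen w ≤ cen w'
      have hle : cen w ≤ cen w' := by
        intro m hm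
        rw [mem_cen_iff]
        exact hab m hm w' hw'M
      rcases hco.le_iff.1 hle with h1 | h1
      · exact hw' (cen_eq_top_iff.1 h1)
      · apply hna
        rw [h1]; exact hab
    · -- G = cen w ⊔ ⟨w'⟩, so cen w' is abelian
      have hsup : cen w ⊔ Subgroup.zpowers w' = ⊤ := by
        apply hco.2
        refine lt_of_le_of_ne le_sup_left ?_
        intro he
        apply hw'M
        rw [he]
        exact (le_sup_right : Subgroup.zpowers w' ≤ _) (Subgroup.mem_zpowers w')
      have hdec : ∀ t ∈ cen w', ∃ m ∈ cen w, ∃ i : ℤ, m ∈ cen w' ∧ t = m * w' ^ i := by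
        intro t ht
        have htt : t ∈ ((cen w ⊔ Subgroup.zpowers w' : Subgroup G) : Set G) := by
          rw [hsup]; exact Set.mem_univ _
        rw [Subgroup.normal_mul] at htt
        obtain ⟨m, hm, z, hz, rfl⟩ := Set.mem_mul.1 htt
        obtain ⟨i, rfl⟩ := Subgroup.mem_zpowers_iff.1 hz
        refine ⟨m, hm, i, ?_, rfl⟩
        have : m = (m * w' ^ i) * (w' ^ i)⁻¹ := by group
        rw [this]
        exact Subgroup.mul_mem _ ht
          (Subgroup.inv_mem _ (Subgroup.zpow_mem _ (self_mem_cen w') i))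
      apply hna
      intro t1 ht1 t2 ht2
      obtain ⟨m1, hm1, i, hm1', rfl⟩ := hdec t1 ht1
      obtain ⟨m2, hm2, j, hm2', rfl⟩ := hdec t2 ht2
      have c1 : Commute m1 w' := mem_cen_iff.1 hm1'
      have c2 : Commute m2 w' := mem_cen_iff.1 hm2'
      have c3 : Commute m1 m2 := hab m1 hm1 m2 hm2
      have c4 : Commute (w' ^ i) m2 := (c2.zpow_right i).symm
      have c5 : Commute (w' ^ j) m1 := (c1.zpow_right j).symm
      have c6 : Commute (w' ^ i) (w' ^ j) := (Commute.refl w').zpow_zpow i j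
      calc m1 * w' ^ i * (m2 * w' ^ j) = m1 * (w' ^ i * m2) * w' ^ j := by simp only [mul_assoc]
        _ = m1 * (m2 * w' ^ i) * w' ^ j := by rw [c4.eq]
        _ = (m1 * m2) * (w' ^ i * w' ^ j) := by simp only [mul_assoc]
        _ = (m2 * m1) * (w' ^ j * w' ^ i) := by rw [c3.eq, c6.eq]
        _ = m2 * (m1 * w' ^ j) * w' ^ i := by simp only [mul_assoc]
        _ = m2 * (w' ^ j * m1) * w' ^ i := by rw [c5.eq]
        _ = m2 * w' ^ j * (m1 * w' ^ i) := by simp only [mul_assoc]
  · simp only [not_exists, not_and] at hex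
    obtain ⟨p, hp, hpow⟩ := pgroup_mod_center_of_all_nonabelian h w' hw' hex
    have hnil := isNilpotent_of_pow_mem_center p hp hpow
    have hnc : NormalizerCondition G := Group.normalizerCondition_of_isNilpotent
    exact hnn (Subgroup.NormalizerCondition.normal_of_coatom _ hnc (h w' hw'))

/-- The second alternative: the structure of `G / Z(G)` when some abelian centralizer is not
normal. -/
theorem frob_alt [Finite G] (h : MaxCent G) (x : G)
    (hx : x ∉ Subgroup.center G) (hab : ∀ a ∈ cen x, ∀ b ∈ cen x, a * b = b * a)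
    (hn : ¬ (cen x).Normal) :
    (¬ IsMulCommutative (G ⧸ Subgroup.center G)) ∧
    (∀ H : Subgroup (G ⧸ Subgroup.center G), H ≠ ⊤ → IsMulCommutative ↥H) ∧
      ∃ p q a : ℕ, p.Prime ∧ q.Prime ∧ p ≠ q ∧
        Nat.card (G ⧸ Subgroup.center G) = p ^ a * q ∧
        ∀ P : Subgroup (G ⧸ Subgroup.center G), Nat.card ↥P = p ^ a → P.Normal := by
  obtain ⟨K, hKn, hZK, hKab, hsup, hinf, hcenK, _⟩ := frob_structure h x hx hab hn
  set M := cen x with hM
  set Z := Subgroup.center G with hZ
  have hcoM := h x hx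
  have hZM : Z ≤ M := center_le_cen x
  set π := QuotientGroup.mk' Z with hπ
  have hπs : Function.Surjective π := QuotientGroup.mk'_surjective Z
  have hπ1 : ∀ g : G, π g = 1 ↔ g ∈ Z := by
    intro g
    rw [hπ, QuotientGroup.mk'_apply, QuotientGroup.eq_one_iff]
  have hker : π.ker = Z := QuotientGroup.ker_mk' Z
  -- F1, F2
  obtain ⟨k0, hk0K, hk0Z⟩ : ∃ k0 ∈ K, k0 ∉ Z := by
    by_contra hcon
    simp only [not_exists, not_and, not_not] at hcon
    apply hcoM.1
    have : K ≤ M := fun k hk => hZM (hcon k hk)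
    rw [← hsup]
    exact (sup_eq_right.2 this).symm
  have hcoK : IsCoatom K := by
    have := h k0 hk0Z
    rw [hcenK k0 hk0K hk0Z] at this
    exact this
  obtain ⟨q, hq, hKidx, hKpow, _⟩ := normal_coatom_prime_index K hcoK
  -- F4
  have hF4 : ∀ L : Subgroup G, L.Normal → Z ≤ L → L ≤ K → L = Z ∨ L = K := by
    intro L hLn hZL hLK
    rcases hcoM.le_iff.1 (le_sup_right : M ≤ L ⊔ M) with h1 | h1
    · right
      apply le_antisymm hLK
      intro k hk
      have hk' : k ∈ ((L ⊔ M : Subgroup G) : Set G) := by rw [h1]; exact Set.mem_univ _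
      rw [Subgroup.normal_mul] at hk'
      obtain ⟨l, hl, m, hm, rfl⟩ := Set.mem_mul.1 hk'
      have hmK : m ∈ K := by
        have : m = l⁻¹ * (l * m) := by group
        rw [this]
        exact K.mul_mem (K.inv_mem (hLK hl)) hk
      have hmZ : m ∈ Z := by
        rw [← hinf]; exact ⟨hmK, hm⟩
      exact L.mul_mem hl (hZL hmZ)
    · left
      apply le_antisymm _ hZL
      intro l hl
      rw [← hinf]
      refine ⟨hLK hl, ?_⟩
      have : l ∈ L ⊔ M := Subgroup.mem_sup_left hl
      rw [h1] at this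
      exact this
  -- F5: the prime p
  set Kb : Subgroup (G ⧸ Z) := K.map π with hKb
  have hKbn : Kb.Normal := hKn.map π hπs
  have hKbnt : Nat.card Kb ≠ 1 := by
    intro h1
    rw [Subgroup.card_eq_one] at h1
    have : π k0 ∈ Kb := ⟨k0, hk0K, rfl⟩
    rw [h1, Subgroup.mem_bot, hπ1] at this
    exact hk0Z this
  obtain ⟨p, hp, hpd⟩ := Nat.exists_prime_and_dvd hKbnt
  have : Fact p.Prime := ⟨hp⟩
  obtain ⟨⟨kb, hkb⟩, hkbo⟩ := exists_prime_orderOf_dvd_card' (G := Kb) p hpd
  have hkb' := hkb
  obtain ⟨k1, hk1K, hk1eq⟩ := hkb'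
  have hk1p : k1 ^ p ∈ Z := by
    rw [← hπ1, map_pow, hk1eq]
    have := pow_orderOf_eq_one (⟨kb, hkb⟩ : Kb)
    rw [hkbo] at this
    have := congrArg Subtype.val this
    simpa using this
  have hk1Z : k1 ∉ Z := by
    intro hz
    have h1 : (⟨kb, hkb⟩ : Kb) = 1 := by
      apply Subtype.ext
      show kb = 1
      rw [← hk1eq, hπ1]; exact hz
    rw [h1, orderOf_one] at hkbo
    exact hp.one_lt.ne hkbo
  -- the subgroup L of elements of K with p-th power in Z
  let L : Subgroup G :=
    { carrier := {k | k ∈ K ∧ k ^ p ∈ Z}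
      mul_mem' := by
        rintro a b ⟨ha, hap⟩ ⟨hb, hbp⟩
        refine ⟨K.mul_mem ha hb, ?_⟩
        rw [(show Commute a b from hKab a ha b hb).mul_pow]
        exact Z.mul_mem hap hbp
      one_mem' := ⟨K.one_mem, by rw [one_pow]; exact Z.one_mem⟩
      inv_mem' := by
        rintro a ⟨ha, hap⟩
        refine ⟨K.inv_mem ha, ?_⟩
        rw [inv_pow]; exact Z.inv_mem hap }
  have hLmem : ∀ k : G, k ∈ L ↔ k ∈ K ∧ k ^ p ∈ Z := fun k => Iff.rfl
  have hLn : L.Normal := by
    refine ⟨fun k hk g => ?_⟩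
    rw [hLmem] at hk ⊢
    refine ⟨hKn.conj_mem k hk.1 g, ?_⟩
    rw [conj_pow]
    exact (inferInstance : (Subgroup.center G).Normal).conj_mem _ hk.2 g
  have hZL : Z ≤ L := fun z hz => (hLmem z).2 ⟨hZK hz, Z.pow_mem hz p⟩
  have hLK : L ≤ K := fun k hk => ((hLmem k).1 hk).1
  have hLeq : L = K := by
    rcases hF4 L hLn hZL hLK with h1 | h1
    · exfalso
      have : k1 ∈ L := (hLmem k1).2 ⟨hk1K, hk1p⟩
      rw [h1] at this
      exact hk1Z this
    · exact h1
  have hKp : ∀ k ∈ K, k ^ p ∈ Z := by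
    intro k hk
    rw [← hLeq] at hk
    exact ((hLmem k).1 hk).2
  -- F6: cardinalities
  have hKbP : IsPGroup p Kb := by
    rintro ⟨kb, k, hk, rfl⟩
    refine ⟨1, Subtype.ext ?_⟩
    show (π k) ^ (p ^ 1) = 1
    rw [pow_one, ← map_pow, hπ1]
    exact hKp k hk
  obtain ⟨a, ha⟩ := IsPGroup.iff_card.1 hKbP
  have hKbidx : Kb.index = q := by
    rw [hKb, Subgroup.index_map_eq K hπs (by rw [hker]; exact hZK), hKidx]
  have hcard : Nat.card (G ⧸ Z) = p ^ a * q := by
    rw [← Kb.card_mul_index, ha, hKbidx]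
  -- F7: p ≠ q
  have hpq : p ≠ q := by
    intro hpq
    apply hn
    have hpow : ∀ g : G, ∃ k : ℕ, g ^ (p ^ k) ∈ Subgroup.center G := by
      intro g
      refine ⟨2, ?_⟩
      have h1 := hKp _ (hKpow g)
      rw [← pow_mul, ← hpq, ← sq] at h1
      exact h1
    have hnil := isNilpotent_of_pow_mem_center p hp hpow
    have hnc : NormalizerCondition G := Group.normalizerCondition_of_isNilpotent
    exact Subgroup.NormalizerCondition.normal_of_coatom _ hnc hcoM
  refine ⟨?_, ?_, p, q, a, hp, hq, hpq, hcard, ?_⟩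
  · -- F9
    intro hcomm
    rw [isMulCommutative_iff] at hcomm
    apply hn
    refine ⟨fun m hm g => ?_⟩
    have h1 : g * m * g⁻¹ * m⁻¹ ∈ Z := by
      rw [← hπ1, map_mul, map_mul, map_mul, map_inv, map_inv, hcomm (π g) (π m)]
      group
    have e : g * m * g⁻¹ = (g * m * g⁻¹ * m⁻¹) * m := by group
    rw [e]
    exact M.mul_mem (hZM h1) hm
  · -- F10
    intro H hH
    set H' : Subgroup G := H.comap π with hH'
    have hH'mem : ∀ g : G, g ∈ H' ↔ π g ∈ H := fun g => Iff.rfl
    have hH'top : H' ≠ ⊤ := by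
      intro htop
      apply hH
      rw [eq_top_iff]
      intro u _
      obtain ⟨g, rfl⟩ := hπs u
      rw [← hH'mem, htop]; exact Subgroup.mem_top _
    have hZH' : Z ≤ H' := by
      intro z hz
      rw [hH'mem, (hπ1 z).2 hz]; exact H.one_mem
    have hH'ab : ∀ u ∈ H', ∀ v ∈ H', u * v = v * u := by
      by_cases hle : H' ≤ K
      · intro u hu v hv
        exact hKab u (hle hu) v (hle hv)
      · obtain ⟨t, htH, htK⟩ := SetLike.not_le_iff_exists.1 hle
        have hKH : K ⊔ H' = ⊤ := by
          apply hcoK.2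
          refine lt_of_le_of_ne le_sup_left ?_
          intro he
          apply hle
          rw [he]; exact le_sup_right
        have hLn' : (H' ⊓ K).Normal := by
          refine ⟨fun l hl g => ?_⟩
          have hg : g ∈ ((K ⊔ H' : Subgroup G) : Set G) := by rw [hKH]; exact Set.mem_univ _
          rw [Subgroup.normal_mul] at hg
          obtain ⟨k, hk, u, hu, rfl⟩ := Set.mem_mul.1 hg
          have h1 : u * l * u⁻¹ ∈ H' ⊓ K :=
            ⟨H'.mul_mem (H'.mul_mem hu hl.1) (H'.inv_mem hu), hKn.conj_mem l hl.2 u⟩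
          have h2 : k * (u * l * u⁻¹) = (u * l * u⁻¹) * k := hKab k hk _ h1.2
          have e : k * u * l * (k * u)⁻¹ = (k * (u * l * u⁻¹)) * k⁻¹ := by group
          rw [e, h2, mul_inv_cancel_right]
          exact h1
        have hHK : H' ⊓ K = Z := by
          rcases hF4 (H' ⊓ K) hLn' (le_inf hZH' hZK) inf_le_right with h1 | h1
          · exact h1
          · exfalso
            have hKH' : K ≤ H' := by rw [← h1]; exact inf_le_left
            rcases hcoK.le_iff.1 hKH' with h2 | h2
            · exact hH'top h2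
            · apply htK; rw [← h2]; exact htH
        have hKt : K ⊔ Subgroup.zpowers t = ⊤ := by
          apply hcoK.2
          refine lt_of_le_of_ne le_sup_left ?_
          intro he
          apply htK
          rw [he]
          exact (le_sup_right : Subgroup.zpowers t ≤ _) (Subgroup.mem_zpowers t)
        have hdec : ∀ u ∈ H', ∃ z ∈ Z, ∃ i : ℤ, u = z * t ^ i := by
          intro u hu
          have hu' : u ∈ ((K ⊔ Subgroup.zpowers t : Subgroup G) : Set G) := by
            rw [hKt]; exact Set.mem_univ _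
          rw [Subgroup.normal_mul] at hu'
          obtain ⟨k, hk, w, hw, rfl⟩ := Set.mem_mul.1 hu'
          obtain ⟨i, rfl⟩ := Subgroup.mem_zpowers_iff.1 hw
          refine ⟨k, ?_, i, rfl⟩
          rw [← hHK]
          refine ⟨?_, hk⟩
          have : k = (k * t ^ i) * (t ^ i)⁻¹ := by group
          rw [this]
          exact H'.mul_mem hu (H'.inv_mem (H'.zpow_mem htH i))
        intro u hu v hv
        obtain ⟨z1, hz1, i, rfl⟩ := hdec u hu
        obtain ⟨z2, hz2, j, rfl⟩ := hdec v hv
        have c1 : ∀ g : G, g * z1 = z1 * g := fun g => (Subgroup.mem_center_iff.1 hz1) g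
        have c2 : ∀ g : G, g * z2 = z2 * g := fun g => (Subgroup.mem_center_iff.1 hz2) g
        have c3 : t ^ i * t ^ j = t ^ j * t ^ i := ((Commute.refl t).zpow_zpow i j).eq
        calc z1 * t ^ i * (z2 * t ^ j) = z1 * (t ^ i * z2) * t ^ j := by simp only [mul_assoc]
          _ = z1 * (z2 * t ^ i) * t ^ j := by rw [c2]
          _ = (z1 * z2) * (t ^ i * t ^ j) := by simp only [mul_assoc]
          _ = (z2 * z1) * (t ^ j * t ^ i) := by rw [c3, c2 z1]
          _ = z2 * (z1 * t ^ j) * t ^ i := by simp only [mul_assoc]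
          _ = z2 * (t ^ j * z1) * t ^ i := by rw [c1]
          _ = z2 * t ^ j * (z1 * t ^ i) := by simp only [mul_assoc]
    rw [isMulCommutative_iff]
    rintro ⟨u, hu⟩ ⟨v, hv⟩
    obtain ⟨u', rfl⟩ := hπs u
    obtain ⟨v', rfl⟩ := hπs v
    apply Subtype.ext
    show π u' * π v' = π v' * π u'
    rw [← map_mul, ← map_mul, hH'ab u' hu v' hv]
  · -- F8
    intro P hP
    have h1 : Kb.relIndex P ∣ q := by
      rw [← hKbidx]; exact Subgroup.relIndex_dvd_index_of_normal Kb P
    have h2 : Kb.relIndex P ∣ p ^ a := by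
      rw [← hP]; exact Subgroup.relIndex_dvd_card Kb P
    have hcop : (p ^ a).Coprime q := Nat.Coprime.pow_left a ((Nat.coprime_primes hp hq).2 hpq)
    have h3 : Kb.relIndex P = 1 := Nat.eq_one_of_dvd_coprimes hcop h2 h1
    have hle : P ≤ Kb := Subgroup.relIndex_eq_one.1 h3
    have heq : P = Kb := Subgroup.eq_of_le_of_card_ge hle (by rw [hP, ha])
    rw [heq]; exact hKbn

end Cfsg.Agent.Lib.Helper65
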