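import Mathlib
import Cfsg.Prelude.Def_Solvable
import Cfsg.Agent.S0035
import Cfsg.Agent.S0042

/-!
# K-OTF (S3999), leaf 399905 SOLV (helper65)

`frob_solvable_iff`: a finite Frobenius group is solvable iff its complement is: the kernel is a
nilpotent normal complement (S0042 + S0035, same carrier), so `L ⧸ K ≃* H`.
-/

set_option autoImplicit false
set_option linter.style.haveILetI false
open Cfsg

namespace Cfsg.Agent.Lib.Helper65.OTF

theorem frob_solvable_iff {L : Type*} [Group L] [Finite L] (H : Subgroup L)
    (hH : Cfsg.IsFrobeniusComplement H) :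
    Group.IsSolvable L ↔ Group.IsSolvable H := by
  obtain ⟨N, hN, hNn, hNnil⟩ := Cfsg.Agent.S0042.result H hH
  obtain ⟨N', hN', hN'n, hc⟩ := Cfsg.Agent.S0035.result H hH
  have hNN' : N' = N := SetLike.coe_injective (hN'.trans hN.symm)
  subst hNN'
  constructor
  · intro hs
    exact Group.isSolvable_of_isSolvable_injective (f := H.subtype) H.subtype_injective
  · intro hs
    haveI : Group.IsSolvable N' := IsNilpotent.to_isSolvable
    have e : L ⧸ N' ≃* H := Subgroup.IsComplement'.QuotientMulEquiv hc.symm
    haveI : Group.IsSolvable (L ⧸ N') :=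
      Group.isSolvable_of_isSolvable_injective (f := e.toMonoidHom) e.injective
    refine Group.isSolvable_of_ker_le_range N'.subtype (QuotientGroup.mk' N') ?_
    rw [QuotientGroup.ker_mk', Subgroup.range_subtype]

end Cfsg.Agent.Lib.Helper65.OTF
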