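import Cfsg.Agent.Lib.Helper99.OTsDefs
import Cfsg.Agent.Lib.Helper50.TypeCriteria
import Cfsg.Agent.Lib.Helper50.MinusLang
import Cfsg.Agent.Lib.Helper50.PlusForm

set_option autoImplicit false
set_option linter.unusedSimpArgs false
set_option linter.unusedSectionVars false
set_option linter.unusedVariables false
set_option maxHeartbeats 1000000

/-!
# K-OTs-O9 (597309): a nondegenerate quadratic space of dimension `2 e` of prescribed type (all characteristics)
-/

namespace Cfsg.Agent.Lib.Helper65.OTs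

open Module Cfsg.Agent.Lib.Helper98.Elus Cfsg.Agent.Lib.Helper98.Sy Cfsg.Agent.Lib.Helper99.OTs

universe u
variable {F : Type u} [Field F]

/-- over a finite field some `X² + X + ζ` has no root -/
theorem exists_irred_param [Finite F] : ∃ ζ : F, ∀ t : F, t ^ 2 + t + ζ ≠ 0 := by
  classical
  have hni : ¬ Function.Injective (fun t : F => t ^ 2 + t) := by
    intro hinj
    have h1 : (fun t : F => t ^ 2 + t) (-1) = (fun t : F => t ^ 2 + t) 0 := by
      simp
    have := hinj h1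
    exact one_ne_zero (neg_eq_zero.mp this)
  have hns : ¬ Function.Surjective (fun t : F => t ^ 2 + t) := by
    intro hs
    exact hni (Finite.injective_iff_surjective.mpr hs)
  rw [Function.Surjective] at hns
  push Not at hns
  obtain ⟨c, hc⟩ := hns
  refine ⟨-c, fun t ht => hc t ?_⟩
  show t ^ 2 + t = c
  linear_combination ht

theorem nonDeg_top_of_nondegenerate {V : Type u} [AddCommGroup V] [Module F V]
    (Q : QuadraticForm F V) (h : (QuadraticMap.polarBilin Q).Nondegenerate) :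
    NonDeg (QuadraticMap.polarBilin Q) ⊤ := by
  intro u _ hu
  exact h.1 u (fun v => hu v Submodule.mem_top)

theorem plusOn_top_QPlus (e : ℕ) : PlusOn (Cfsg.Agent.Lib.Helper50.QPlus e F) ⊤ := by
  obtain ⟨X, hX, hX0⟩ := Cfsg.Agent.Lib.Helper50.exists_totally_singular_of_plusType
    (Cfsg.Agent.Lib.Helper50.QPlus e F) e ⟨LinearEquiv.refl F _, fun v => rfl⟩
  refine ⟨X, le_top, hX0, ?_⟩
  rw [hX, finrank_top, Module.finrank_pi, Fintype.card_sum, Fintype.card_fin]
  ring

theorem not_plusOn_top_QMinus [Fintype F] (m : ℕ) (ζ : F) (hζ : ∀ t : F, t ^ 2 + t + ζ ≠ 0) :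
    ¬ PlusOn (Cfsg.Agent.Lib.Helper50.QMinus m F 1 ζ) ⊤ := by
  rintro ⟨Z, _, hZ, hZd⟩
  have hnd := Cfsg.Agent.Lib.Helper50.QMinus_nondeg_of_anis m (1 : F) ζ
    (Cfsg.Agent.Lib.Helper50.anis_of_irred ζ hζ)
  have hfin : finrank F ((Fin m ⊕ Fin m) ⊕ Fin 2 → F) = 2 * (m + 1) := by
    rw [Module.finrank_pi, Fintype.card_sum, Fintype.card_sum, Fintype.card_fin, Fintype.card_fin]
    ring
  rw [finrank_top, hfin] at hZd
  have hp := Cfsg.Agent.Lib.Helper50.plusType_of_totally_singular (m + 1)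
    (Cfsg.Agent.Lib.Helper50.QMinus m F 1 ζ)
    (Cfsg.Agent.Lib.Helper50.QND_of_nondegenerate _ hnd) hfin Z (by omega) hZ
  exact Cfsg.Agent.Lib.Helper50.not_plus_and_minus (Cfsg.Agent.Lib.Helper50.QMinus m F 1 ζ) m ζ hζ hp
    ⟨LinearEquiv.refl F _, fun v => rfl⟩

/-- O9 (597309) -/
theorem exists_fixed_part [Fintype F] (e : ℕ) (τ : Prop) (hτ : ¬ τ → 1 ≤ e) :
    ∃ (V : Type u) (_ : AddCommGroup V) (_ : Module F V) (_ : FiniteDimensional F V)
      (Q : QuadraticForm F V),
      NonDeg (QuadraticMap.polarBilin Q) ⊤ ∧ finrank F V = 2 * e ∧ (PlusOn Q ⊤ ↔ τ) := by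
  classical
  by_cases h : τ
  · refine ⟨(Fin e ⊕ Fin e → F), inferInstance, inferInstance, inferInstance,
      Cfsg.Agent.Lib.Helper50.QPlus e F, ?_, ?_, ?_⟩
    · exact nonDeg_top_of_nondegenerate _ Cfsg.Agent.Lib.Helper50.QPlus_nondegenerate
    · rw [Module.finrank_pi, Fintype.card_sum, Fintype.card_fin]
      ring
    · exact ⟨fun _ => h, fun _ => plusOn_top_QPlus e⟩
  · have he := hτ h
    obtain ⟨ζ, hζ⟩ := exists_irred_param (F := F)
    refine ⟨((Fin (e - 1) ⊕ Fin (e - 1)) ⊕ Fin 2 → F), inferInstance, inferInstance, inferInstance,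
      Cfsg.Agent.Lib.Helper50.QMinus (e - 1) F 1 ζ, ?_, ?_, ?_⟩
    · exact nonDeg_top_of_nondegenerate _ (Cfsg.Agent.Lib.Helper50.QMinus_nondeg_of_anis (e - 1) (1 : F) ζ
        (Cfsg.Agent.Lib.Helper50.anis_of_irred ζ hζ))
    · rw [Module.finrank_pi, Fintype.card_sum, Fintype.card_sum, Fintype.card_fin, Fintype.card_fin]
      omega
    · exact ⟨fun hp => absurd hp (not_plusOn_top_QMinus (e - 1) ζ hζ), fun ht => absurd ht h⟩

end Cfsg.Agent.Lib.Helper65.OTs
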