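import Mathlib
import Cfsg.Agent.Lib.Helper65.MaxCent
import Cfsg.Agent.Lib.Helper65.Frattini
import Cfsg.Agent.Lib.Helper65.MaxCentStruct
import Cfsg.Agent.Lib.Helper65.FrobCrit

/-!
# Elements outside a normal subgroup with prime power order and maximal centralizer

(helper65) If `N` is a proper normal subgroup of the finite group `G` such that every element
outside `N` has prime power order and a maximal centralizer, then `G` is solvable or `N` is a
`p`-group; in any case `N` is solvable.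
-/

set_option autoImplicit false

universe u

namespace Cfsg.Agent.Lib.Helper65

variable {G : Type u} [Group G]

/-- the hypothesis: outside `N`, elements have prime power order and maximal centralizers -/
def OutsideMax (N : Subgroup G) : Prop :=
  ∀ x : G, x ∉ N → IsPrimePow (orderOf x) ∧ IsCoatom (cen x)

theorem om_orderOf_eq [Finite G] {x : G} {p k : ℕ} (hp : p.Prime) (hx1 : x ≠ 1)
    (hxo : x ^ (p ^ k) = 1) : ∃ i, 0 < i ∧ orderOf x = p ^ i := by
  obtain ⟨i, _, hi⟩ := (Nat.dvd_prime_pow hp).1 (orderOf_dvd_of_pow_eq_one hxo)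
  refine ⟨i, ?_, hi⟩
  rcases Nat.eq_zero_or_pos i with h0 | h0
  · rw [h0, pow_zero, orderOf_eq_one_iff] at hi
    exact absurd hi hx1
  · exact h0

/-- key trick: a `p'`-element `b` commuting with the `p`-element `x ∉ N`, with `x * b ∉ N`,
is trivial. -/
theorem om_aux [Finite G] (N : Subgroup G) (h : OutsideMax N) {x : G} (hx : x ∉ N) {p k : ℕ}
    (hp : p.Prime) (hxo : x ^ (p ^ k) = 1) {b : G} (hbx : b * x = x * b)
    (hcop : (orderOf b).Coprime p) (hxb : x * b ∉ N) : b = 1 := by
  have hx1 : x ≠ 1 := fun h1 => hx (h1 ▸ N.one_mem)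
  obtain ⟨i, hi, hxi⟩ := om_orderOf_eq hp hx1 hxo
  have hc : Commute x b := hbx.symm
  have hcop' : (orderOf x).Coprime (orderOf b) := by
    rw [hxi]
    exact (Nat.Coprime.pow_left i hcop.symm)
  have hord : orderOf (x * b) = p ^ i * orderOf b := by
    rw [hc.orderOf_mul_eq_mul_orderOf_of_coprime hcop', hxi]
  obtain ⟨l, m, hl, hm, hlm⟩ := (h (x * b) hxb).1
  have hl' : l.Prime := hl.nat_prime
  rw [hord] at hlm
  have hpl : p ∣ l ^ m := by
    rw [hlm]
    exact Dvd.dvd.mul_right (dvd_pow_self p hi.ne') _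
  have hpl' : p = l := (Nat.prime_dvd_prime_iff_eq hp hl').1 (hp.dvd_of_dvd_pow hpl)
  have hb : orderOf b ∣ p ^ m := by
    rw [hpl', hlm]
    exact Dvd.intro_left _ rfl
  have hb1 : orderOf b = 1 :=
    Nat.Coprime.eq_one_of_dvd (Nat.Coprime.pow_right m hcop) hb
  exact orderOf_eq_one_iff.1 hb1

theorem om_pelem_N [Finite G] (N : Subgroup G) (h : OutsideMax N) {x : G} (hx : x ∉ N)
    {p k : ℕ} (hp : p.Prime) (hxo : x ^ (p ^ k) = 1) {n : G} (hnN : n ∈ N)
    (hnx : n * x = x * n) : ∃ j, n ^ (p ^ j) = 1 := by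
  obtain ⟨a, b, j, ha, hb, hn, haj, hbcop, _⟩ := exists_decomp n p hp
  have hbN : b ∈ N := (Subgroup.zpowers_le.2 hnN) hb
  have hbx : b ∈ cen x := (zpowers_le_cen (mem_cen_iff.2 hnx)) hb
  have hxb : x * b ∉ N := by
    intro hmem
    apply hx
    have := N.mul_mem hmem (N.inv_mem hbN)
    rwa [mul_inv_cancel_right] at this
  have hb1 : b = 1 := om_aux N h hx hp hxo (mem_cen_iff.1 hbx) hbcop hxb
  refine ⟨j, ?_⟩
  rw [hn, hb1, mul_one]
  exact haj

theorem om_pelem_cen [Finite G] (N : Subgroup G) (h : OutsideMax N) {x : G} (hx : x ∉ N)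
    {p k : ℕ} (hp : p.Prime) (hxo : x ^ (p ^ k) = 1) {y : G} (hyx : y ∈ cen x) :
    ∃ j, y ^ (p ^ j) = 1 := by
  obtain ⟨a, b, j, ha, hb, hn, haj, hbcop, _⟩ := exists_decomp y p hp
  have hbx : b ∈ cen x := (zpowers_le_cen hyx) hb
  have hbx' : b * x = x * b := mem_cen_iff.1 hbx
  have hb1 : b = 1 := by
    by_cases hxb : x * b ∈ N
    · have hcomm : (x * b) * x = x * (x * b) := by
        rw [mul_assoc, hbx']
      obtain ⟨j', hj'⟩ := om_pelem_N N h hx hp hxo hxb hcomm
      have hc : Commute x b := hbx'.symm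
      have h1 : (x * b) ^ (p ^ (j' + k)) = 1 := by
        rw [pow_add, pow_mul, hj', one_pow]
      have h2 : x ^ (p ^ (j' + k)) = 1 := by
        rw [pow_add, mul_comm, pow_mul, hxo, one_pow]
      rw [hc.mul_pow, h2, one_mul] at h1
      have hd : orderOf b ∣ p ^ (j' + k) := orderOf_dvd_of_pow_eq_one h1
      have hb1 : orderOf b = 1 :=
        Nat.Coprime.eq_one_of_dvd (Nat.Coprime.pow_right _ hbcop) hd
      exact orderOf_eq_one_iff.1 hb1
    · exact om_aux N h hx hp hxo hbx' hbcop hxb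
  refine ⟨j, ?_⟩
  rw [hn, hb1, mul_one]
  exact haj

theorem om_isPGroup_cen [Finite G] (N : Subgroup G) (h : OutsideMax N) {x : G} (hx : x ∉ N)
    {p k : ℕ} (hp : p.Prime) (hxo : x ^ (p ^ k) = 1) : IsPGroup p (cen x) := by
  intro g
  obtain ⟨j, hj⟩ := om_pelem_cen N h hx hp hxo g.2
  exact ⟨j, Subtype.ext (by simpa using hj)⟩

/-- counting lemma: if the centralizers of the elements outside `N` are conjugates of `S`
and `G = S N`, then the elements of `S` outside `N` are central in `S`. -/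
theorem om_central_of_conj [Finite G] (N S : Subgroup G) [N.Normal] (hsup : S ⊔ N = ⊤)
    (hconj : ∀ w : G, w ∉ N → ∃ g : G, ∀ k, k ∈ cen w ↔ g⁻¹ * k * g ∈ S) :
    ∀ y ∈ S, y ∉ N → ∀ s ∈ S, s * y = y * s := by
  classical
  let D : Subgroup S := N.subgroupOf S
  let Y : Set S := (D : Set S)ᶜ
  let T : Set S := {s | (s : G) ∉ N ∧ ∀ t : S, t * s = s * t}
  let X : Set G := (N : Set G)ᶜ
  have hTY : T ⊆ Y := by
    intro s hs
    show s ∉ (D : Set S)
    intro hsD
    exact hs.1 (Subgroup.mem_subgroupOf.1 hsD)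
  have h1 : (N : Set G).ncard + X.ncard = Nat.card G := Set.ncard_add_ncard_compl _
  have h2 : (D : Set S).ncard + Y.ncard = Nat.card S := Set.ncard_add_ncard_compl _
  have h1' : (N : Set G).ncard = Nat.card N := (Nat.card_coe_set_eq _).symm
  have h2' : (D : Set S).ncard = Nat.card D := (Nat.card_coe_set_eq _).symm
  have h3 : Nat.card D * N.index = Nat.card S := by
    have := Subgroup.card_mul_index D
    rwa [show D.index = N.relIndex S from rfl, relIndex_eq_index_of_sup_eq_top S N hsup] at this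
  have h4 : Nat.card N * N.index = Nat.card G := Subgroup.card_mul_index N
  have h5 : Nat.card S * S.index = Nat.card G := Subgroup.card_mul_index S
  let φ : (G ⧸ S) × S → G := fun z => z.1.out * (z.2 : G) * (z.1.out)⁻¹
  have hX : X ⊆ φ '' (Set.univ ×ˢ T) := by
    intro w hw
    have hwN : w ∉ N := hw
    obtain ⟨g, hg⟩ := hconj w hwN
    obtain ⟨h, hh⟩ := QuotientGroup.mk_out_eq_mul S g
    have hr' : ∀ k, k ∈ cen w ↔
        ((QuotientGroup.mk g : G ⧸ S).out)⁻¹ * k * (QuotientGroup.mk g : G ⧸ S).out ∈ S := by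
      intro k
      rw [hg k, hh]
      have : (g * (h : G))⁻¹ * k * (g * h) = (h : G)⁻¹ * (g⁻¹ * k * g) * h := by group
      rw [this]
      constructor
      · intro hk
        exact S.mul_mem (S.mul_mem (S.inv_mem h.2) hk) h.2
      · intro hk
        have := S.mul_mem (S.mul_mem h.2 hk) (S.inv_mem h.2)
        convert this using 1
        group
    obtain ⟨r, hr⟩ : ∃ r : G, r = (QuotientGroup.mk g : G ⧸ S).out := ⟨_, rfl⟩
    rw [← hr] at hr'
    have huS : r⁻¹ * w * r ∈ S := (hr' w).1 (self_mem_cen w)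
    have huN : r⁻¹ * w * r ∉ N := by
      intro hmem
      apply hwN
      have := (inferInstance : N.Normal).conj_mem _ hmem r
      convert this using 1
      group
    have hucomm : ∀ t : S, t * ⟨r⁻¹ * w * r, huS⟩ = ⟨r⁻¹ * w * r, huS⟩ * t := by
      intro t
      apply Subtype.ext
      have hk : r * (t : G) * r⁻¹ ∈ cen w := by
        rw [hr']
        convert t.2 using 1
        group
      have hk' := mem_cen_iff.1 hk
      show (t : G) * (r⁻¹ * w * r) = (r⁻¹ * w * r) * t
      calc (t : G) * (r⁻¹ * w * r) = r⁻¹ * (r * t * r⁻¹ * w) * r := by group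
        _ = r⁻¹ * (w * (r * t * r⁻¹)) * r := by rw [hk']
        _ = (r⁻¹ * w * r) * t := by group
    refine ⟨(QuotientGroup.mk g, ⟨r⁻¹ * w * r, huS⟩), ⟨Set.mem_univ _, huN, hucomm⟩, ?_⟩
    show (QuotientGroup.mk g : G ⧸ S).out * (r⁻¹ * w * r) * ((QuotientGroup.mk g : G ⧸ S).out)⁻¹ = w
    rw [← hr]
    group
  have h6 : X.ncard ≤ S.index * T.ncard := by
    calc X.ncard ≤ (φ '' (Set.univ ×ˢ T)).ncard := Set.ncard_le_ncard hX
      _ ≤ (Set.univ ×ˢ T : Set ((G ⧸ S) × S)).ncard := Set.ncard_image_le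
      _ = (Set.univ : Set (G ⧸ S)).ncard * T.ncard := Set.ncard_prod
      _ = S.index * T.ncard := by rw [Set.ncard_univ, Subgroup.index_eq_card]
  have hN : Nat.card N = Nat.card D * S.index := by
    have hpos : 0 < N.index := Nat.pos_of_ne_zero Subgroup.index_ne_zero_of_finite
    apply Nat.eq_of_mul_eq_mul_right hpos
    calc Nat.card N * N.index = Nat.card G := h4
      _ = Nat.card S * S.index := h5.symm
      _ = Nat.card D * N.index * S.index := by rw [h3]
      _ = Nat.card D * S.index * N.index := by ring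
  have hXY : X.ncard = Y.ncard * S.index := by
    have e1 : Nat.card N + X.ncard = (Nat.card D + Y.ncard) * S.index := by
      rw [← h1', h1, ← h2', h2, h5]
    rw [hN, add_mul] at e1
    exact Nat.add_left_cancel e1
  have hle : Y.ncard * S.index ≤ S.index * T.ncard := hXY ▸ h6
  have hYT : Y.ncard ≤ T.ncard := by
    have hpos : 0 < S.index := Nat.pos_of_ne_zero Subgroup.index_ne_zero_of_finite
    rw [mul_comm] at hle
    exact Nat.le_of_mul_le_mul_left hle hpos
  have hTeq : T = Y := Set.eq_of_subset_of_ncard_le hTY hYT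
  intro y hyS hyN s hs
  have hmem : (⟨y, hyS⟩ : S) ∈ Y := by
    show (⟨y, hyS⟩ : S) ∉ (D : Set S)
    intro hD
    exact hyN (Subgroup.mem_subgroupOf.1 hD)
  rw [← hTeq] at hmem
  have := hmem.2 ⟨s, hs⟩
  exact congrArg Subtype.val this

theorem index_dvd_card_of_sup_eq_top [Finite G] (M K : Subgroup G) [K.Normal]
    (h : M ⊔ K = ⊤) : M.index ∣ Nat.card K := by
  have h1 : K.relIndex M = K.index := relIndex_eq_index_of_sup_eq_top M K h
  have h2 : Nat.card K * K.index = Nat.card G := Subgroup.card_mul_index K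
  have h3 : Nat.card M * M.index = Nat.card G := Subgroup.card_mul_index M
  have h4 : Nat.card (K.subgroupOf M) * K.index = Nat.card M := by
    have := Subgroup.card_mul_index (K.subgroupOf M)
    rwa [show (K.subgroupOf M).index = K.relIndex M from rfl, h1] at this
  have hpos : 0 < K.index := Nat.pos_of_ne_zero Subgroup.index_ne_zero_of_finite
  refine ⟨Nat.card (K.subgroupOf M), ?_⟩
  apply Nat.eq_of_mul_eq_mul_right hpos
  calc Nat.card K * K.index = Nat.card G := h2
    _ = Nat.card M * M.index := h3.symm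
    _ = Nat.card (K.subgroupOf M) * K.index * M.index := by rw [h4]
    _ = M.index * Nat.card (K.subgroupOf M) * K.index := by ring

open scoped Pointwise in
/-- A normal complement `K` (of order prime to `p`) of a maximal subgroup `S` which is a `p`-group
is solvable (indeed a `q`-group). -/
theorem om_complement_solvable [Finite G] {p : ℕ} [hpf : Fact p.Prime] (S K : Subgroup G)
    [hKn : K.Normal] (hS : IsPGroup p S) (hco : IsCoatom S) (hKS : K.IsComplement' S)
    (hpK : ¬ p ∣ Nat.card K) : Group.IsSolvable K := by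
  by_cases hK1 : Nat.card K = 1
  · have : Subsingleton K := (Nat.card_eq_one_iff_unique.1 hK1).1
    infer_instance
  obtain ⟨q, hq, hqK⟩ := Nat.exists_prime_and_dvd hK1
  have : Fact q.Prime := ⟨hq⟩
  obtain ⟨Q⟩ : Nonempty (Sylow q K) := inferInstance
  have hQbot : (Q : Subgroup K) ≠ ⊥ := Q.ne_bot_of_dvd_card hqK
  have hM : Subgroup.normalizer (((Q : Subgroup K).map K.subtype : Subgroup G) : Set G) ⊔ K = ⊤ :=
    Sylow.normalizer_sup_eq_top Q
  obtain ⟨Q', hQ'⟩ : ∃ Q' : Subgroup G, Q' = (Q : Subgroup K).map K.subtype := ⟨_, rfl⟩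
  rw [← hQ'] at hM
  have hQ'K : Q' ≤ K := by
    rw [hQ']
    rintro x ⟨y, _, rfl⟩
    exact y.2
  have hQ'q : ∀ x ∈ Q', ∃ j, x ^ (q ^ j) = 1 := by
    intro x hx
    rw [hQ'] at hx
    obtain ⟨y, hy, rfl⟩ := hx
    obtain ⟨j, hj⟩ := Q.isPGroup' ⟨y, hy⟩
    refine ⟨j, ?_⟩
    have := congrArg (fun z : (Q : Subgroup K) => ((z : K) : G)) hj
    simpa using this
  have hQ'bot : Q' ≠ ⊥ := by
    intro hb
    apply hQbot
    rw [Subgroup.eq_bot_iff_forall]
    intro y hy
    have : (y : G) ∈ Q' := by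
      rw [hQ']
      exact ⟨y, hy, rfl⟩
    rw [hb, Subgroup.mem_bot] at this
    exact Subtype.ext this
  obtain ⟨M, hMdef⟩ : ∃ M : Subgroup G, M = Subgroup.normalizer (Q' : Set G) := ⟨_, rfl⟩
  rw [← hMdef] at hM
  have hMidx : ¬ p ∣ M.index := fun hd =>
    hpK (hd.trans (index_dvd_card_of_sup_eq_top M K hM))
  have hMidx' : ¬ p ∣ Nat.card (G ⧸ M) := by
    rwa [← Subgroup.index_eq_card]
  obtain ⟨c, hc⟩ := hS.nonempty_fixed_point_of_prime_not_dvd_card (G ⧸ M) hMidx'
  obtain ⟨g, rfl⟩ := QuotientGroup.mk_surjective c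
  rw [MulAction.mem_fixedPoints] at hc
  have hgM : ∀ s ∈ S, g⁻¹ * s * g ∈ M := by
    intro s hs
    have h1 : (QuotientGroup.mk (s⁻¹ * g) : G ⧸ M) = QuotientGroup.mk g := hc ⟨s⁻¹, S.inv_mem hs⟩
    rw [QuotientGroup.eq] at h1
    convert h1 using 1
    simp [mul_assoc]
  -- the conjugate `g Q' g⁻¹`, normalized by `S`
  have hnorm : ∀ m ∈ M, ∀ x ∈ Q', m * x * m⁻¹ ∈ Q' := by
    intro m hm x hx
    rw [hMdef] at hm
    exact ((Subgroup.mem_normalizer_iff.1 hm) x).1 hx
  have hQ2K : MulAut.conj g • Q' ≤ K := by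
    intro x hx
    rw [mem_conj_smul] at hx
    have := hKn.conj_mem _ (hQ'K hx) g
    convert this using 1
    group
  have hQ2q : ∀ x ∈ MulAut.conj g • Q', ∃ j, x ^ (q ^ j) = 1 := by
    intro x hx
    rw [mem_conj_smul] at hx
    obtain ⟨j, hj⟩ := hQ'q _ hx
    refine ⟨j, ?_⟩
    have h2 : (g⁻¹ * x * g) ^ (q ^ j) = g⁻¹ * x ^ (q ^ j) * g := by
      have := conj_pow (a := g⁻¹) (b := x) (i := q ^ j)
      rw [inv_inv] at this
      exact this
    rw [h2] at hj
    have : x ^ (q ^ j) = g * (g⁻¹ * x ^ (q ^ j) * g) * g⁻¹ := by group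
    rw [this, hj]
    group
  have hQ2bot : MulAut.conj g • Q' ≠ ⊥ := by
    intro hb
    apply hQ'bot
    rw [Subgroup.eq_bot_iff_forall]
    intro y hy
    have : g * y * g⁻¹ ∈ MulAut.conj g • Q' := by
      rw [mem_conj_smul]
      convert hy using 1
      group
    rw [hb, Subgroup.mem_bot] at this
    have h3 : y = g⁻¹ * (g * y * g⁻¹) * g := by group
    rw [h3, this]
    group
  have hSnorm : ∀ s ∈ S, ∀ x ∈ MulAut.conj g • Q', s * x * s⁻¹ ∈ MulAut.conj g • Q' := by
    intro s hs x hx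
    rw [mem_conj_smul] at hx ⊢
    have := hnorm _ (hgM s hs) _ hx
    convert this using 1
    group
  have hSle : S ≤ Subgroup.normalizer ((MulAut.conj g • Q' : Subgroup G) : Set G) :=
    Subgroup.le_normalizer_iff.2 hSnorm
  have hdisj : K ⊓ S = ⊥ := hKS.disjoint.eq_bot
  rcases hco.le_iff.1 (le_sup_right : S ≤ MulAut.conj g • Q' ⊔ S) with htop | hS'
  · have hNtop : Subgroup.normalizer ((MulAut.conj g • Q' : Subgroup G) : Set G) = ⊤ := by
      rw [eq_top_iff, ← htop]
      exact sup_le Subgroup.le_normalizer hSle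
    have hQn : (MulAut.conj g • Q').Normal := Subgroup.normalizer_eq_top_iff.1 hNtop
    have hKle : K ≤ MulAut.conj g • Q' := by
      intro k hk
      have hk' : k ∈ ((MulAut.conj g • Q' ⊔ S : Subgroup G) : Set G) := by
        rw [htop]; exact Set.mem_univ _
      rw [Subgroup.normal_mul] at hk'
      obtain ⟨a, ha, s, hs, rfl⟩ := Set.mem_mul.1 hk'
      have hsK : s ∈ K := by
        have := K.mul_mem (K.inv_mem (hQ2K ha)) hk
        rwa [inv_mul_cancel_left] at this
      have hs1 : s ∈ K ⊓ S := ⟨hsK, hs⟩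
      rw [hdisj, Subgroup.mem_bot] at hs1
      rw [hs1, mul_one]
      exact ha
    have hKq : IsPGroup q K := by
      intro k
      obtain ⟨j, hj⟩ := hQ2q _ (hKle k.2)
      exact ⟨j, Subtype.ext (by simpa using hj)⟩
    exact isSolvable_of_isPGroup hq hKq
  · exfalso
    apply hQ2bot
    have hle : MulAut.conj g • Q' ≤ K ⊓ S := le_inf hQ2K (hS' ▸ le_sup_left)
    rw [hdisj] at hle
    exact le_bot_iff.1 hle

/-- a group with a solvable normal subgroup and solvable quotient is solvable -/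
theorem isSolvable_of_normal_quotient (K : Subgroup G) [K.Normal] (h1 : Group.IsSolvable K)
    (h2 : Group.IsSolvable (G ⧸ K)) : Group.IsSolvable G :=
  Group.isSolvable_of_ker_le_range K.subtype (QuotientGroup.mk' K) (by simp)

/-- **Main theorem**: if every element outside the proper normal subgroup `N` has prime power
order and a maximal centralizer, then `N` is solvable. -/
theorem om_solvable [Finite G] (N : Subgroup G) [hNn : N.Normal] (hN : N ≠ ⊤)
    (h : OutsideMax N) : Group.IsSolvable N := by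
  classical
  obtain ⟨x₀, hx₀⟩ : ∃ x, x ∉ N := by
    by_contra hcon
    simp only [not_exists, not_not] at hcon
    exact hN ((Subgroup.eq_top_iff' N).2 hcon)
  obtain ⟨p, k, hp0, hk, hpk⟩ := (h x₀ hx₀).1
  have hp : p.Prime := hp0.nat_prime
  have : Fact p.Prime := ⟨hp⟩
  have hx₀o : x₀ ^ (p ^ k) = 1 := by rw [hpk]; exact pow_orderOf_eq_one x₀
  have hC₀ : IsPGroup p (cen x₀) := om_isPGroup_cen N h hx₀ hp hx₀o
  have hco : IsCoatom (cen x₀) := (h x₀ hx₀).2
  by_cases hle : N ≤ cen x₀
  · exact isSolvable_of_isPGroup hp (hC₀.to_le hle)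
  have hsup : cen x₀ ⊔ N = ⊤ := by
    rcases hco.le_iff.1 (le_sup_left : cen x₀ ≤ cen x₀ ⊔ N) with h1 | h1
    · exact h1
    · exact absurd (h1 ▸ le_sup_right) hle
  have hpow : ∀ g : G, ∃ j, g ^ (p ^ j) ∈ N := by
    intro g
    have hg : g ∈ ((cen x₀ ⊔ N : Subgroup G) : Set G) := by rw [hsup]; exact Set.mem_univ _
    rw [sup_comm, Subgroup.normal_mul] at hg
    obtain ⟨n, hn, c, hc, rfl⟩ := Set.mem_mul.1 hg
    obtain ⟨j, hj⟩ := hC₀ ⟨c, hc⟩
    refine ⟨j, ?_⟩
    have hj' : c ^ (p ^ j) = 1 := by simpa using congrArg Subtype.val hj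
    rw [← QuotientGroup.eq_one_iff, QuotientGroup.mk_pow, QuotientGroup.mk_mul,
      (QuotientGroup.eq_one_iff n).2 hn, one_mul, ← QuotientGroup.mk_pow, hj', QuotientGroup.mk_one]
  have hall : ∀ y : G, y ∉ N → ∃ j, y ^ (p ^ j) = 1 := by
    intro y hy
    obtain ⟨q, m, hq0, hm, hqm⟩ := (h y hy).1
    have hq : q.Prime := hq0.nat_prime
    obtain ⟨j, hj⟩ := hpow y
    by_cases hqp : q = p
    · refine ⟨m, ?_⟩
      rw [← hqp, hqm]; exact pow_orderOf_eq_one y
    · exfalso
      apply hy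
      have hcop : (q ^ m).Coprime (p ^ j) :=
        Nat.Coprime.pow _ _ ((Nat.coprime_primes hq hp).2 hqp)
      refine mem_of_pow_mem_of_coprime N y hcop ?_ hj
      rw [hqm, pow_orderOf_eq_one]; exact N.one_mem
  have hcenp : ∀ y : G, y ∉ N → IsPGroup p (cen y) := by
    intro y hy
    obtain ⟨j, hj⟩ := hall y hy
    exact om_isPGroup_cen N h hy hp hj
  by_cases hG : IsPGroup p G
  · have := isSolvable_of_isPGroup hp hG
    infer_instance
  have hsyl : ∀ y : G, y ∉ N → ∃ P : Sylow p G, (P : Subgroup G) = cen y := by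
    intro y hy
    obtain ⟨P, hP⟩ := (hcenp y hy).exists_le_sylow
    rcases (h y hy).2.le_iff.1 hP with h1 | h1
    · exfalso
      apply hG
      intro g
      obtain ⟨j, hj⟩ := P.isPGroup' ⟨g, by rw [h1]; exact Subgroup.mem_top g⟩
      exact ⟨j, by simpa using congrArg Subtype.val hj⟩
    · exact ⟨P, h1⟩
  obtain ⟨S, hS⟩ := hsyl x₀ hx₀
  have hSco : IsCoatom (S : Subgroup G) := by rw [hS]; exact hco
  have hSs : Group.IsSolvable (S : Subgroup G) := isSolvable_of_isPGroup hp S.isPGroup'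
  by_cases hSn : (S : Subgroup G).Normal
  · obtain ⟨r, hr, hidx, hpw, hcomm⟩ := normal_coatom_prime_index (S : Subgroup G) hSco
    have hQ : Group.IsSolvable (G ⧸ (S : Subgroup G)) := by
      apply Group.isSolvable_of_comm
      intro a b
      obtain ⟨a, rfl⟩ := QuotientGroup.mk_surjective a
      obtain ⟨b, rfl⟩ := QuotientGroup.mk_surjective b
      rw [← QuotientGroup.mk_mul, ← QuotientGroup.mk_mul, QuotientGroup.eq]
      have := hcomm b⁻¹ a⁻¹
      convert this using 1
      group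
    have := isSolvable_of_normal_quotient (S : Subgroup G) hSs hQ
    infer_instance
  have hconj : ∀ w : G, w ∉ N → ∃ g : G, ∀ k, k ∈ cen w ↔ g⁻¹ * k * g ∈ (S : Subgroup G) := by
    intro w hw
    obtain ⟨P, hP⟩ := hsyl w hw
    obtain ⟨g, hg⟩ := MulAction.exists_smul_eq G S P
    refine ⟨g, fun k => ?_⟩
    rw [← hP, ← hg, Sylow.coe_subgroup_smul, mem_conj_smul]
  have hsup' : (S : Subgroup G) ⊔ N = ⊤ := by rw [hS]; exact hsup
  have hZ := om_central_of_conj N (S : Subgroup G) hsup' hconj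
  have hx₀S : x₀ ∈ (S : Subgroup G) := by rw [hS]; exact self_mem_cen x₀
  have hab : ∀ a ∈ (S : Subgroup G), ∀ b ∈ (S : Subgroup G), a * b = b * a := by
    intro a ha b hb
    by_cases haN : a ∈ N
    · have hax : a * x₀ ∉ N := fun hmem => hx₀ (by
        have := N.mul_mem (N.inv_mem haN) hmem
        rwa [inv_mul_cancel_left] at this)
      have h1 := hZ (a * x₀) ((S : Subgroup G).mul_mem ha hx₀S) hax b hb
      have h2 := hZ x₀ hx₀S hx₀ b hb
      have h3 : b * a * x₀ = a * b * x₀ := by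
        rw [mul_assoc, h1, mul_assoc, mul_assoc, h2]
      exact (mul_right_cancel h3).symm
    · exact (hZ a ha haN b hb).symm
  have hnorm : Subgroup.normalizer ((S : Subgroup G) : Set G) = S := by
    rcases hSco.le_iff.1 Subgroup.le_normalizer with h1 | h1
    · exact absurd (Subgroup.normalizer_eq_top_iff.1 h1) hSn
    · exact h1
  have hP : Subgroup.normalizer (S : Set G) ≤ Subgroup.centralizer (S : Set G) := by
    intro a ha
    have ha' : a ∈ (S : Subgroup G) := by
      have : a ∈ Subgroup.normalizer ((S : Subgroup G) : Set G) := ha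
      rwa [hnorm] at this
    rw [Subgroup.mem_centralizer_iff]
    intro b hb
    exact hab b hb a ha'
  have hKS : (MonoidHom.transferSylow S hP).ker.IsComplement' S :=
    MonoidHom.ker_transferSylow_isComplement' S hP
  have hpK : ¬ p ∣ Nat.card (MonoidHom.transferSylow S hP).ker :=
    MonoidHom.not_dvd_card_ker_transferSylow S hP
  have hKsolv := om_complement_solvable (S : Subgroup G) (MonoidHom.transferSylow S hP).ker
    S.isPGroup' hSco hKS hpK
  have hQ : Group.IsSolvable (G ⧸ (MonoidHom.transferSylow S hP).ker) := by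
    obtain ⟨n, hn⟩ := IsPGroup.iff_card.1 S.isPGroup'
    have hcard : Nat.card (G ⧸ (MonoidHom.transferSylow S hP).ker) = p ^ n := by
      rw [← Subgroup.index_eq_card, hKS.symm.index_eq_card, ← hn]
    exact isSolvable_of_isPGroup hp (IsPGroup.of_card hcard)
  have := isSolvable_of_normal_quotient (MonoidHom.transferSylow S hP).ker hKsolv hQ
  infer_instance

end Cfsg.Agent.Lib.Helper65
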