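import Mathlib
import Cfsg.Agent.S0907
import Cfsg.Agent.S0910
import Cfsg.Agent.Lib.Helper82.DefectZero
import Cfsg.Agent.Lib.Helper82.CharBasic
import Cfsg.Agent.Lib.Helper82.CharSchur
import Cfsg.Agent.Lib.Helper22.PrincipalSection
import Cfsg.Agent.Lib.Helper81.ThirdMain
import Cfsg.Agent.Lib.Helper04.CoprimeDegree

set_option autoImplicit false

/-!
# Simple groups of order `p^a q^b r`

In a non-abelian simple group of order `p ^ a * q ^ b * r` no element has order divisible by
both `p` and `r`.  Proof: weak block orthogonality for the principal `p`-block at `(1, g)`.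
-/

namespace Cfsg.Agent.Lib.Helper65

open Cfsg
open scoped ComplexConjugate

universe u

theorem isIntegral_conj' {z : ℂ} (hz : IsIntegral ℤ z) : IsIntegral ℤ (conj z) := by
  have := hz.map ((starRingEnd ℂ).toIntAlgHom)
  simpa using this

/-- The arithmetic end of the argument: `1 + q β = 0` with `β` an algebraic integer is impossible. -/
theorem false_of_one_add_mul_integral {q : ℕ} (hq : q.Prime) {β : ℂ} (hβ : IsIntegral ℤ β)
    (h : (1 : ℂ) + (q : ℂ) * β = 0) : False := by
  have hq0 : (q : ℂ) ≠ 0 := by exact_mod_cast hq.ne_zero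
  have hβ' : β = ((-(1 : ℚ) / (q : ℚ) : ℚ) : ℂ) := by
    have : (q : ℂ) * β = -1 := by linear_combination h
    push_cast
    field_simp
    linear_combination this
  rw [hβ'] at hβ
  obtain ⟨k, hk⟩ := Cfsg.Agent.Lib.Helper82.exists_int_of_isIntegral_ratCast hβ
  have hq0' : (q : ℚ) ≠ 0 := by exact_mod_cast hq.ne_zero
  have h1 : (k : ℚ) * q = -1 := by
    rw [← hk]; field_simp
  have h2 : (k : ℤ) * (q : ℤ) = -1 := by exact_mod_cast h1
  have h3 : (q : ℤ) ∣ 1 := ⟨-k, by linarith⟩
  have h4 : (q : ℤ) ≤ 1 := Int.le_of_dvd one_pos h3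
  have h5 : 2 ≤ q := hq.two_le
  omega

theorem no_pr_element {G : Type u} [Group G] [Finite G] [IsSimpleGroup G]
    (hna : ∃ a b : G, a * b ≠ b * a)
    (p q r a b : ℕ) (hp : p.Prime) (hq : q.Prime) (hr : r.Prime)
    (hpr : p ≠ r) (hqr : q ≠ r)
    (hcard : Nat.card G = p ^ a * q ^ b * r) (g : G) (hpg : p ∣ orderOf g) (hrg : r ∣ orderOf g) :
    False := by
  classical
  have : Fintype G := Fintype.ofFinite G
  have : Fact p.Prime := ⟨hp⟩
  have : Fact r.Prime := ⟨hr⟩
  obtain ⟨M, hM⟩ := Cfsg.Agent.Lib.Helper82.exists_isPModular p hp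
  obtain ⟨Mr, hMr⟩ := Cfsg.Agent.Lib.Helper82.exists_isPModular r hr
  have hMprime : M.IsPrime := hM.2.1.isPrime
  have hB : IsPBlock M (principalBlock M G) :=
    Cfsg.Agent.Lib.Helper22.isPBlock_principalBlock M G
  have hx : ¬ p ∣ orderOf (1 : G) := by
    rw [orderOf_one]; exact hp.one_lt.ne' ∘ Nat.dvd_one.mp
  have horth := Cfsg.Agent.S0907.result p M hM (principalBlock M G) hB (1 : G) g hx hpg
  have hfin : (principalBlock M G).Finite := Set.toFinite _
  rw [finsum_mem_eq_finite_toFinset_sum _ hfin] at horth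
  set T := hfin.toFinset with hT
  set triv := Cfsg.Agent.Lib.Helper83.trivChar G with htriv
  have hmem : triv ∈ T := by
    rw [hT, Set.Finite.mem_toFinset]
    exact Cfsg.Agent.Lib.Helper81.trivChar_mem_principalBlock hMprime
  rw [← Finset.add_sum_erase T _ hmem] at horth
  have h1 : (triv : G → ℂ) 1 * conj ((triv : G → ℂ) g) = 1 := by
    simp [htriv, Cfsg.Agent.Lib.Helper83.trivChar_apply]
  rw [h1] at horth
  -- each other term is `q` times an algebraic integer
  have hterm : ∀ χ ∈ T.erase triv, ∃ β : ℂ, IsIntegral ℤ β ∧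
      (χ : G → ℂ) 1 * conj ((χ : G → ℂ) g) = (q : ℂ) * β := by
    intro χ hχ
    rw [Finset.mem_erase] at hχ
    obtain ⟨hne, hχT⟩ := hχ
    have hχB : χ ∈ principalBlock M G := by
      rwa [hT, Set.Finite.mem_toFinset] at hχT
    obtain ⟨d, hd0, hd1, hddvd, hdeg⟩ := Cfsg.Agent.Lib.Helper04.exists_nat_degree χ
    have hint : IsIntegral ℤ ((χ : G → ℂ) g) :=
      Cfsg.Agent.Lib.Helper82.IsCharacter.isIntegral
        (Cfsg.Agent.Lib.Helper82.IsIrrCharacter.isCharacter χ.2) g
    by_cases hrd : r ∣ d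
    · -- defect zero for `r`
      have hnd : ¬ r ∣ Nat.card G / charDegree (χ : G → ℂ) := by
        rw [hdeg]
        intro hdiv
        obtain ⟨m, hm⟩ := hddvd
        have hm' : Nat.card G / d = m := by
          rw [hm]; exact Nat.mul_div_cancel_left m hd0
        rw [hm'] at hdiv
        have hrr : r * r ∣ Nat.card G := by
          rw [hm]; exact Nat.mul_dvd_mul hrd hdiv
        rw [hcard] at hrr
        have : r ∣ p ^ a * q ^ b := by
          have := (Nat.mul_dvd_mul_iff_right hr.pos).mp hrr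
          exact this
        rcases (Nat.Prime.dvd_mul hr).mp this with h | h
        · exact hpr ((Nat.prime_dvd_prime_iff_eq hr hp).mp (hr.dvd_of_dvd_pow h)).symm
        · exact hqr ((Nat.prime_dvd_prime_iff_eq hr hq).mp (hr.dvd_of_dvd_pow h)).symm
      have hsing := Cfsg.Agent.Lib.Helper82.blockOf_eq_singleton_of_not_dvd hMr χ hnd
      have hzero := Cfsg.Agent.Lib.Helper82.eq_zero_of_blockOf_eq_singleton hMr χ hsing g hrg
      exact ⟨0, isIntegral_zero, by rw [hzero]; simp⟩
    · have hcop : Nat.Coprime d r := (Nat.Coprime.symm ((Nat.Prime.coprime_iff_not_dvd hr).mpr hrd))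
      have hd' : d ∣ p ^ a * q ^ b := by
        rw [hcard] at hddvd
        exact hcop.dvd_of_dvd_mul_right hddvd
      by_cases hqd : q ∣ d
      · obtain ⟨m, hm⟩ := hqd
        refine ⟨(m : ℂ) * conj ((χ : G → ℂ) g), ?_, ?_⟩
        · have hm_int : IsIntegral ℤ (m : ℂ) := by
            have := isIntegral_algebraMap (R := ℤ) (A := ℂ) (x := (m : ℤ))
            simpa using this
          exact IsIntegral.mul hm_int (isIntegral_conj' hint)
        · rw [hd1, hm]; push_cast; ring
      · exfalso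
        have hcq : Nat.Coprime d q := (Nat.Coprime.symm ((Nat.Prime.coprime_iff_not_dvd hq).mpr hqd))
        have hd'' : d ∣ p ^ a := (Nat.Coprime.pow_right b hcq).dvd_of_dvd_mul_right hd'
        obtain ⟨k, _, hk⟩ := (Nat.dvd_prime_pow hp).mp hd''
        have hdegk : (χ : G → ℂ) 1 = (p : ℂ) ^ k := by
          rw [hd1, hk]; push_cast; rfl
        have := Cfsg.Agent.S0910.result p M hM hna χ hχB k hdegk
        apply hne
        apply Subtype.ext
        rw [this]
        rfl
  have hsumP : ∃ β : ℂ, IsIntegral ℤ β ∧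
      ∑ χ ∈ T.erase triv, (χ : G → ℂ) 1 * conj ((χ : G → ℂ) g) = (q : ℂ) * β := by
    apply Finset.sum_induction _ (fun z => ∃ β : ℂ, IsIntegral ℤ β ∧ z = (q : ℂ) * β)
    · rintro _ _ ⟨β1, h1, rfl⟩ ⟨β2, h2, rfl⟩
      exact ⟨β1 + β2, h1.add h2, by ring⟩
    · exact ⟨0, isIntegral_zero, by simp⟩
    · exact hterm
  obtain ⟨β, hβ, hsum⟩ := hsumP
  rw [hsum] at horth
  exact false_of_one_add_mul_integral hq hβ horth

end Cfsg.Agent.Lib.Helper65
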