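import Mathlib
import Cfsg.Agent.Lib.Helper29.FixedPointFree

set_option autoImplicit false

universe u

namespace Cfsg.Agent.Lib.Helper65

/-- Two independent commuting elements of order `p` cannot act by conjugation on a nontrivial
normal abelian `p'`-subgroup so that every nonidentity element they generate is fixed point free. -/
theorem false_of_rank_two_fpf {G : Type u} [Group G] [Finite G] (V : Subgroup G) [V.Normal]
    (hVc : ∀ a ∈ V, ∀ b ∈ V, a * b = b * a) (hV : V ≠ ⊥)
    (p : ℕ) [Fact p.Prime] (hpV : ¬ p ∣ Nat.card V) (a b : G) (hab : Commute a b)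
    (ha : a ^ p = 1) (hb : b ^ p = 1)
    (hfpf : ∀ i j : ZMod p, (i ≠ 0 ∨ j ≠ 0) → ∀ w ∈ V,
      (a ^ i.val * b ^ j.val) * w = w * (a ^ i.val * b ^ j.val) → w = 1) : False := by
  let _ : CommGroup ↥V :=
    { (inferInstance : Group ↥V) with mul_comm := fun x y => Subtype.ext (hVc x x.2 y y.2) }
  have key : ∀ w : ↥V, w ^ p = 1 := by
    intro w
    apply Cfsg.Agent.Lib.Helper29.pow_eq_one_of_fpf (A := ConjAct G) (W := ↥V) p
      (ConjAct.toConjAct a) (ConjAct.toConjAct b)
    · show ConjAct.toConjAct a * ConjAct.toConjAct b = ConjAct.toConjAct b * ConjAct.toConjAct a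
      rw [← map_mul, ← map_mul, hab.eq]
    · rw [← map_pow, ha, map_one]
    · rw [← map_pow, hb, map_one]
    · intro i j hij w' hw'
      have h1 : ConjAct.toConjAct a ^ i.val * ConjAct.toConjAct b ^ j.val =
          ConjAct.toConjAct (a ^ i.val * b ^ j.val) := by
        rw [map_mul, map_pow, map_pow]
      rw [h1] at hw'
      have h2 := congrArg Subtype.val hw'
      rw [ConjAct.Subgroup.val_conj_smul, ConjAct.toConjAct_smul] at h2
      have h3 : (a ^ i.val * b ^ j.val) * (w' : G) = (w' : G) * (a ^ i.val * b ^ j.val) := by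
        calc (a ^ i.val * b ^ j.val) * (w' : G)
            = ((a ^ i.val * b ^ j.val) * (w' : G) * (a ^ i.val * b ^ j.val)⁻¹)
              * (a ^ i.val * b ^ j.val) := by group
          _ = (w' : G) * (a ^ i.val * b ^ j.val) := by rw [h2]
      apply Subtype.ext
      exact hfpf i j hij (w' : G) w'.2 h3
  apply hV
  rw [eq_bot_iff]
  intro w hw
  rw [Subgroup.mem_bot]
  have h1 : (⟨w, hw⟩ : ↥V) ^ p = 1 := key ⟨w, hw⟩
  have h2 : orderOf (⟨w, hw⟩ : ↥V) ∣ p := orderOf_dvd_of_pow_eq_one h1
  have h3 : orderOf (⟨w, hw⟩ : ↥V) ∣ Nat.card V := orderOf_dvd_natCard _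
  rcases (Nat.dvd_prime (Fact.out : p.Prime)).1 h2 with h4 | h4
  · have := orderOf_eq_one_iff.1 h4
    exact congrArg Subtype.val this
  · rw [h4] at h3
    exact absurd h3 hpV

end Cfsg.Agent.Lib.Helper65
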