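import Mathlib
import Cfsg.Agent.Lib.Helper65.NoEdge
import Cfsg.Agent.Lib.Helper65.RankTwoFpf

set_option autoImplicit false

universe u

namespace Cfsg.Agent.Lib.Helper65

/-- The elements of order dividing `p` in an abelian subgroup. -/
def omegaSub {Q : Type u} [Group Q] (N : Subgroup Q) (hNc : ∀ a ∈ N, ∀ b ∈ N, a * b = b * a)
    (p : ℕ) : Subgroup Q where
  carrier := {e | e ∈ N ∧ e ^ p = 1}
  mul_mem' := by
    rintro a b ⟨ha, ha'⟩ ⟨hb, hb'⟩
    refine ⟨N.mul_mem ha hb, ?_⟩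
    have hc : Commute a b := hNc a ha b hb
    rw [hc.mul_pow, ha', hb', one_mul]
  one_mem' := ⟨N.one_mem, one_pow p⟩
  inv_mem' := by
    rintro a ⟨ha, ha'⟩
    exact ⟨N.inv_mem ha, by rw [inv_pow, ha', inv_one]⟩

theorem mem_omegaSub {Q : Type u} [Group Q] (N : Subgroup Q)
    (hNc : ∀ a ∈ N, ∀ b ∈ N, a * b = b * a) (p : ℕ) (e : Q) :
    e ∈ omegaSub N hNc p ↔ e ∈ N ∧ e ^ p = 1 := Iff.rfl

theorem omegaSub_normal {Q : Type u} [Group Q] (N : Subgroup Q) [N.Normal]
    (hNc : ∀ a ∈ N, ∀ b ∈ N, a * b = b * a) (p : ℕ) : (omegaSub N hNc p).Normal := by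
  refine ⟨fun e he g => ?_⟩
  rw [mem_omegaSub] at he ⊢
  refine ⟨Subgroup.Normal.conj_mem inferInstance e he.1 g, ?_⟩
  rw [conj_pow, he.2, mul_one, mul_inv_cancel]

/-- Under `NE`, modulo a normal `A`-subgroup `H`, a nontrivial abelian normal `p`-subgroup
(`p ∉ A`) contains a normal subgroup of order `p`, provided the group has a nontrivial abelian
normal `A`-subgroup. -/
theorem exists_normal_prime_card {G : Type u} [Group G] [Finite G] (A : Set ℕ) (hNE : NE A G)
    (H : Subgroup G) [H.Normal] (hH : IsPiSub (· ∈ A) H)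
    (V : Subgroup G) [V.Normal] (hVc : ∀ a ∈ V, ∀ b ∈ V, a * b = b * a) (hV : V ≠ ⊥)
    (hVA : IsPiSub (· ∈ A) V)
    (p : ℕ) (hp : p.Prime) (hpA : p ∉ A)
    (N : Subgroup (G ⧸ H)) [N.Normal] (hNc : ∀ a ∈ N, ∀ b ∈ N, a * b = b * a)
    (hNp : IsPGroup p N) (hN : N ≠ ⊥) :
    ∃ E : Subgroup (G ⧸ H), E.Normal ∧ Nat.card E = p := by
  have : Fact p.Prime := ⟨hp⟩
  have hΩn : (omegaSub N hNc p).Normal := omegaSub_normal N hNc p
  -- an element of order p in N
  have hpN : p ∣ Nat.card N := by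
    obtain ⟨k, hk⟩ := hNp.exists_card_eq
    have hk0 : k ≠ 0 := by
      rintro rfl
      rw [pow_zero] at hk
      exact hN (Subgroup.card_eq_one.1 hk)
    rw [hk]
    exact dvd_pow_self p hk0
  obtain ⟨e₁', he₁'⟩ := exists_prime_orderOf_dvd_card' p hpN
  have he₁o : orderOf (e₁' : G ⧸ H) = p := by rw [Subgroup.orderOf_coe, he₁']
  set e₁ : G ⧸ H := (e₁' : G ⧸ H) with he₁def
  have he₁Ω : e₁ ∈ omegaSub N hNc p := ⟨e₁'.2, by rw [← he₁o, pow_orderOf_eq_one]⟩
  have he₁1 : e₁ ≠ 1 := by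
    intro h
    rw [h, orderOf_one] at he₁o
    exact hp.ne_one he₁o.symm
  by_cases hle : omegaSub N hNc p ≤ Subgroup.zpowers e₁
  · refine ⟨omegaSub N hNc p, hΩn, ?_⟩
    have heq : omegaSub N hNc p = Subgroup.zpowers e₁ :=
      le_antisymm hle ((Subgroup.zpowers_le).2 he₁Ω)
    rw [heq, Nat.card_zpowers, he₁o]
  · exfalso
    obtain ⟨e₂, he₂Ω, he₂z⟩ := SetLike.not_le_iff_exists.1 hle
    have he₂1 : e₂ ≠ 1 := fun h => he₂z (h ▸ Subgroup.one_mem _)
    have he₂o : orderOf e₂ = p := by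
      have h1 : orderOf e₂ ∣ p := orderOf_dvd_of_pow_eq_one he₂Ω.2
      rcases (Nat.dvd_prime hp).1 h1 with h2 | h2
      · exact absurd (orderOf_eq_one_iff.1 h2) he₂1
      · exact h2
    -- lift to a Sylow p-subgroup of G
    obtain ⟨P⟩ : Nonempty (Sylow p G) := inferInstance
    have hΩp : IsPGroup p (omegaSub N hNc p) := hNp.to_le (fun e he => he.1)
    have hΩP : omegaSub N hNc p ≤
        (P.mapSurjective (QuotientGroup.mk'_surjective H) : Sylow p (G ⧸ H)) :=
      hΩp.le_sylow_of_normal _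
    have hlift : ∀ e ∈ omegaSub N hNc p, ∃ x ∈ (P : Subgroup G), QuotientGroup.mk' H x = e := by
      intro e he
      have h1 : e ∈ (P : Subgroup G).map (QuotientGroup.mk' H) := hΩP he
      exact h1
    have hpH : ¬ p ∣ Nat.card H := fun h => hpA (hH p hp h)
    have hPH : ∀ x ∈ (P : Subgroup G), x ∈ H → x = 1 := by
      intro x hxP hxH
      obtain ⟨k, hk⟩ := (P.2 ⟨x, hxP⟩)
      have hk' : x ^ (p ^ k) = 1 := congrArg Subtype.val hk
      have h1 : orderOf x ∣ p ^ k := orderOf_dvd_of_pow_eq_one hk'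
      have h2 : orderOf x ∣ Nat.card H := Subgroup.orderOf_dvd_natCard H hxH
      have h3 : Nat.Coprime (p ^ k) (Nat.card H) :=
        Nat.Coprime.pow_left k ((Nat.Prime.coprime_iff_not_dvd hp).2 hpH)
      have h4 : orderOf x = 1 := Nat.eq_one_of_dvd_coprimes h3 h1 h2
      exact orderOf_eq_one_iff.1 h4
    obtain ⟨a, haP, hae⟩ := hlift e₁ he₁Ω
    obtain ⟨b, hbP, hbe⟩ := hlift e₂ he₂Ω
    have hap : a ^ p = 1 := by
      apply hPH _ (Subgroup.pow_mem _ haP p)
      apply (QuotientGroup.eq_one_iff _).1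
      have : QuotientGroup.mk' H (a ^ p) = e₁ ^ p := by rw [map_pow, hae]
      exact this.trans he₁Ω.2
    have hbp : b ^ p = 1 := by
      apply hPH _ (Subgroup.pow_mem _ hbP p)
      apply (QuotientGroup.eq_one_iff _).1
      have : QuotientGroup.mk' H (b ^ p) = e₂ ^ p := by rw [map_pow, hbe]
      exact this.trans he₂Ω.2
    have hab : Commute a b := by
      have h1 : a * b * a⁻¹ * b⁻¹ ∈ (P : Subgroup G) :=
        Subgroup.mul_mem _ (Subgroup.mul_mem _ (Subgroup.mul_mem _ haP hbP)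
          (Subgroup.inv_mem _ haP)) (Subgroup.inv_mem _ hbP)
      have h2 : a * b * a⁻¹ * b⁻¹ ∈ H := by
        apply (QuotientGroup.eq_one_iff _).1
        have h3 : QuotientGroup.mk' H (a * b * a⁻¹ * b⁻¹) = e₁ * e₂ * e₁⁻¹ * e₂⁻¹ := by
          rw [map_mul, map_mul, map_mul, map_inv, map_inv, hae, hbe]
        refine h3.trans ?_
        rw [hNc e₁ he₁Ω.1 e₂ he₂Ω.1]
        group
      have h4 := hPH _ h1 h2
      show a * b = b * a
      calc a * b = (a * b * a⁻¹ * b⁻¹) * (b * a) := by group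
        _ = b * a := by rw [h4, one_mul]
    have hpV : ¬ p ∣ Nat.card V := fun h => hpA (hVA p hp h)
    apply false_of_rank_two_fpf V hVc hV p hpV a b hab hap hbp
    intro i j hij w hwV hcomm
    by_contra hw1
    -- the element g = a^i b^j is a nontrivial p-element
    have hgP : a ^ i.val * b ^ j.val ∈ (P : Subgroup G) :=
      Subgroup.mul_mem _ (Subgroup.pow_mem _ haP _) (Subgroup.pow_mem _ hbP _)
    have hg1 : a ^ i.val * b ^ j.val ≠ 1 := by
      intro hg
      have h1 : e₁ ^ i.val * e₂ ^ j.val = 1 := by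
        have := congrArg (QuotientGroup.mk' H) hg
        rwa [map_mul, map_pow, map_pow, hae, hbe, map_one] at this
      by_cases hj : j = 0
      · have hi : i ≠ 0 := by
          rcases hij with h | h
          · exact h
          · exact absurd hj h
        rw [hj, ZMod.val_zero, pow_zero, mul_one] at h1
        have h2 : orderOf e₁ ∣ i.val := orderOf_dvd_of_pow_eq_one h1
        rw [he₁o] at h2
        have h3 : i.val < p := ZMod.val_lt i
        have h4 : i.val = 0 := Nat.eq_zero_of_dvd_of_lt h2 h3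
        exact hi ((ZMod.val_eq_zero i).1 h4)
      · have h2 : e₂ ^ j.val ∈ Subgroup.zpowers e₁ := by
          have : e₂ ^ j.val = (e₁ ^ i.val)⁻¹ := eq_inv_of_mul_eq_one_right h1
          rw [this]
          exact Subgroup.inv_mem _ (Subgroup.pow_mem _ (Subgroup.mem_zpowers e₁) _)
        have hjv : j.val ≠ 0 := fun h => hj ((ZMod.val_eq_zero j).1 h)
        have hcop : Nat.Coprime j.val (orderOf e₂) := by
          rw [he₂o]
          apply Nat.Coprime.symm
          rw [Nat.Prime.coprime_iff_not_dvd hp]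
          intro hd
          exact hjv (Nat.eq_zero_of_dvd_of_lt hd (ZMod.val_lt j))
        obtain ⟨m, hm⟩ := exists_pow_eq_self_of_coprime hcop
        apply he₂z
        rw [← hm]
        exact Subgroup.pow_mem _ h2 m
    have hgo : p ∣ orderOf (a ^ i.val * b ^ j.val) := by
      obtain ⟨k, hk⟩ := (P.2 ⟨_, hgP⟩)
      have hk' : (a ^ i.val * b ^ j.val) ^ (p ^ k) = 1 := congrArg Subtype.val hk
      have h1 : orderOf (a ^ i.val * b ^ j.val) ∣ p ^ k := orderOf_dvd_of_pow_eq_one hk'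
      obtain ⟨k', -, hk'2⟩ := (Nat.dvd_prime_pow hp).1 h1
      have hk0 : k' ≠ 0 := by
        rintro rfl
        rw [pow_zero] at hk'2
        exact hg1 (orderOf_eq_one_iff.1 hk'2)
      rw [hk'2]
      exact dvd_pow_self p hk0
    have hwo : orderOf w ≠ 1 := fun h => hw1 (orderOf_eq_one_iff.1 h)
    obtain ⟨q, hq, hqw⟩ := Nat.exists_prime_and_dvd hwo
    have hqA : q ∈ A := hVA q hq (hqw.trans (Subgroup.orderOf_dvd_natCard V hwV))
    exact hNE.no_commute (show Commute w (a ^ i.val * b ^ j.val) from hcomm.symm) hq hp hqA hpA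
      hqw hgo

end Cfsg.Agent.Lib.Helper65
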