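import Mathlib
import Cfsg.Agent.S0907
import Cfsg.Agent.Lib.Helper65.PaQbR

set_option autoImplicit false

/-!
# Degrees in the principal block

If `G` has a `p`-singular element then the degrees of the nonprincipal characters of the principal
`p`-block are not all divisible by a common prime `l` (weak block orthogonality at `(1, g)`).
-/

namespace Cfsg.Agent.Lib.Helper65

open Cfsg
open scoped ComplexConjugate

universe u

theorem principal_block_not_all_dvd {G : Type u} [Group G] [Finite G] (p l : ℕ) (hp : p.Prime)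
    (hl : l.Prime) (M : Ideal AlgInt) (hM : IsPModular p M) (g : G) (hpg : p ∣ orderOf g)
    (h : ∀ χ : IrrCharacter G, χ ∈ principalBlock M G →
      χ ≠ Cfsg.Agent.Lib.Helper83.trivChar G → l ∣ charDegree (χ : G → ℂ)) : False := by
  classical
  have : Fintype G := Fintype.ofFinite G
  have : Fact p.Prime := ⟨hp⟩
  have hMprime : M.IsPrime := hM.2.1.isPrime
  have hB : IsPBlock M (principalBlock M G) :=
    Cfsg.Agent.Lib.Helper22.isPBlock_principalBlock M G
  have hx : ¬ p ∣ orderOf (1 : G) := by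
    rw [orderOf_one]; exact hp.one_lt.ne' ∘ Nat.dvd_one.mp
  have horth := Cfsg.Agent.S0907.result p M hM (principalBlock M G) hB (1 : G) g hx hpg
  have hfin : (principalBlock M G).Finite := Set.toFinite _
  rw [finsum_mem_eq_finite_toFinset_sum _ hfin] at horth
  set T := hfin.toFinset with hT
  set triv := Cfsg.Agent.Lib.Helper83.trivChar G with htriv
  have hmem : triv ∈ T := by
    rw [hT, Set.Finite.mem_toFinset]
    exact Cfsg.Agent.Lib.Helper81.trivChar_mem_principalBlock hMprime
  rw [← Finset.add_sum_erase T _ hmem] at horth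
  have h1 : (triv : G → ℂ) 1 * conj ((triv : G → ℂ) g) = 1 := by
    simp [htriv, Cfsg.Agent.Lib.Helper83.trivChar_apply]
  rw [h1] at horth
  have hterm : ∀ χ ∈ T.erase triv, ∃ β : ℂ, IsIntegral ℤ β ∧
      (χ : G → ℂ) 1 * conj ((χ : G → ℂ) g) = (l : ℂ) * β := by
    intro χ hχ
    rw [Finset.mem_erase] at hχ
    obtain ⟨hne, hχT⟩ := hχ
    have hχB : χ ∈ principalBlock M G := by
      rwa [hT, Set.Finite.mem_toFinset] at hχT
    obtain ⟨d, hd0, hd1, hddvd, hdeg⟩ := Cfsg.Agent.Lib.Helper04.exists_nat_degree χ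
    have hint : IsIntegral ℤ ((χ : G → ℂ) g) :=
      Cfsg.Agent.Lib.Helper82.IsCharacter.isIntegral
        (Cfsg.Agent.Lib.Helper82.IsIrrCharacter.isCharacter χ.2) g
    have hld : l ∣ d := by
      have := h χ hχB hne
      rwa [hdeg] at this
    obtain ⟨m, hm⟩ := hld
    refine ⟨(m : ℂ) * conj ((χ : G → ℂ) g), ?_, ?_⟩
    · have hm_int : IsIntegral ℤ (m : ℂ) := by
        have := isIntegral_algebraMap (R := ℤ) (A := ℂ) (x := (m : ℤ))
        simpa using this
      exact IsIntegral.mul hm_int (isIntegral_conj' hint)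
    · rw [hd1, hm]; push_cast; ring
  have hsumP : ∃ β : ℂ, IsIntegral ℤ β ∧
      ∑ χ ∈ T.erase triv, (χ : G → ℂ) 1 * conj ((χ : G → ℂ) g) = (l : ℂ) * β := by
    apply Finset.sum_induction _ (fun z => ∃ β : ℂ, IsIntegral ℤ β ∧ z = (l : ℂ) * β)
    · rintro _ _ ⟨β1, h1, rfl⟩ ⟨β2, h2, rfl⟩
      exact ⟨β1 + β2, h1.add h2, by ring⟩
    · exact ⟨0, isIntegral_zero, by simp⟩
    · exact hterm
  obtain ⟨β, hβ, hsum⟩ := hsumP
  rw [hsum] at horth
  exact false_of_one_add_mul_integral hl hβ horth

end Cfsg.Agent.Lib.Helper65
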