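import Mathlib

set_option autoImplicit false
set_option linter.unusedVariables false

/-!
# S2279 (two regular unipotent generators of `SL_n`): the pure-algebra core

`S k = {s | s • c_k ∈ M}` (`0 ≤ k ≤ n - 2`) for the transvection module `M` of the group generated by the upper
Jordan block and its conjugate by the corner transvection `1 + l E_{last,0}`.  From the four closure properties
`h1`-`h4` all `S k` are everything.
-/

namespace Cfsg.Agent.Lib.Helper65.RU3

/-- the binomial coefficient needed: `C(p^a n' + p^a - 1, p^a) ≡ n' (mod p)` (Lucas) -/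
theorem choose_key (p : ℕ) [Fact p.Prime] (a n' : ℕ) :
    Nat.choose (p ^ a * n' + p ^ a - 1) (p ^ a) ≡ n' [MOD p] := by
  induction a with
  | zero => simp [Nat.ModEq]
  | succ a ih =>
    have hp : 1 ≤ p := (Fact.out : p.Prime).one_lt.le
    have hpa : 1 ≤ p ^ a := Nat.one_le_pow _ _ hp
    obtain ⟨M, hM⟩ : ∃ M, M = p ^ a * n' + p ^ a - 1 := ⟨_, rfl⟩
    rw [← hM] at ih
    have hM1 : M + 1 = p ^ a * n' + p ^ a := by omega
    have hN : p ^ (a + 1) * n' + p ^ (a + 1) - 1 = p * M + (p - 1) := by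
      have h1 : p ^ (a + 1) * n' + p ^ (a + 1) = p * (M + 1) := by rw [hM1]; ring
      have h2 : p * (M + 1) = p * M + p := by ring
      omega
    have hk : p ^ (a + 1) = p * p ^ a := by ring
    have hlucas := Choose.choose_modEq_choose_mod_mul_choose_div_nat
      (n := p * M + (p - 1)) (k := p * p ^ a) (p := p)
    rw [hN, hk]
    have h1 : (p * M + (p - 1)) % p = p - 1 := by
      rw [Nat.mul_add_mod]
      exact Nat.mod_eq_of_lt (by omega)
    have h2 : (p * M + (p - 1)) / p = M := by
      rw [Nat.mul_add_div (by omega), Nat.div_eq_of_lt (by omega), add_zero]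
    have h3 : (p * p ^ a) % p = 0 := Nat.mul_mod_right _ _
    have h4 : (p * p ^ a) / p = p ^ a := Nat.mul_div_cancel_left _ (by omega)
    rw [h1, h2, h3, h4, Nat.choose_zero_right, one_mul] at hlucas
    exact hlucas.trans ih

theorem sk_eq_top {F : Type*} [Field F] [Fintype F] (p : ℕ) [Fact p.Prime] [CharP F p]
    (n : ℕ) (hn : 4 ≤ n) (l : F) (hl0 : l ≠ 0)
    (hl : ∀ x : F, x ≠ 0 → ∃ k : ℕ, x = l ^ (k + 1))
    (S : ℕ → AddSubgroup F)
    (h1 : l ^ 3 ∈ S 2)
    (h2 : ∀ k, k + 3 ≤ n → ∀ s ∈ S k, l * s ∈ S (k + 1))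
    (h3 : ∀ k, 1 ≤ k → k + 2 ≤ n → ∀ s' ∈ S (n - 2), ∀ s ∈ S k, s' * s ∈ S (k - 1))
    (h4 : l ∈ S 0 → ∀ i j, i < j → j + 2 ≤ n → ∀ s ∈ S i,
      ((Nat.choose (n + (j - i) - 2) (n - 1) : ℕ) : F) * l * s ∈ S j) :
    ∀ k, k + 2 ≤ n → S k = ⊤ := by
  classical
  have hq1 : 1 < Fintype.card F := Fintype.one_lt_card
  have hpp : p.Prime := Fact.out
  -- Step A: `l^(k+1) ∈ S k` for `2 ≤ k ≤ n - 2`
  have hA : ∀ k, 2 ≤ k → k + 2 ≤ n → l ^ (k + 1) ∈ S k := by
    intro k hk
    induction k, hk using Nat.le_induction with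
    | base => intro _; exact h1
    | succ k hk ih =>
      intro hkn
      have := h2 k (by omega) _ (ih (by omega))
      rwa [← pow_succ'] at this
  obtain ⟨T, hT⟩ : ∃ T, T = S (n - 2) := ⟨_, rfl⟩
  have hlT : l ^ (n - 1) ∈ T := by
    have := hA (n - 2) (by omega) (by omega)
    rw [show n - 2 + 1 = n - 1 by omega] at this
    rwa [hT]
  -- multiplicative closure of `K = l T`
  have hKmul : ∀ x y : F, l⁻¹ * x ∈ T → l⁻¹ * y ∈ T → l⁻¹ * (x * y) ∈ T := by
    intro x y hx hy
    rw [hT] at hx hy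
    have h := h3 (n - 2) (by omega) (by omega) _ hx _ hy
    have h' := h2 (n - 2 - 1) (by omega) _ h
    rw [show n - 2 - 1 + 1 = n - 2 by omega] at h'
    have e : l * (l⁻¹ * x * (l⁻¹ * y)) = l⁻¹ * (x * y) := by field_simp
    rw [e] at h'
    rwa [hT]
  have hpowK : ∀ x : F, l⁻¹ * x ∈ T → ∀ k : ℕ, l⁻¹ * x ^ (k + 1) ∈ T := by
    intro x hx k
    induction k with
    | zero => simpa using hx
    | succ k ih => rw [pow_succ]; exact hKmul _ _ ih hx
  have hlnK : l⁻¹ * l ^ n ∈ T := by
    have e : l⁻¹ * l ^ n = l ^ (n - 1) := by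
      obtain ⟨N1, rfl⟩ : ∃ N1, n = N1 + 1 := ⟨n - 1, by omega⟩
      rw [pow_succ, Nat.add_sub_cancel]
      field_simp
    rwa [e]
  have hone : l⁻¹ * 1 ∈ T := by
    have h := hpowK (l ^ n) hlnK (Fintype.card F - 2)
    have e : (l ^ n) ^ (Fintype.card F - 2 + 1) = 1 := by
      rw [show Fintype.card F - 2 + 1 = Fintype.card F - 1 by omega]
      exact FiniteField.pow_card_sub_one_eq_one _ (pow_ne_zero _ hl0)
    rwa [e] at h
  let K : Subfield F :=
    { carrier := {x | l⁻¹ * x ∈ T}
      mul_mem' := fun {x y} hx hy => hKmul x y hx hy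
      one_mem' := hone
      add_mem' := fun {x y} hx hy => by
        show l⁻¹ * (x + y) ∈ T
        rw [mul_add]; exact T.add_mem hx hy
      zero_mem' := by
        show l⁻¹ * 0 ∈ T
        rw [mul_zero]; exact T.zero_mem
      neg_mem' := fun {x} hx => by
        show l⁻¹ * (-x) ∈ T
        rw [mul_neg]; exact T.neg_mem hx
      inv_mem' := fun x hx => by
        show l⁻¹ * x⁻¹ ∈ T
        by_cases hx0 : x = 0
        · rw [hx0, inv_zero, mul_zero]; exact T.zero_mem
        · have hxq : x ^ (Fintype.card F - 1) = 1 := FiniteField.pow_card_sub_one_eq_one x hx0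
          by_cases hq2 : Fintype.card F = 2
          · have : x = 1 := by
              rw [hq2] at hxq
              simpa using hxq
            rw [this, inv_one]; exact hone
          · have h := hpowK x hx (Fintype.card F - 3)
            have e : x ^ (Fintype.card F - 3 + 1) = x⁻¹ := by
              apply eq_inv_of_mul_eq_one_left
              rw [← pow_succ, show Fintype.card F - 3 + 1 + 1 = Fintype.card F - 1 by omega, hxq]
            rwa [e] at h }
  have hKmem : ∀ x : F, x ∈ K ↔ l⁻¹ * x ∈ T := fun x => Iff.rfl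
  -- Step C: `S (n-2-j) ⊇ {y | l^j y ∈ T}`
  have hC : ∀ j, j ≤ n - 2 → ∀ y : F, l ^ j * y ∈ T → y ∈ S (n - 2 - j) := by
    intro j
    induction j with
    | zero =>
      intro _ y hy
      rw [pow_zero, one_mul, hT] at hy
      simpa using hy
    | succ j ih =>
      intro hj y hy
      have hly : l * y ∈ S (n - 2 - j) := by
        apply ih (by omega)
        rw [← mul_assoc, ← pow_succ]
        exact hy
      have hone' : l⁻¹ ∈ S (n - 2) := by
        have := hone
        rw [mul_one, hT] at this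
        exact this
      have h := h3 (n - 2 - j) (by omega) (by omega) _ hone' _ hly
      rw [show n - 2 - j - 1 = n - 2 - (j + 1) by omega] at h
      have e : l⁻¹ * (l * y) = y := by field_simp
      rwa [e] at h
  have hl_S0 : l ∈ S 0 := by
    have := hC (n - 2) le_rfl l (by
      rw [← pow_succ, show n - 2 + 1 = n - 1 by omega]
      exact hlT)
    rwa [Nat.sub_self] at this
  -- Step D
  have hD : ∀ m, 1 ≤ m → m ≤ n - 2 → ((Nat.choose (n + m - 2) (n - 1) : ℕ) : F) ≠ 0 →
      l ^ (m - 1) ∈ K := by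
    intro m hm1 hm2 hC0
    set c : F := ((Nat.choose (n + m - 2) (n - 1) : ℕ) : F) with hc
    have hy : l⁻¹ ^ m * l⁻¹ ∈ S (n - 2 - m) := by
      apply hC m hm2
      rw [← mul_assoc, ← mul_pow, mul_inv_cancel₀ hl0, one_pow, one_mul]
      have := hone
      rwa [mul_one] at this
    have h := h4 hl_S0 (n - 2 - m) (n - 2) (by omega) (by omega) _ hy
    rw [show n + (n - 2 - (n - 2 - m)) - 2 = n + m - 2 by omega, ← hT] at h
    -- `c * l * (l⁻¹^m * l⁻¹) ∈ T`, i.e. `c * (l * l⁻¹^m) ∈ K`
    have hcK : c * (l * l⁻¹ ^ m) ∈ K := by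
      rw [hKmem]
      have e : l⁻¹ * (c * (l * l⁻¹ ^ m)) = c * l * (l⁻¹ ^ m * l⁻¹) := by ring
      rw [e]; exact h
    have hcmem : c ∈ K := by
      rw [hc]; exact natCast_mem K _
    have h2' : l * l⁻¹ ^ m ∈ K := by
      have := K.mul_mem (K.inv_mem hcmem) hcK
      rwa [← mul_assoc, inv_mul_cancel₀ hC0, one_mul] at this
    have h3' := K.inv_mem h2'
    have e : (l * l⁻¹ ^ m)⁻¹ = l ^ (m - 1) := by
      obtain ⟨m', rfl⟩ : ∃ m', m = m' + 1 := ⟨m - 1, by omega⟩
      rw [Nat.add_sub_cancel, pow_succ, inv_pow]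
      field_simp
    rwa [e] at h3'
  -- Frobenius
  have hFrob : ∀ (x : F) (a : ℕ), x ^ (p ^ a) ∈ K → x ∈ K := by
    intro x a hx
    obtain ⟨f, -, hcard⟩ := FiniteField.card F p
    have hf : 1 ≤ (f : ℕ) := f.pos
    have h := FiniteField.pow_card_pow a x
    rw [hcard, ← pow_mul] at h
    have e : p ^ ((f : ℕ) * a) = p ^ a * p ^ ((f : ℕ) * a - a) := by
      rw [← pow_add]
      congr 1
      have : a ≤ (f : ℕ) * a := Nat.le_mul_of_pos_left a hf
      omega
    rw [e, pow_mul] at h
    rw [← h]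
    exact K.pow_mem hx _
  have hlnK' : l ^ n ∈ K := hlnK
  -- Step F: `l ∈ K`
  have hlK : l ∈ K := by
    obtain ⟨a, n', hn', hnn⟩ := Nat.exists_eq_pow_mul_and_not_dvd (show n ≠ 0 by omega) p hpp.ne_one
    have hpa1 : 1 ≤ p ^ a := Nat.one_le_pow _ _ hpp.one_lt.le
    have hn'0 : n' ≠ 0 := by
      rintro rfl
      simp at hnn
      omega
    by_cases hn'1 : n' = 1
    · rw [hn'1, mul_one] at hnn
      rw [hnn] at hlnK'
      exact hFrob l a hlnK'
    · have hn'2 : 2 ≤ n' := by omega
      have hmle : p ^ a + 1 ≤ n - 2 := by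
        have h2 : p ^ a * 2 ≤ p ^ a * n' := Nat.mul_le_mul_left _ hn'2
        by_cases h3 : 3 ≤ p ^ a
        · omega
        · have : p ^ a = 1 ∨ p ^ a = 2 := by omega
          rcases this with h | h
          · rw [h, one_mul] at hnn
            omega
          · -- `p = 2`, `n'` odd
            have hp2 : p ∣ 2 := by
              rw [← h]
              rcases Nat.eq_zero_or_pos a with ha | ha
              · rw [ha, pow_zero] at h; omega
              · exact dvd_pow_self p (by omega)
            have hp2' : p = 2 := (Nat.prime_dvd_prime_iff_eq hpp Nat.prime_two).mp hp2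
            rw [hp2'] at hn'
            have hn'3 : 3 ≤ n' := by omega
            have : p ^ a * 3 ≤ p ^ a * n' := Nat.mul_le_mul_left _ hn'3
            omega
      have hcne : ((Nat.choose (n + (p ^ a + 1) - 2) (n - 1) : ℕ) : F) ≠ 0 := by
        rw [Ne, CharP.cast_eq_zero_iff F p]
        have e1 : n + (p ^ a + 1) - 2 = (n - 1) + p ^ a := by omega
        rw [e1, Nat.choose_symm_add]
        have e2 : n - 1 + p ^ a = p ^ a * n' + p ^ a - 1 := by omega
        rw [e2]
        intro hdvd
        have hmod := choose_key p a n'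
        have : p ∣ n' := by
          rw [Nat.dvd_iff_mod_eq_zero] at hdvd ⊢
          rw [← hmod]
          exact hdvd
        exact hn' this
      have := hD (p ^ a + 1) (by omega) hmle hcne
      rw [Nat.add_sub_cancel] at this
      exact hFrob l a this
  -- Step G
  have hKtop : ∀ x : F, x ∈ K := by
    intro x
    by_cases hx : x = 0
    · rw [hx]; exact K.zero_mem
    · obtain ⟨k, rfl⟩ := hl x hx
      exact K.pow_mem hlK _
  have hTtop : ∀ y : F, y ∈ T := by
    intro y
    have := (hKmem (l * y)).mp (hKtop _)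
    rwa [← mul_assoc, inv_mul_cancel₀ hl0, one_mul] at this
  intro k hk
  rw [eq_top_iff]
  intro y _
  have := hC (n - 2 - k) (by omega) y (hTtop _)
  rwa [show n - 2 - (n - 2 - k) = k by omega] at this

end Cfsg.Agent.Lib.Helper65.RU3
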