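import Mathlib
import Cfsg.Agent.Lib.Helper73.RUDefs
import Cfsg.Agent.Lib.Helper65.RU5Defs

set_option autoImplicit false

/-! # K-RU5 leaf L1 (S2279): the vectors `c_k = a^k e_last` -/

namespace Cfsg.Agent.Lib.Helper65.RU5x

open Matrix Cfsg.Agent.Lib.Helper73.RU Cfsg.Agent.Lib.Helper65.RU5

/-- `(a x)_i = x_i + x_(i+1)` -/
theorem aMat_mulVec_apply (m : ℕ) (F : Type*) [Field F] (x : Fin (m + 3) → F) (i : Fin (m + 3)) :
    (aMat m F *ᵥ x) i = x i + (if h : i.val + 1 < m + 3 then x ⟨i.val + 1, h⟩ else 0) := by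
  classical
  unfold aMat
  simp only [Matrix.mulVec, dotProduct, of_apply]
  have hsplit : ∀ j : Fin (m + 3),
      (if i = j ∨ i.val + 1 = j.val then (1 : F) else 0) * x j =
        (if i = j then x j else 0) + (if i.val + 1 = j.val then x j else 0) := by
    intro j
    by_cases h1 : i = j
    · have h2 : ¬ (i.val + 1 = j.val) := by
        rw [h1]; omega
      rw [if_pos (Or.inl h1), if_pos h1, if_neg h2, one_mul, add_zero]
    · by_cases h2 : i.val + 1 = j.val
      · rw [if_pos (Or.inr h2), if_neg h1, if_pos h2, one_mul, zero_add]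
      · rw [if_neg (by tauto), if_neg h1, if_neg h2, zero_mul, add_zero]
  rw [Finset.sum_congr rfl (fun j _ => hsplit j), Finset.sum_add_distrib]
  congr 1
  · rw [Finset.sum_ite_eq Finset.univ i x]
    simp
  · by_cases h : i.val + 1 < m + 3
    · rw [dif_pos h]
      rw [Finset.sum_eq_single (⟨i.val + 1, h⟩ : Fin (m + 3))]
      · simp
      · intro j _ hj
        rw [if_neg]
        intro h'
        apply hj
        ext
        exact h'.symm
      · intro h'
        exact absurd (Finset.mem_univ _) h'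
    · rw [dif_neg h]
      apply Finset.sum_eq_zero
      intro j _
      rw [if_neg]
      intro h'
      have := j.isLt
      omega

theorem cvec_zero (m : ℕ) (F : Type*) [Field F] :
    cvec m F 0 = Pi.single (Fin.last (m + 2)) 1 := by
  ext i
  unfold cvec
  by_cases h : i = Fin.last (m + 2)
  · subst h
    simp
  · rw [Pi.single_apply, if_neg h]
    have hlt : i.val < m + 2 := by
      have h1 := i.isLt
      have h2 : i.val ≠ m + 2 := fun h' => h (Fin.ext (by simpa using h'))
      omega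
    obtain ⟨t, ht⟩ : ∃ t, m + 2 - i.val = t + 1 := ⟨m + 2 - i.val - 1, by omega⟩
    rw [ht, Nat.choose_zero_succ, Nat.cast_zero]

theorem aMat_mulVec_cvec (m : ℕ) (F : Type*) [Field F] (k : ℕ) :
    aMat m F *ᵥ cvec m F k = cvec m F (k + 1) := by
  ext i
  rw [aMat_mulVec_apply]
  unfold cvec
  by_cases h : i.val + 1 < m + 3
  · rw [dif_pos h]
    simp only
    obtain ⟨t, ht⟩ : ∃ t, m + 2 - i.val = t + 1 := ⟨m + 2 - i.val - 1, by omega⟩
    have ht' : m + 2 - (i.val + 1) = t := by omega
    rw [ht, ht', Nat.choose_succ_succ, Nat.cast_add, add_comm]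
  · rw [dif_neg h, add_zero]
    have hi : m + 2 - i.val = 0 := by
      have := i.isLt
      omega
    rw [hi, Nat.choose_zero_right, Nat.choose_zero_right]

theorem cvec_apply_zero (m : ℕ) (F : Type*) [Field F] (k : ℕ) (hk : k ≤ m + 1) : cvec m F k 0 = 0 := by
  unfold cvec
  rw [Fin.val_zero, Nat.sub_zero, Nat.choose_eq_zero_of_lt (by omega), Nat.cast_zero]

theorem cvec_apply_one (m : ℕ) (F : Type*) [Field F] (k : ℕ) (hk : k ≤ m) : cvec m F k 1 = 0 := by
  unfold cvec
  have h1 : ((1 : Fin (m + 3)) : ℕ) = 1 := by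
    rw [Fin.val_one']
    exact Nat.mod_eq_of_lt (by omega)
  rw [h1, Nat.choose_eq_zero_of_lt (by omega), Nat.cast_zero]

theorem cvec_apply_one_top (m : ℕ) (F : Type*) [Field F] : cvec m F (m + 1) 1 = 1 := by
  unfold cvec
  have h1 : ((1 : Fin (m + 3)) : ℕ) = 1 := by
    rw [Fin.val_one']
    exact Nat.mod_eq_of_lt (by omega)
  rw [h1, show m + 2 - 1 = m + 1 by omega, Nat.choose_self, Nat.cast_one]

end Cfsg.Agent.Lib.Helper65.RU5x
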