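import Mathlib
import Cfsg.Agent.Lib.Helper73.RUDefs
import Cfsg.Agent.Lib.Helper73.RUHub
import Cfsg.Agent.Lib.Helper27.RU4G
import Cfsg.Agent.Lib.Helper65.RU3Alg
import Cfsg.Agent.Lib.Helper65.RU5Defs
import Cfsg.Agent.Lib.Helper65.RU5L1
import Cfsg.Agent.Lib.Helper86.RU5L2
import Cfsg.Agent.Lib.Helper50.RU5L3
import Cfsg.Agent.Lib.Helper50.RU5L4
import Cfsg.Agent.Lib.Helper21.RU5L5
import Cfsg.Agent.Lib.Helper87.RU5L6

set_option autoImplicit false
set_option linter.unusedVariables false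
set_option linter.unusedSectionVars false

/-!
# K-RU5 glue (S2279): the field step for ALL finite fields for the pair `u = aMat`, `v = g u g⁻¹`, `g = 1 + l E_{last,0}`.

`eq_top_of_steps`: a subgroup `G` of `SL_(m+3)(F)` (`m ≥ 1`) containing `aMat` and satisfying `hP1` (`l³ c_2`), `hP2` (up step),
`hP3` (down step) for a generator `l` of `Fˣ` is everything.  (`hP1`, `hP2`, `hP3` are the outputs of the K-RU4 leaves
`tv_mem` (conjugated by `aMat`), `up_step`, `down_step`.)
-/

namespace Cfsg.Agent.Lib.Helper65.RU5Glue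

open Matrix Cfsg.Agent.Lib.Helper73.RU Cfsg.Agent.Lib.Helper73.RUSpec Cfsg.Agent.Lib.Helper65.RU5
open Cfsg.Agent.Lib.Helper65.RU5x (cvec_zero aMat_mulVec_cvec cvec_apply_zero cvec_apply_one cvec_apply_one_top)
open Cfsg.Agent.Lib.Helper86.RU5x (rho_zero rho_succ_vecMul)
open Cfsg.Agent.Lib.Helper50.RU5x (rho_dot_cvec gj_mem)
open Cfsg.Agent.Lib.Helper21.RU5x (conj_step)
open Cfsg.Agent.Lib.Helper87.RU5x (mem_of_cvec)

/-! ## GLUE (helper65) -/

theorem rho_last (m : ℕ) (F : Type*) [Field F] (r : ℕ) :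
    rho m F r (Fin.last (m + 2)) = (-1) ^ (m + 2) * ((Nat.choose (r + m + 1) (m + 2) : ℕ) : F) := by
  unfold rho
  simp only [Fin.val_last]
  rw [show r + (m + 2) - 1 = r + m + 1 by omega]

theorem eq_top_of_steps {m : ℕ} {F : Type*} [Field F] [Fintype F] (hm : 1 ≤ m)
    (G : Subgroup (SpecialLinearGroup (Fin (m + 3)) F)) (l : F) (hl0 : l ≠ 0)
    (hl : ∀ x : F, x ≠ 0 → ∃ k : ℕ, x = l ^ (k + 1))
    (ha : InG G (aMat m F))
    (hP1 : InG G (tvm (l ^ 3 • cvec m F 2) (Pi.single 0 1)))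
    (hP2 : ∀ x : Fin (m + 3) → F, x 0 = 0 → x 1 = 0 → InG G (tvm x (Pi.single 0 1)) →
      InG G (tvm ((l * (-1) ^ (m + 1)) • (aMat m F *ᵥ x)) (Pi.single 0 1)))
    (hP3 : ∀ y : Fin (m + 3) → F, y 0 = 0 → InG G (tvm y (Pi.single 0 1)) →
      ∀ x : Fin (m + 3) → F, x 0 = 0 → x 1 = 0 → InG G (tvm (aMat m F *ᵥ x) (Pi.single 0 1)) →
      InG G (tvm ((-(y 1)) • x) (Pi.single 0 1))) : G = ⊤ := by
  classical
  set e : Fin (m + 3) → F := Pi.single 0 1 with he
  have hedot : ∀ v : Fin (m + 3) → F, e ⬝ᵥ v = v 0 := by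
    intro v
    rw [he, single_dotProduct, one_mul]
  -- the characteristic
  obtain ⟨p, hchar⟩ := CharP.exists F
  have : CharP F p := hchar
  have : Fact p.Prime := ⟨by
    rcases CharP.char_is_prime_or_zero F p with h | h
    · exact h
    · exfalso
      have : CharP F 0 := h ▸ hchar
      have : CharZero F := CharP.charP_to_charZero F
      exact not_finite F⟩
  have hc0 := cvec_zero m F
  have hc := aMat_mulVec_cvec m F
  have hr0 := rho_zero m F
  have hr := rho_succ_vecMul m F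
  have hcz : ∀ k, cvec m F (min k (m + 1)) 0 = 0 := fun k =>
    cvec_apply_zero m F _ (min_le_right _ _)
  -- the additive subgroups `S k`
  let S : ℕ → AddSubgroup F := fun k =>
    { carrier := {s | InG G (tvm (s • cvec m F (min k (m + 1))) e)}
      zero_mem' := by
        show InG G (tvm ((0 : F) • cvec m F (min k (m + 1))) e)
        rw [zero_smul, tvm_zero]; exact inG_one
      add_mem' := fun {a b} ha' hb' => by
        show InG G (tvm ((a + b) • cvec m F (min k (m + 1))) e)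
        rw [add_smul, ← tvm_mul_tvm _ _ e (by rw [hedot, Pi.smul_apply, hcz, smul_zero])]
        exact inG_mul ha' hb'
      neg_mem' := fun {a} ha' => by
        show InG G (tvm ((-a) • cvec m F (min k (m + 1))) e)
        rw [neg_smul]
        exact inG_tvm_neg (by rw [hedot, Pi.smul_apply, hcz, smul_zero]) ha' }
  have hSmem : ∀ k, k ≤ m + 1 → ∀ s : F, s ∈ S k ↔ InG G (tvm (s • cvec m F k) e) := by
    intro k hk s
    show InG G (tvm (s • cvec m F (min k (m + 1))) e) ↔ _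
    rw [min_eq_left hk]
  have hsign : ∀ (k j : ℕ) (s : F), ((-1 : F) ^ j * s) ∈ S k → s ∈ S k := by
    intro k j s hs
    rcases neg_one_pow_eq_or F j with h | h
    · rwa [h, one_mul] at hs
    · rw [h, neg_one_mul] at hs
      simpa using (S k).neg_mem hs
  have h1 : l ^ 3 ∈ S 2 := by
    rw [hSmem 2 (by omega)]
    exact hP1
  have h2 : ∀ k, k + 3 ≤ m + 3 → ∀ s ∈ S k, l * s ∈ S (k + 1) := by
    intro k hk s hs
    rw [hSmem k (by omega)] at hs
    have h := hP2 (s • cvec m F k)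
      (by rw [Pi.smul_apply, cvec_apply_zero m F k (by omega), smul_zero])
      (by rw [Pi.smul_apply, cvec_apply_one m F k (by omega), smul_zero]) hs
    rw [Matrix.mulVec_smul, hc, smul_smul] at h
    apply hsign (k + 1) (m + 1)
    rw [hSmem (k + 1) (by omega)]
    have e1 : (-1 : F) ^ (m + 1) * (l * s) = l * (-1) ^ (m + 1) * s := by ring
    rw [e1]
    exact h
  have h3 : ∀ k, 1 ≤ k → k + 2 ≤ m + 3 → ∀ s' ∈ S (m + 3 - 2), ∀ s ∈ S k, s' * s ∈ S (k - 1) := by
    intro k hk1 hk s' hs' s hs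
    rw [show m + 3 - 2 = m + 1 by omega, hSmem (m + 1) le_rfl] at hs'
    rw [hSmem k (by omega)] at hs
    obtain ⟨k', rfl⟩ : ∃ k', k = k' + 1 := ⟨k - 1, by omega⟩
    rw [Nat.add_sub_cancel]
    have h := hP3 (s' • cvec m F (m + 1))
      (by rw [Pi.smul_apply, cvec_apply_zero m F _ le_rfl, smul_zero]) hs'
      (s • cvec m F k')
      (by rw [Pi.smul_apply, cvec_apply_zero m F k' (by omega), smul_zero])
      (by rw [Pi.smul_apply, cvec_apply_one m F k' (by omega), smul_zero])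
      (by rw [Matrix.mulVec_smul, hc]; exact hs)
    rw [Pi.smul_apply, cvec_apply_one_top, smul_eq_mul, mul_one, smul_smul] at h
    have h' : -(s' * s) ∈ S k' := by
      rw [hSmem k' (by omega)]
      rw [← neg_mul]
      exact h
    simpa using (S k').neg_mem h'
  have h4 : l ∈ S 0 → ∀ i j, i < j → j + 2 ≤ m + 3 → ∀ s ∈ S i,
      ((Nat.choose (m + 3 + (j - i) - 2) (m + 3 - 1) : ℕ) : F) * l * s ∈ S j := by
    intro hl0S i j hij hj s hs
    rw [hSmem 0 (by omega), hc0] at hl0S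
    have hgj := gj_mem l hc0 hc hr0 hr ha hl0S j
    rw [hSmem i (by omega)] at hs
    have hstep := conj_step e (l • cvec m F j) (rho m F j) (s • cvec m F i)
      (by rw [hedot, Pi.smul_apply, cvec_apply_zero m F j (by omega), smul_zero]) hgj hs
    rw [dotProduct_smul, rho_dot_cvec m F hc0 hc hr i j hij.le, rho_last, smul_smul] at hstep
    apply hsign j (m + 2)
    rw [hSmem j (by omega)]
    have e1 : (-1 : F) ^ (m + 2) *
        (((Nat.choose (m + 3 + (j - i) - 2) (m + 3 - 1) : ℕ) : F) * l * s) =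
        s • ((-1) ^ (m + 2) * ((Nat.choose (j - i + m + 1) (m + 2) : ℕ) : F)) * l := by
      rw [show m + 3 + (j - i) - 2 = j - i + m + 1 by omega, show m + 3 - 1 = m + 2 by omega,
        smul_eq_mul]
      ring
    rw [e1]
    exact hstep
  have hall := Cfsg.Agent.Lib.Helper65.RU3.sk_eq_top p (m + 3) (by omega) l hl0 hl S h1 h2 h3 h4
  -- `M` is everything
  let M : Set (Fin (m + 3) → F) := {v | v 0 = 0 ∧ InG G (tvm v e)}
  have hM0 : (0 : Fin (m + 3) → F) ∈ M := ⟨rfl, by rw [tvm_zero]; exact inG_one⟩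
  have hMadd : ∀ v w, v ∈ M → w ∈ M → v + w ∈ M := fun v w hv hw =>
    ⟨by rw [Pi.add_apply, hv.1, hw.1, add_zero], by
      rw [← tvm_mul_tvm v w e (by rw [hedot]; exact hw.1)]; exact inG_mul hv.2 hw.2⟩
  have hcM : ∀ k, k ≤ m + 1 → ∀ s : F, s • cvec m F k ∈ M := by
    intro k hk s
    refine ⟨by rw [Pi.smul_apply, cvec_apply_zero m F k hk, smul_zero], ?_⟩
    rw [← hSmem k hk, hall k (by omega)]
    exact AddSubgroup.mem_top s
  have hMall := mem_of_cvec M hM0 hMadd hcM
  have hAx0 : e ∈ Ax G := by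
    intro v hv
    rw [hedot] at hv
    exact (hMall v hv).2
  exact eq_top_of_single_mem_Ax G (Cfsg.Agent.Lib.Helper27.RU4x.single_mem_Ax_up ha hAx0)

end Cfsg.Agent.Lib.Helper65.RU5Glue
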