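import Mathlib
import Cfsg.Agent.Lib.Helper65.MaxCent

/-!
# Normal subgroups whose non-central elements have maximal centralizers (helper65)

Relative version of `MaxCent`: `N ⊴ G` and `C_G(x)` is a maximal subgroup of `G` for every
`x ∈ N ∖ Z(N)`.  Basic analysis: the "Dedekind" lemma for `C_G(x)`-invariant subgroups of `N`,
the coprime-product trick and the dichotomy: `C_N(x)` is central in `C_G(x)` or `C_N(x)/Z(N)` is a
`p`-group.
-/

set_option autoImplicit false

universe u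

namespace Cfsg.Agent.Lib.Helper65

variable {G : Type u} [Group G]

/-- the center of the subgroup `N`, viewed inside `G` -/
def zN (N : Subgroup G) : Subgroup G := N ⊓ Subgroup.centralizer (N : Set G)

/-- the relative hypothesis: non-central elements of `N` have maximal centralizers in `G` -/
def RelMaxCent (N : Subgroup G) : Prop :=
  ∀ x : G, x ∈ N → x ∉ zN N → IsCoatom (cen x)

theorem mem_zN {N : Subgroup G} {z : G} : z ∈ zN N ↔ z ∈ N ∧ ∀ n ∈ N, n * z = z * n := by
  rw [zN, Subgroup.mem_inf, Subgroup.mem_centralizer_iff]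
  rfl

theorem zN_le (N : Subgroup G) : zN N ≤ N := inf_le_left

theorem notMem_zN_iff {N : Subgroup G} {x : G} (hx : x ∈ N) :
    x ∉ zN N ↔ x ∉ Subgroup.centralizer (N : Set G) := by
  rw [zN, Subgroup.mem_inf]
  constructor
  · intro h hc; exact h ⟨hx, hc⟩
  · intro h hc; exact h hc.2

theorem zN_conj_mem {N : Subgroup G} [hN : N.Normal] (g : G) {z : G} (hz : z ∈ zN N) :
    g * z * g⁻¹ ∈ zN N := by
  rw [mem_zN] at hz ⊢
  refine ⟨hN.conj_mem z hz.1 g, fun n hn => ?_⟩
  have h1 : g⁻¹ * n * g ∈ N := by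
    have := hN.conj_mem n hn g⁻¹
    simpa using this
  have h2 := hz.2 _ h1
  calc n * (g * z * g⁻¹) = g * ((g⁻¹ * n * g) * z) * g⁻¹ := by group
    _ = g * (z * (g⁻¹ * n * g)) * g⁻¹ := by rw [h2]
    _ = g * z * g⁻¹ * n := by group

theorem zN_le_cen {N : Subgroup G} {x : G} (hx : x ∈ N) : zN N ≤ cen x := by
  intro z hz
  rw [mem_cen_iff]
  exact ((mem_zN.1 hz).2 x hx).symm

theorem zN_comm {N : Subgroup G} {z n : G} (hz : z ∈ zN N) (hn : n ∈ N) : n * z = z * n :=
  (mem_zN.1 hz).2 n hn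

theorem cen_ne_top_of_notMem_zN {N : Subgroup G} {x : G} (hx : x ∈ N) (hxz : x ∉ zN N) :
    ∃ n ∈ N, n ∉ cen x := by
  by_contra hcon
  push_neg at hcon
  apply hxz
  rw [mem_zN]
  exact ⟨hx, fun n hn => mem_cen_iff.1 (hcon n hn)⟩

theorem rel_cen_eq_of_le {N : Subgroup G} (h : RelMaxCent N) {x u : G} (hx : x ∈ N)
    (hxz : x ∉ zN N) (hu : u ∈ N) (huz : u ∉ zN N) (hle : cen x ≤ cen u) : cen u = cen x := by
  rcases (h x hx hxz).le_iff.1 hle with h1 | h1
  · exfalso
    obtain ⟨n, hn, hnu⟩ := cen_ne_top_of_notMem_zN hu huz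
    rw [h1] at hnu
    exact hnu (Subgroup.mem_top _)
  · exact h1

/-- elements of `zpowers a` lie in `zN N` as soon as suitable coprime powers do -/
theorem pow_mem_zN_of_coprime {N : Subgroup G} {a : G} {m : ℕ} (hcop : (orderOf a).Coprime m)
    (h : a ^ m ∈ zN N) : a ∈ zN N := by
  obtain ⟨k, hk⟩ := exists_pow_eq_self_of_coprime (x := a) hcop.symm
  rw [← hk]
  exact Subgroup.pow_mem _ h _

/-- The relative coprime-product trick. -/
theorem rel_cen_le_of_coprime {N : Subgroup G} (h : RelMaxCent N) {x a y : G} (hx : x ∈ N)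
    (hxz : x ∉ zN N) (ha : a ∈ N) (haz : a ∉ zN N) (haA : cen x ≤ cen a)
    (hy : y ∈ N) (hyx : y ∈ cen x) (hcop : (orderOf a).Coprime (orderOf y)) :
    cen x ≤ cen y := by
  have hax : cen a = cen x := rel_cen_eq_of_le h hx hxz ha haz haA
  have hc : Commute a y := by
    have : y ∈ cen a := haA hyx
    exact (mem_cen_iff.1 this).symm
  have hle := cen_mul_le hc hcop
  have hayN : a * y ∈ N := N.mul_mem ha hy
  have hayZ : a * y ∉ zN N := by
    intro hay
    apply haz
    apply pow_mem_zN_of_coprime hcop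
    have h1 : (a * y) ^ orderOf y = a ^ orderOf y := by
      rw [hc.mul_pow, pow_orderOf_eq_one, mul_one]
    rw [← h1]
    exact Subgroup.pow_mem _ hay _
  have hle2 : cen (a * y) ≤ cen x := by
    rw [← hax]; exact le_trans hle inf_le_left
  have := rel_cen_eq_of_le h hayN hayZ hx hxz hle2
  rw [this]
  exact le_trans hle inf_le_right

/-- A non-central element of `N` has a non-central power of prime power order. -/
theorem rel_exists_pElem [Finite G] (N : Subgroup G) :
    ∀ (n : ℕ) (a : G), a ∈ N → a ∉ zN N → orderOf a = n →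
      ∃ (p : ℕ) (a' : G) (k : ℕ), p.Prime ∧ a' ∈ Subgroup.zpowers a ∧ a' ∉ zN N ∧
        a' ^ (p ^ k) = 1 := by
  intro n
  induction n using Nat.strong_induction_on with
  | _ n ih =>
  intro a haN haZ hn
  have hn1 : n ≠ 1 := by
    intro h1
    rw [h1, orderOf_eq_one_iff] at hn
    exact haZ (hn ▸ Subgroup.one_mem _)
  obtain ⟨p, hp, hpd⟩ := Nat.exists_prime_and_dvd hn1
  obtain ⟨a1, b1, k, ha1, hb1, hab, hpow, _, hlt⟩ := exists_decomp a p hp
  have hzN : Subgroup.zpowers a ≤ N := (Subgroup.zpowers_le).2 haN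
  by_cases hb1Z : b1 ∈ zN N
  · refine ⟨p, a1, k, hp, ha1, ?_, hpow⟩
    intro ha1Z
    exact haZ (hab ▸ Subgroup.mul_mem _ ha1Z hb1Z)
  · obtain ⟨q, a', j, hq, ha', ha'z, ha'p⟩ :=
      ih (orderOf b1) (hn ▸ hlt (hn ▸ hpd)) b1 (hzN hb1) hb1Z rfl
    refine ⟨q, a', j, hq, ?_, ha'z, ha'p⟩
    exact (Subgroup.zpowers_le.2 hb1) ha'

/-- **Dichotomy**: for `x ∈ N ∖ Z(N)`, either `C_N(x)` is centralized by `C_G(x)`, or
`C_N(x)/Z(N)` is a `p`-group. -/
theorem rel_dichotomy [Finite G] {N : Subgroup G} (h : RelMaxCent N) {x : G} (hx : x ∈ N)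
    (hxz : x ∉ zN N) :
    (∀ c ∈ N, c ∈ cen x → cen x ≤ cen c) ∨
      ∃ p : ℕ, p.Prime ∧ ∀ c ∈ N, c ∈ cen x → ∃ k : ℕ, c ^ (p ^ k) ∈ zN N := by
  obtain ⟨p, a, k, hp, haP, haZ, hak⟩ := rel_exists_pElem N (orderOf x) x hx hxz rfl
  have haN : a ∈ N := (Subgroup.zpowers_le.2 hx) haP
  have haA : cen x ≤ cen a := by
    intro m hm
    rw [mem_cen_iff] at hm ⊢
    obtain ⟨i, rfl⟩ := Subgroup.mem_zpowers_iff.1 haP
    exact ((Commute.zpow_right (show Commute m x from hm) i)).eq
  have hoa : orderOf a ∣ p ^ k := orderOf_dvd_of_pow_eq_one hak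
  -- p'-elements of `C_N(x)` are centralized by `C_G(x)`
  have hb : ∀ y ∈ N, y ∈ cen x → (orderOf y).Coprime p → cen x ≤ cen y := by
    intro y hyN hy hyp
    apply rel_cen_le_of_coprime h hx hxz haN haZ haA hyN hy
    exact Nat.Coprime.coprime_dvd_left hoa (Nat.Coprime.pow_left k hyp.symm)
  by_cases hall : ∀ y ∈ N, y ∈ cen x → (orderOf y).Coprime p → y ∈ zN N
  · right
    refine ⟨p, hp, fun m hmN hm => ?_⟩
    obtain ⟨m1, m2, j, hm1, hm2, hmm, hpow, hcop, _⟩ := exists_decomp m p hp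
    have hm2M : m2 ∈ cen x := zpowers_le_cen hm hm2
    have hm2N : m2 ∈ N := (Subgroup.zpowers_le.2 hmN) hm2
    have hm2Z : m2 ∈ zN N := hall m2 hm2N hm2M hcop
    have hm1N : m1 ∈ N := (Subgroup.zpowers_le.2 hmN) hm1
    refine ⟨j, ?_⟩
    have hc : Commute m1 m2 := (zN_comm hm2Z hm1N)
    rw [hmm, hc.mul_pow, hpow, one_mul]
    exact Subgroup.pow_mem _ hm2Z _
  · left
    push_neg at hall
    obtain ⟨y, hyN, hy, hyp, hyZ⟩ := hall
    have hxy : cen x ≤ cen y := hb y hyN hy hyp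
    obtain ⟨q, b, j, hq, hbP, hbZ, hbj⟩ := rel_exists_pElem N (orderOf y) y hyN hyZ rfl
    have hbN : b ∈ N := (Subgroup.zpowers_le.2 hyN) hbP
    have hob : orderOf b ∣ q ^ j := orderOf_dvd_of_pow_eq_one hbj
    have hyb : cen y ≤ cen b := by
      intro m hm
      rw [mem_cen_iff] at hm ⊢
      obtain ⟨i, rfl⟩ := Subgroup.mem_zpowers_iff.1 hbP
      exact ((Commute.zpow_right (show Commute m y from hm) i)).eq
    have hxb : cen x ≤ cen b := le_trans hxy hyb
    -- the order of `b` divides the order of `y`, hence is prime to `p`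
    have hboy : orderOf b ∣ orderOf y := by
      obtain ⟨i, rfl⟩ := Subgroup.mem_zpowers_iff.1 hbP
      exact orderOf_dvd_of_pow_eq_one (by
        rw [← zpow_natCast, ← zpow_mul, mul_comm, zpow_mul, zpow_natCast, pow_orderOf_eq_one,
          one_zpow])
    have hbp : (orderOf b).Coprime p := Nat.Coprime.coprime_dvd_left hboy hyp
    have hb1 : orderOf b ≠ 1 := by
      intro h1
      rw [orderOf_eq_one_iff] at h1
      exact hbZ (h1 ▸ Subgroup.one_mem _)
    have hqp : q ≠ p := by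
      rintro rfl
      -- orderOf b divides q^j and is coprime to q
      have : orderOf b = 1 :=
        Nat.eq_one_of_dvd_coprimes (Nat.Coprime.pow_right j hbp) dvd_rfl hob
      exact hb1 this
    intro c hcN hc
    obtain ⟨c1, c2, i, hc1, hc2, hcc, hpow, hcop, _⟩ := exists_decomp c q hq
    have hc1M : c1 ∈ cen x := zpowers_le_cen hc hc1
    have hc2M : c2 ∈ cen x := zpowers_le_cen hc hc2
    have hc1N : c1 ∈ N := (Subgroup.zpowers_le.2 hcN) hc1
    have hc2N : c2 ∈ N := (Subgroup.zpowers_le.2 hcN) hc2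
    -- `c2` has order prime to `q`: use `b`
    have h2 : cen x ≤ cen c2 := by
      apply rel_cen_le_of_coprime h hx hxz hbN hbZ hxb hc2N hc2M
      exact Nat.Coprime.coprime_dvd_left hob (Nat.Coprime.pow_left j hcop.symm)
    -- `c1` has order a power of `q ≠ p`: use `a`
    have h1 : cen x ≤ cen c1 := by
      apply hb c1 hc1N hc1M
      have : orderOf c1 ∣ q ^ i := orderOf_dvd_of_pow_eq_one hpow
      apply Nat.Coprime.coprime_dvd_left this
      exact Nat.Coprime.pow_left i ((Nat.coprime_primes hq hp).2 hqp)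
    rw [hcc]
    exact le_trans (le_inf h1 h2) (cen_inf_le_mul c1 c2)

end Cfsg.Agent.Lib.Helper65
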