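import Mathlib
import Cfsg.Agent.Lib.Helper65.RelMaxCent
import Cfsg.Agent.Lib.Helper65.MaxCentFrob

/-!
# Relative maximal centralizers: invariant subgroups (helper65)

For `x ∈ N ∖ Z(N)` with `C_G(x)` maximal: `G = N C_G(x)`, and a `C_G(x)`-invariant subgroup `H` of
`N` either lies in `C_N(x)` or satisfies `N = H C_N(x)`.
-/

set_option autoImplicit false

universe u

namespace Cfsg.Agent.Lib.Helper65

variable {G : Type u} [Group G]

theorem exists_mul_of_mem_sup {H M : Subgroup G} (hn : ∀ m ∈ M, ∀ h ∈ H, m * h * m⁻¹ ∈ H)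
    {g : G} (hg : g ∈ H ⊔ M) : ∃ h ∈ H, ∃ m ∈ M, g = h * m := by
  rw [Subgroup.sup_eq_closure] at hg
  induction hg using Subgroup.closure_induction with
  | mem x hx =>
    rcases hx with hx | hx
    · exact ⟨x, hx, 1, M.one_mem, by simp⟩
    · exact ⟨1, H.one_mem, x, hx, by simp⟩
  | one => exact ⟨1, H.one_mem, 1, M.one_mem, by simp⟩
  | mul x y _ _ hx hy =>
    obtain ⟨h1, hh1, m1, hm1, rfl⟩ := hx
    obtain ⟨h2, hh2, m2, hm2, rfl⟩ := hy
    exact ⟨h1 * (m1 * h2 * m1⁻¹), H.mul_mem hh1 (hn m1 hm1 h2 hh2), m1 * m2,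
      M.mul_mem hm1 hm2, by group⟩
  | inv x _ hx =>
    obtain ⟨h1, hh1, m1, hm1, rfl⟩ := hx
    refine ⟨m1⁻¹ * h1⁻¹ * m1, ?_, m1⁻¹, M.inv_mem hm1, by group⟩
    have := hn m1⁻¹ (M.inv_mem hm1) h1⁻¹ (H.inv_mem hh1)
    simpa using this

/-- The Dedekind-type lemma for `C_G(x)`-invariant subgroups of `N`. -/
theorem rel_inv_dichotomy {N : Subgroup G} (h : RelMaxCent N) {x : G} (hx : x ∈ N)
    (hxz : x ∉ zN N) (H : Subgroup G) (hHN : H ≤ N)
    (hinv : ∀ m ∈ cen x, ∀ k ∈ H, m * k * m⁻¹ ∈ H) :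
    H ≤ cen x ∨ ∀ n ∈ N, ∃ k ∈ H, ∃ c ∈ cen x, c ∈ N ∧ n = k * c := by
  rcases (h x hx hxz).le_iff.1 (le_sup_right : cen x ≤ H ⊔ cen x) with h1 | h1
  · right
    intro n hn
    have hn' : n ∈ H ⊔ cen x := by rw [h1]; exact Subgroup.mem_top _
    obtain ⟨k, hk, c, hc, rfl⟩ := exists_mul_of_mem_sup hinv hn'
    refine ⟨k, hk, c, hc, ?_, rfl⟩
    have : c = k⁻¹ * (k * c) := by group
    rw [this]
    exact N.mul_mem (N.inv_mem (hHN hk)) hn
  · left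
    rw [← h1]
    exact le_sup_left

/-- `G = N · C_G(x)`. -/
theorem rel_decomp {N : Subgroup G} [hN : N.Normal] (h : RelMaxCent N) {x : G} (hx : x ∈ N)
    (hxz : x ∉ zN N) (g : G) : ∃ n ∈ N, ∃ m ∈ cen x, g = n * m := by
  have hinv : ∀ m ∈ cen x, ∀ k ∈ N, m * k * m⁻¹ ∈ N := fun m _ k hk => hN.conj_mem k hk m
  rcases (h x hx hxz).le_iff.1 (le_sup_right : cen x ≤ N ⊔ cen x) with h1 | h1
  · have hg : g ∈ N ⊔ cen x := by rw [h1]; exact Subgroup.mem_top _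
    exact exists_mul_of_mem_sup hinv hg
  · exfalso
    obtain ⟨n, hn, hnx⟩ := cen_ne_top_of_notMem_zN hx hxz
    apply hnx
    rw [← h1]
    exact (le_sup_left : N ≤ N ⊔ cen x) hn

/-- a subgroup normalized by `N` and by `C_G(x)` is normal in `G` -/
theorem conj_mem_of_N_of_cen {N : Subgroup G} [hN : N.Normal] (h : RelMaxCent N) {x : G}
    (hx : x ∈ N) (hxz : x ∉ zN N) (H : Subgroup G)
    (h1 : ∀ n ∈ N, ∀ k ∈ H, n * k * n⁻¹ ∈ H) (h2 : ∀ m ∈ cen x, ∀ k ∈ H, m * k * m⁻¹ ∈ H)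
    (g : G) {k : G} (hk : k ∈ H) : g * k * g⁻¹ ∈ H := by
  obtain ⟨n, hn, m, hm, rfl⟩ := rel_decomp h hx hxz g
  have := h1 n hn _ (h2 m hm k hk)
  have e : n * m * k * (n * m)⁻¹ = n * (m * k * m⁻¹) * n⁻¹ := by group
  rw [e]
  exact this

/-- the normalizer of `C_N(x)` contains `C_G(x)`: if some element of `N` outside `C_N(x)`
normalizes `C_N(x)`, then `C_N(x)` is normal in `G`. -/
theorem rel_normal_of_normalizer_grows [Finite G] {N : Subgroup G} [hN : N.Normal]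
    (h : RelMaxCent N) {x : G}
    (hx : x ∈ N) (hxz : x ∉ zN N) (n : G) (hn : n ∈ N) (hnx : n ∉ cen x)
    (hnorm : ∀ c ∈ N ⊓ cen x, n * c * n⁻¹ ∈ N ⊓ cen x) (g : G) {c : G} (hc : c ∈ N ⊓ cen x) :
    g * c * g⁻¹ ∈ N ⊓ cen x := by
  have hle : cen x ≤ Subgroup.normalizer ((N ⊓ cen x : Subgroup G) : Set G) := by
    intro m hm
    apply mem_normalizer_of_conj_le
    rintro c ⟨hc1, hc2⟩
    refine ⟨hN.conj_mem c hc1 m, ?_⟩
    exact (cen x).mul_mem ((cen x).mul_mem hm hc2) ((cen x).inv_mem hm)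
  have hn' : n ∈ Subgroup.normalizer ((N ⊓ cen x : Subgroup G) : Set G) :=
    mem_normalizer_of_conj_le _ n hnorm
  rcases (h x hx hxz).le_iff.1 hle with h1 | h1
  · have hg : g ∈ Subgroup.normalizer ((N ⊓ cen x : Subgroup G) : Set G) := by
      rw [h1]; exact Subgroup.mem_top _
    rw [Subgroup.mem_normalizer_iff] at hg
    exact (hg c).1 hc
  · exfalso
    rw [h1] at hn'
    exact hnx hn'

end Cfsg.Agent.Lib.Helper65
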