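import Mathlib
import Cfsg.Prelude.Def_Transfer
import Cfsg.Prelude.Def_Solvable
import Cfsg.Agent.Lib.Helper65.RelMaxCent
import Cfsg.Agent.Lib.Helper73.BHMFrob

/-!
# Relative maximal centralizers: passage to `N / Z(N)` (helper65)
-/

set_option autoImplicit false

universe u

namespace Cfsg.Agent.Lib.Helper65

variable {G : Type u} [Group G] (N : Subgroup G)

/-- the quotient map `N → N / Z(N)` -/
abbrev piN : ↥N →* ↥N ⧸ Subgroup.center ↥N := QuotientGroup.mk' (Subgroup.center ↥N)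

theorem piN_surj : Function.Surjective (piN N) := QuotientGroup.mk'_surjective _

theorem mem_center_iff_zN (n : ↥N) : n ∈ Subgroup.center ↥N ↔ (n : G) ∈ zN N := by
  rw [Subgroup.mem_center_iff, mem_zN]
  constructor
  · intro h
    refine ⟨n.2, fun m hm => ?_⟩
    have := congrArg Subtype.val (h ⟨m, hm⟩)
    simpa using this
  · rintro ⟨_, h⟩ m
    apply Subtype.ext
    simpa using h m m.2

theorem piN_eq_one_iff (n : ↥N) : piN N n = 1 ↔ (n : G) ∈ zN N := by
  rw [QuotientGroup.mk'_apply, QuotientGroup.eq_one_iff, mem_center_iff_zN]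

/-- the image in `N / Z(N)` of a subgroup of `G` -/
def imgN (H : Subgroup G) : Subgroup (↥N ⧸ Subgroup.center ↥N) := (H.subgroupOf N).map (piN N)

variable {N}

theorem mem_imgN {H : Subgroup G} (hZ : zN N ≤ H) (n : ↥N) :
    piN N n ∈ imgN N H ↔ (n : G) ∈ H := by
  rw [imgN, Subgroup.mem_map]
  constructor
  · rintro ⟨m, hm, hmn⟩
    rw [Subgroup.mem_subgroupOf] at hm
    have h1 : piN N (m⁻¹ * n) = 1 := by rw [map_mul, map_inv, hmn]; group
    rw [piN_eq_one_iff] at h1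
    have h2 : (n : G) = (m : G) * ((m⁻¹ * n : ↥N) : G) := by
      simp
    rw [h2]
    exact H.mul_mem hm (hZ h1)
  · intro h
    exact ⟨n, Subgroup.mem_subgroupOf.2 h, rfl⟩

theorem exists_of_mem_imgN {H : Subgroup G} {y : ↥N ⧸ Subgroup.center ↥N} (hy : y ∈ imgN N H) :
    ∃ n : ↥N, (n : G) ∈ H ∧ piN N n = y := by
  rw [imgN, Subgroup.mem_map] at hy
  obtain ⟨m, hm, hmn⟩ := hy
  exact ⟨m, Subgroup.mem_subgroupOf.1 hm, hmn⟩

/-- conclusion (E) in the quotient -/
theorem elemAb_of_E {p : ℕ} (hcomm : ∀ a ∈ N, ∀ b ∈ N, a * b * a⁻¹ * b⁻¹ ∈ zN N)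
    (hpow : ∀ a ∈ N, a ^ p ∈ zN N) :
    Cfsg.IsElementaryAbelian p (⊤ : Subgroup (↥N ⧸ Subgroup.center ↥N)) := by
  refine ⟨?_, ?_⟩
  · rw [isMulCommutative_iff]
    rintro ⟨u, _⟩ ⟨v, _⟩
    obtain ⟨a, rfl⟩ := piN_surj N u
    obtain ⟨b, rfl⟩ := piN_surj N v
    apply Subtype.ext
    show piN N a * piN N b = piN N b * piN N a
    have h1 : piN N (a * b * a⁻¹ * b⁻¹) = 1 := by
      rw [piN_eq_one_iff]
      simpa using hcomm a a.2 b b.2
    rw [map_mul, map_mul, map_mul, map_inv, map_inv] at h1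
    set A := piN N a
    set B := piN N b
    calc A * B = (A * B * A⁻¹ * B⁻¹) * (B * A) := by group
      _ = B * A := by rw [h1, one_mul]
  · intro u _
    obtain ⟨a, rfl⟩ := piN_surj N u
    rw [← map_pow, piN_eq_one_iff]
    simpa using hpow a a.2

end Cfsg.Agent.Lib.Helper65
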