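import Mathlib
import Cfsg.Agent.Lib.Helper65.RelMaxCentA
import Cfsg.Agent.Lib.Helper65.MaxCentStruct

/-!
# Relative maximal centralizers: the case of a normal, centralized `C_N(x)` (helper65)

`x ∈ N ∖ Z(N)` with `A = C_N(x)` centralized by `C_G(x)` and normal in `N`.  Then `C_G(x) = C_G(A)`
is a normal maximal subgroup, `A` is abelian of prime index `r` in `N`, and either `N/Z(N)` is an
elementary abelian `r`-group or a Frobenius group with kernel `A/Z(N)`.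
-/

set_option autoImplicit false

universe u

namespace Cfsg.Agent.Lib.Helper65

variable {G : Type u} [Group G]

/-- powers of a product modulo a normal subgroup containing the commutators -/
theorem pow_mul_mod {N C : Subgroup G} (hCn : ∀ n ∈ N, ∀ c ∈ C, n * c * n⁻¹ ∈ C)
    (hcomm : ∀ a ∈ N, ∀ b ∈ N, a * b * a⁻¹ * b⁻¹ ∈ C) {a b : G} (ha : a ∈ N) (hb : b ∈ N) :
    ∀ k : ℕ, ∃ c ∈ C, (a * b) ^ k = a ^ k * b ^ k * c := by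
  intro k
  induction k with
  | zero => exact ⟨1, C.one_mem, by simp⟩
  | succ k ih =>
    obtain ⟨c, hc, hk⟩ := ih
    have h1 : (b ^ k)⁻¹ * a⁻¹ * ((b ^ k)⁻¹)⁻¹ * (a⁻¹)⁻¹ ∈ C :=
      hcomm _ (N.inv_mem (N.pow_mem hb k)) _ (N.inv_mem ha)
    have h2 : a⁻¹ * c * a ∈ C := by
      have := hCn a⁻¹ (N.inv_mem ha) c hc
      simpa using this
    have h4 : b⁻¹ * (((b ^ k)⁻¹ * a⁻¹ * ((b ^ k)⁻¹)⁻¹ * (a⁻¹)⁻¹) * (a⁻¹ * c * a)) * b ∈ C := by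
      have := hCn b⁻¹ (N.inv_mem hb) _ (C.mul_mem h1 h2)
      simpa using this
    refine ⟨_, h4, ?_⟩
    rw [pow_succ, hk, pow_succ, pow_succ]
    group

theorem x1_core [Finite G] {N : Subgroup G} [hN : N.Normal] (h : RelMaxCent N) {x : G}
    (hx : x ∈ N) (hxz : x ∉ zN N) (hI : ∀ c ∈ N, c ∈ cen x → cen x ≤ cen c)
    (hnorm : ∀ n ∈ N, ∀ c ∈ N ⊓ cen x, n * c * n⁻¹ ∈ N ⊓ cen x) :
    (∀ a ∈ N ⊓ cen x, ∀ b ∈ N ⊓ cen x, a * b = b * a) ∧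
    (∀ g : G, ∀ c ∈ N ⊓ cen x, g * c * g⁻¹ ∈ N ⊓ cen x) ∧
    ∃ r : ℕ, r.Prime ∧ (∀ n ∈ N, n ^ r ∈ N ⊓ cen x) ∧
      (∀ g₀ ∈ N, g₀ ∉ cen x →
         (∀ n ∈ N, ∃ a ∈ N ⊓ cen x, ∃ j : ℤ, n = a * g₀ ^ j) ∧
         (∀ a ∈ N ⊓ cen x, a * g₀ = g₀ * a → a ∈ zN N)) := by
  set A : Subgroup G := N ⊓ cen x with hA
  have hab : ∀ a ∈ A, ∀ b ∈ A, a * b = b * a := by
    rintro a ⟨_, ha2⟩ b ⟨hb1, hb2⟩
    exact mem_cen_iff.1 (hI b hb1 hb2 ha2)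
  have hAG : ∀ g : G, ∀ c ∈ A, g * c * g⁻¹ ∈ A := by
    intro g c hc
    refine conj_mem_of_N_of_cen h hx hxz A hnorm ?_ g hc
    rintro m hm c ⟨hc1, hc2⟩
    exact ⟨hN.conj_mem c hc1 m, (cen x).mul_mem ((cen x).mul_mem hm hc2) ((cen x).inv_mem hm)⟩
  have hxA : x ∈ A := ⟨hx, self_mem_cen x⟩
  -- `cen x` is normal in `G`
  have hMn : (cen x).Normal := by
    constructor
    intro m hm g
    rw [mem_cen_iff]
    have h1 : g⁻¹ * x * g ∈ A := by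
      have := hAG g⁻¹ x hxA
      simpa using this
    have h2 : m ∈ cen (g⁻¹ * x * g) := hI _ h1.1 h1.2 hm
    rw [mem_cen_iff] at h2
    calc g * m * g⁻¹ * x = g * (m * (g⁻¹ * x * g)) * g⁻¹ := by group
      _ = g * ((g⁻¹ * x * g) * m) * g⁻¹ := by rw [h2]
      _ = x * (g * m * g⁻¹) := by group
  obtain ⟨r, hr, _, hpow, hcomm⟩ := normal_coatom_prime_index (cen x) (h x hx hxz)
  refine ⟨hab, hAG, r, hr, fun n hn => ⟨N.pow_mem hn r, hpow n⟩, ?_⟩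
  intro g₀ hg₀N hg₀x
  -- the subgroup `A ⊔ zpowers g₀`
  have hdec : ∀ n ∈ N, ∃ a ∈ A, ∃ j : ℤ, n = a * g₀ ^ j := by
    set H : Subgroup G := A ⊔ Subgroup.zpowers g₀ with hH
    have hzA : ∀ m ∈ Subgroup.zpowers g₀, ∀ a ∈ A, m * a * m⁻¹ ∈ A := fun m _ a ha => hAG m a ha
    have hHN : H ≤ N := by
      rw [hH]
      exact sup_le inf_le_left ((Subgroup.zpowers_le).2 hg₀N)
    have hg₀H : g₀ ∈ H := (le_sup_right : Subgroup.zpowers g₀ ≤ H) (Subgroup.mem_zpowers g₀)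
    have hinv : ∀ m ∈ cen x, ∀ k ∈ H, m * k * m⁻¹ ∈ H := by
      intro m hm k hk
      obtain ⟨a, ha, b, hb, rfl⟩ := exists_mul_of_mem_sup (H := A) (M := Subgroup.zpowers g₀)
        hzA hk
      obtain ⟨j, rfl⟩ := Subgroup.mem_zpowers_iff.1 hb
      have e : m * (a * g₀ ^ j) * m⁻¹ = (m * a * m⁻¹) * (m * g₀ * m⁻¹) ^ j := by
        rw [conj_zpow]; group
      rw [e]
      apply H.mul_mem ((le_sup_left : A ≤ H) (hAG m a ha))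
      apply H.zpow_mem
      have h3 : m * g₀ * m⁻¹ * g₀⁻¹ ∈ A := ⟨by
        exact N.mul_mem (hN.conj_mem g₀ hg₀N m) (N.inv_mem hg₀N), hcomm m g₀⟩
      have e2 : m * g₀ * m⁻¹ = (m * g₀ * m⁻¹ * g₀⁻¹) * g₀ := by group
      rw [e2]
      exact H.mul_mem ((le_sup_left : A ≤ H) h3) hg₀H
    rcases rel_inv_dichotomy h hx hxz H hHN hinv with h1 | h1
    · exact absurd (h1 hg₀H) hg₀x
    · intro n hn
      obtain ⟨k, hk, c, hc, hcN, rfl⟩ := h1 n hn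
      have hkc : k * c ∈ H := H.mul_mem hk ((le_sup_left : A ≤ H) ⟨hcN, hc⟩)
      obtain ⟨a, ha, b, hb, hkc'⟩ := exists_mul_of_mem_sup (H := A) (M := Subgroup.zpowers g₀)
        hzA hkc
      obtain ⟨j, rfl⟩ := Subgroup.mem_zpowers_iff.1 hb
      exact ⟨a, ha, j, hkc'⟩
  refine ⟨hdec, ?_⟩
  intro a ha hag
  rw [mem_zN]
  refine ⟨ha.1, fun n hn => ?_⟩
  obtain ⟨b, hb, j, rfl⟩ := hdec n hn
  have h1 : Commute a b := hab a ha b hb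
  have h2 : Commute a (g₀ ^ j) := (show Commute a g₀ from hag).zpow_right j
  exact ((h1.mul_right h2).eq).symm

/-- a non-member of a subgroup has a power which is a non-member with `p`-th power a member -/
theorem exists_prime_pow_mem [Finite G] (Z : Subgroup G) (a : G) (ha : a ∉ Z) :
    ∃ p : ℕ, p.Prime ∧ ∃ a' ∈ Subgroup.zpowers a, a' ∉ Z ∧ a' ^ p ∈ Z := by
  classical
  have hex : ∃ k : ℕ, 0 < k ∧ a ^ k ∈ Z :=
    ⟨orderOf a, orderOf_pos a, by rw [pow_orderOf_eq_one]; exact Z.one_mem⟩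
  set k := Nat.find hex with hk
  obtain ⟨hk0, hkZ⟩ := Nat.find_spec hex
  have hk1 : k ≠ 1 := by
    intro h1
    rw [← hk, h1, pow_one] at hkZ
    exact ha hkZ
  have hp : (Nat.minFac k).Prime := Nat.minFac_prime hk1
  obtain ⟨t, ht⟩ := Nat.minFac_dvd k
  have ht0 : 0 < t := by
    rcases Nat.eq_zero_or_pos t with h0 | h0
    · rw [h0, mul_zero] at ht; omega
    · exact h0
  have htk : t < k := by
    have := hp.two_le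
    nlinarith
  refine ⟨Nat.minFac k, hp, a ^ t, Subgroup.pow_mem _ (Subgroup.mem_zpowers a) t, ?_, ?_⟩
  · intro hmem
    exact Nat.find_min hex htk ⟨ht0, hmem⟩
  · rw [← pow_mul, mul_comm, ← ht]
    exact hkZ

/-- Case X1a: some `g₀ ∈ N ∖ A` acts trivially on `A / Z(N)`: `N / Z(N)` is elementary abelian. -/
theorem x1a [Finite G] {N : Subgroup G} [hN : N.Normal] (h : RelMaxCent N) {x : G}
    (hx : x ∈ N) (hxz : x ∉ zN N) (hI : ∀ c ∈ N, c ∈ cen x → cen x ≤ cen c)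
    (hnorm : ∀ n ∈ N, ∀ c ∈ N ⊓ cen x, n * c * n⁻¹ ∈ N ⊓ cen x)
    (hcl : ∃ g₀ ∈ N, g₀ ∉ cen x ∧ ∀ a ∈ N ⊓ cen x, a * g₀ * a⁻¹ * g₀⁻¹ ∈ zN N) :
    ∃ p : ℕ, p.Prime ∧ (∀ a ∈ N, ∀ b ∈ N, a * b * a⁻¹ * b⁻¹ ∈ zN N) ∧
      ∀ a ∈ N, a ^ p ∈ zN N := by
  obtain ⟨hab, hAG, r, hr, hpow, hcore⟩ := x1_core h hx hxz hI hnorm
  obtain ⟨g₀, hg₀N, hg₀x, hcl'⟩ := hcl
  obtain ⟨hdec, hCA⟩ := hcore g₀ hg₀N hg₀x
  -- the second center
  let Y₂ : Subgroup G :=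
    { carrier := {n | n ∈ N ∧ ∀ m ∈ N, n * m * n⁻¹ * m⁻¹ ∈ zN N}
      one_mem' := ⟨N.one_mem, fun m _ => by simp [Subgroup.one_mem]⟩
      mul_mem' := by
        rintro a b ⟨ha, ha'⟩ ⟨hb, hb'⟩
        refine ⟨N.mul_mem ha hb, fun m hm => ?_⟩
        have e : a * b * m * (a * b)⁻¹ * m⁻¹ = (a * (b * m * b⁻¹ * m⁻¹) * a⁻¹) * (a * m * a⁻¹ * m⁻¹) := by
          group
        rw [e]
        exact (zN N).mul_mem (zN_conj_mem a (hb' m hm)) (ha' m hm)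
      inv_mem' := by
        rintro a ⟨ha, ha'⟩
        refine ⟨N.inv_mem ha, fun m hm => ?_⟩
        have e : a⁻¹ * m * a⁻¹⁻¹ * m⁻¹ = a⁻¹ * (a * m * a⁻¹ * m⁻¹)⁻¹ * a⁻¹⁻¹ := by group
        rw [e]
        exact zN_conj_mem a⁻¹ ((zN N).inv_mem (ha' m hm)) }
  have hY₂ : ∀ n : G, n ∈ Y₂ ↔ n ∈ N ∧ ∀ m ∈ N, n * m * n⁻¹ * m⁻¹ ∈ zN N := fun n => Iff.rfl
  have hAY : ∀ a ∈ N ⊓ cen x, a ∈ Y₂ := by
    intro a ha
    rw [hY₂]
    refine ⟨ha.1, fun m hm => ?_⟩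
    obtain ⟨b, hb, j, rfl⟩ := hdec m hm
    set z := a * g₀ * a⁻¹ * g₀⁻¹ with hz
    have hzZ : z ∈ zN N := hcl' a ha
    have hzc : Commute z g₀ := (zN_comm hzZ hg₀N).symm
    have e1 : a * g₀ ^ j * a⁻¹ = (a * g₀ * a⁻¹) ^ j := (conj_zpow).symm
    have e2 : a * g₀ * a⁻¹ = z * g₀ := by rw [hz]; group
    have key : a * g₀ ^ j * a⁻¹ * (g₀ ^ j)⁻¹ = z ^ j := by
      rw [e1, e2, hzc.mul_zpow]; group
    have e3 : a * (b * g₀ ^ j) * a⁻¹ * (b * g₀ ^ j)⁻¹ =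
        b * (a * g₀ ^ j * a⁻¹ * (g₀ ^ j)⁻¹) * b⁻¹ := by
      calc a * (b * g₀ ^ j) * a⁻¹ * (b * g₀ ^ j)⁻¹
          = (a * b) * g₀ ^ j * a⁻¹ * (g₀ ^ j)⁻¹ * b⁻¹ := by group
        _ = (b * a) * g₀ ^ j * a⁻¹ * (g₀ ^ j)⁻¹ * b⁻¹ := by rw [hab a ha b hb]
        _ = b * (a * g₀ ^ j * a⁻¹ * (g₀ ^ j)⁻¹) * b⁻¹ := by group
    rw [e3, key]
    exact zN_conj_mem b ((zN N).zpow_mem hzZ j)
  have hgY : g₀ ∈ Y₂ := by
    rw [hY₂]
    refine ⟨hg₀N, fun m hm => ?_⟩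
    obtain ⟨b, hb, j, rfl⟩ := hdec m hm
    have e : g₀ * (b * g₀ ^ j) * g₀⁻¹ * (b * g₀ ^ j)⁻¹ = (b * g₀ * b⁻¹ * g₀⁻¹)⁻¹ := by group
    rw [e]
    exact (zN N).inv_mem (hcl' b hb)
  have hcomm : ∀ a ∈ N, ∀ b ∈ N, a * b * a⁻¹ * b⁻¹ ∈ zN N := by
    intro a ha b hb
    obtain ⟨a', ha', j, rfl⟩ := hdec a ha
    have : a' * g₀ ^ j ∈ Y₂ := Y₂.mul_mem (hAY a' ha') (Y₂.zpow_mem hgY j)
    exact ((hY₂ _).1 this).2 b hb
  refine ⟨r, hr, hcomm, ?_⟩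
  have hout : ∀ n ∈ N, n ∉ cen x → n ^ r ∈ zN N := by
    intro n hn hnx
    obtain ⟨_, hCAn⟩ := hcore n hn hnx
    apply hCAn _ (hpow n hn)
    exact ((Commute.refl n).pow_left r).eq
  intro n hn
  by_cases hnx : n ∈ cen x
  · have hng : n * g₀ ∉ cen x := by
      intro hc
      apply hg₀x
      have : g₀ = n⁻¹ * (n * g₀) := by group
      rw [this]
      exact (cen x).mul_mem ((cen x).inv_mem hnx) hc
    have h1 := hout (n * g₀) (N.mul_mem hn hg₀N) hng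
    have h2 := hout g₀ hg₀N hg₀x
    obtain ⟨c, hc, hk⟩ := pow_mul_mod (N := N) (C := zN N)
      (fun n _ c hc => zN_conj_mem n hc) hcomm hn hg₀N r
    have e : n ^ r = (n * g₀) ^ r * c⁻¹ * (g₀ ^ r)⁻¹ := by rw [hk]; group
    rw [e]
    exact (zN N).mul_mem ((zN N).mul_mem h1 ((zN N).inv_mem hc)) ((zN N).inv_mem h2)
  · exact hout n hn hnx

end Cfsg.Agent.Lib.Helper65
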