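import Mathlib
import Cfsg.Agent.Lib.Helper65.RelMaxCentX1

/-!
# Relative maximal centralizers: case X1b (helper65)

`A = C_N(x)` normal and centralized by `C_G(x)`, and no element of `N ∖ A` acts trivially on
`A / Z(N)`: then `N / Z(N)` is a Frobenius group with kernel `A / Z(N)` (elementary abelian) and
complement of prime order.  Here the internal data are produced.
-/

set_option autoImplicit false

universe u

namespace Cfsg.Agent.Lib.Helper65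

variable {G : Type u} [Group G]

theorem x1b [Finite G] {N : Subgroup G} [hN : N.Normal] (h : RelMaxCent N) {x : G}
    (hx : x ∈ N) (hxz : x ∉ zN N) (hI : ∀ c ∈ N, c ∈ cen x → cen x ≤ cen c)
    (hnorm : ∀ n ∈ N, ∀ c ∈ N ⊓ cen x, n * c * n⁻¹ ∈ N ⊓ cen x)
    (hncl : ¬ ∃ g₀ ∈ N, g₀ ∉ cen x ∧ ∀ a ∈ N ⊓ cen x, a * g₀ * a⁻¹ * g₀⁻¹ ∈ zN N) :
    ∃ (g₀ : G) (r p : ℕ), g₀ ∈ N ∧ g₀ ∉ cen x ∧ r.Prime ∧ p.Prime ∧ g₀ ^ r ∈ zN N ∧
      (∀ n ∈ N, ∃ a ∈ N ⊓ cen x, ∃ j : ℤ, n = a * g₀ ^ j) ∧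
      (∀ a ∈ N ⊓ cen x, a * g₀ = g₀ * a → a ∈ zN N) ∧
      (∀ a ∈ N ⊓ cen x, ∀ n ∈ N, n ∉ cen x → a * n * a⁻¹ * n⁻¹ ∈ zN N → a ∈ zN N) ∧
      (∀ a ∈ N ⊓ cen x, ∀ b ∈ N ⊓ cen x, a * b = b * a) ∧
      (∀ g : G, ∀ c ∈ N ⊓ cen x, g * c * g⁻¹ ∈ N ⊓ cen x) ∧
      (∀ a ∈ N ⊓ cen x, a ^ p ∈ zN N) := by
  obtain ⟨hab, hAG, r, hr, hpow, hcore⟩ := x1_core h hx hxz hI hnorm
  obtain ⟨g₀, hg₀N, hg₀x⟩ := cen_ne_top_of_notMem_zN hx hxz
  obtain ⟨hdec, hCA⟩ := hcore g₀ hg₀N hg₀x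
  have hZA : zN N ≤ N ⊓ cen x := le_inf (zN_le N) (zN_le_cen hx)
  have hxA : x ∈ N ⊓ cen x := ⟨hx, self_mem_cen x⟩
  have hg₀r : g₀ ^ r ∈ zN N := by
    apply hCA _ (hpow g₀ hg₀N)
    exact ((Commute.refl g₀).pow_left r).eq
  -- (c)
  have hc : ∀ a ∈ N ⊓ cen x, ∀ n ∈ N, n ∉ cen x → a * n * a⁻¹ * n⁻¹ ∈ zN N → a ∈ zN N := by
    intro a ha n hn hnx hz
    obtain ⟨_, hCAn⟩ := hcore n hn hnx
    have hnz : n ∉ zN N := fun hc => hnx (zN_le_cen hx hc)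
    let L : Subgroup G :=
      { carrier := {a | a ∈ N ⊓ cen x ∧ a * n * a⁻¹ * n⁻¹ ∈ zN N}
        one_mem' := ⟨Subgroup.one_mem _, by simp [Subgroup.one_mem]⟩
        mul_mem' := by
          rintro a b ⟨ha, ha'⟩ ⟨hb, hb'⟩
          refine ⟨Subgroup.mul_mem _ ha hb, ?_⟩
          have e : a * b * n * (a * b)⁻¹ * n⁻¹ =
              (a * (b * n * b⁻¹ * n⁻¹) * a⁻¹) * (a * n * a⁻¹ * n⁻¹) := by group
          rw [e]
          exact (zN N).mul_mem (zN_conj_mem a hb') ha'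
        inv_mem' := by
          rintro a ⟨ha, ha'⟩
          refine ⟨Subgroup.inv_mem _ ha, ?_⟩
          have e : a⁻¹ * n * a⁻¹⁻¹ * n⁻¹ = a⁻¹ * (a * n * a⁻¹ * n⁻¹)⁻¹ * a⁻¹⁻¹ := by group
          rw [e]
          exact zN_conj_mem a⁻¹ ((zN N).inv_mem ha') }
    have hL : ∀ a : G, a ∈ L ↔ a ∈ N ⊓ cen x ∧ a * n * a⁻¹ * n⁻¹ ∈ zN N := fun a => Iff.rfl
    have hLN : L ≤ N := fun a ha => ((hL a).1 ha).1.1
    have hinv : ∀ m ∈ cen n, ∀ k ∈ L, m * k * m⁻¹ ∈ L := by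
      intro m hm k hk
      obtain ⟨hk1, hk2⟩ := (hL k).1 hk
      rw [hL]
      refine ⟨hAG m k hk1, ?_⟩
      have hmn : m * n = n * m := mem_cen_iff.1 hm
      have e0 : m⁻¹ * n * m = n := by rw [mul_assoc, ← hmn]; group
      have e : m * k * m⁻¹ * n * (m * k * m⁻¹)⁻¹ * n⁻¹ =
          m * (k * (m⁻¹ * n * m) * k⁻¹ * (m⁻¹ * n * m)⁻¹) * m⁻¹ := by group
      rw [e, e0]
      exact zN_conj_mem m hk2
    have haL : a ∈ L := (hL a).2 ⟨ha, hz⟩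
    rcases rel_inv_dichotomy h hn hnz L hLN hinv with h1 | h1
    · apply hCAn a ha
      exact (mem_cen_iff.1 (h1 haL))
    · exfalso
      apply hncl
      refine ⟨n, hn, hnx, fun a' ha' => ?_⟩
      obtain ⟨k, hk, c, hcn, hcN, rfl⟩ := h1 a' ha'.1
      obtain ⟨hk1, hk2⟩ := (hL k).1 hk
      have hcA : c ∈ N ⊓ cen x := by
        have : c = k⁻¹ * (k * c) := by group
        rw [this]
        exact Subgroup.mul_mem _ (Subgroup.inv_mem _ hk1) ha'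
      have hcn' : c * n = n * c := mem_cen_iff.1 hcn
      have e : k * c * n * (k * c)⁻¹ * n⁻¹ = k * n * k⁻¹ * n⁻¹ := by
        have e1 : c * n * c⁻¹ = n := by rw [hcn']; group
        calc k * c * n * (k * c)⁻¹ * n⁻¹ = k * (c * n * c⁻¹) * k⁻¹ * n⁻¹ := by group
          _ = k * n * k⁻¹ * n⁻¹ := by rw [e1]
      rw [e]
      exact hk2
  -- (d)
  obtain ⟨p, hp, a', ha'P, ha'Z, ha'p⟩ := exists_prime_pow_mem (zN N) x hxz
  have ha'A : a' ∈ N ⊓ cen x := (Subgroup.zpowers_le.2 hxA) ha'P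
  have hd : ∀ a ∈ N ⊓ cen x, a ^ p ∈ zN N := by
    let L : Subgroup G :=
      { carrier := {a | a ∈ N ⊓ cen x ∧ a ^ p ∈ zN N}
        one_mem' := ⟨Subgroup.one_mem _, by simp [Subgroup.one_mem]⟩
        mul_mem' := by
          rintro a b ⟨ha, ha'⟩ ⟨hb, hb'⟩
          refine ⟨Subgroup.mul_mem _ ha hb, ?_⟩
          rw [(show Commute a b from hab a ha b hb).mul_pow]
          exact (zN N).mul_mem ha' hb'
        inv_mem' := by
          rintro a ⟨ha, ha'⟩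
          refine ⟨Subgroup.inv_mem _ ha, ?_⟩
          rw [inv_pow]
          exact (zN N).inv_mem ha' }
    have hL : ∀ a : G, a ∈ L ↔ a ∈ N ⊓ cen x ∧ a ^ p ∈ zN N := fun a => Iff.rfl
    have hLN : L ≤ N := fun a ha => ((hL a).1 ha).1.1
    have hg₀z : g₀ ∉ zN N := fun hc => hg₀x (zN_le_cen hx hc)
    have hinv : ∀ m ∈ cen g₀, ∀ k ∈ L, m * k * m⁻¹ ∈ L := by
      intro m _ k hk
      obtain ⟨hk1, hk2⟩ := (hL k).1 hk
      rw [hL]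
      refine ⟨hAG m k hk1, ?_⟩
      rw [conj_pow]
      exact zN_conj_mem m hk2
    rcases rel_inv_dichotomy h hg₀N hg₀z L hLN hinv with h1 | h1
    · exfalso
      apply ha'Z
      apply hCA a' ha'A
      exact mem_cen_iff.1 (h1 ((hL a').2 ⟨ha'A, ha'p⟩))
    · intro a ha
      obtain ⟨k, hk, c, hcg, hcN, rfl⟩ := h1 a ha.1
      obtain ⟨hk1, hk2⟩ := (hL k).1 hk
      have hcA : c ∈ N ⊓ cen x := by
        have : c = k⁻¹ * (k * c) := by group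
        rw [this]
        exact Subgroup.mul_mem _ (Subgroup.inv_mem _ hk1) ha
      have hcZ : c ∈ zN N := hCA c hcA (mem_cen_iff.1 hcg)
      rw [(show Commute k c from hab k hk1 c hcA).mul_pow]
      exact (zN N).mul_mem hk2 ((zN N).pow_mem hcZ p)
  exact ⟨g₀, r, p, hg₀N, hg₀x, hr, hp, hg₀r, hdec, hCA, hc, hab, hAG, hd⟩

end Cfsg.Agent.Lib.Helper65
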