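import Mathlib
import Cfsg.Agent.Lib.Helper65.RelMaxCentQ
import Cfsg.Agent.Lib.Helper65.RelMaxCentX1b

/-!
# Relative maximal centralizers: case X1 in the quotient (helper65)
-/

set_option autoImplicit false

universe u

namespace Cfsg.Agent.Lib.Helper65

variable {G : Type u} [Group G]

/-- the final form of the conclusion of the theorem -/
def RelConclusion (N : Subgroup G) : Prop :=
  (∃ p : ℕ, p.Prime ∧ Cfsg.IsElementaryAbelian p (⊤ : Subgroup (↥N ⧸ Subgroup.center ↥N))) ∨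
    (∃ (Q K : Subgroup (↥N ⧸ Subgroup.center ↥N)) (p : ℕ), p.Prime ∧
      Cfsg.IsFrobeniusComplement Q ∧ (Nat.card ↥Q).Prime ∧
      K.Normal ∧ (K : Set (↥N ⧸ Subgroup.center ↥N)) = Cfsg.frobeniusKernel Q ∧
      Cfsg.IsElementaryAbelian p K)

theorem imgN_normal {N : Subgroup G} (A : Subgroup G) (hAG : ∀ g : G, ∀ c ∈ A, g * c * g⁻¹ ∈ A) :
    (imgN N A).Normal := by
  have h1 : (A.subgroupOf N).Normal := by
    constructor
    intro n hn g
    rw [Subgroup.mem_subgroupOf] at hn ⊢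
    simpa using hAG g n hn
  exact h1.map (piN N) (piN_surj N)

theorem elemAb_imgN {N : Subgroup G} (A : Subgroup G) {p : ℕ}
    (hab : ∀ a ∈ A, ∀ b ∈ A, a * b = b * a) (hd : ∀ a ∈ A, a ∈ N → a ^ p ∈ zN N) :
    Cfsg.IsElementaryAbelian p (imgN N A) := by
  refine ⟨?_, ?_⟩
  · rw [isMulCommutative_iff]
    rintro ⟨u, hu⟩ ⟨v, hv⟩
    obtain ⟨a, ha, rfl⟩ := exists_of_mem_imgN hu
    obtain ⟨b, hb, rfl⟩ := exists_of_mem_imgN hv
    apply Subtype.ext
    show piN N a * piN N b = piN N b * piN N a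
    rw [← map_mul, ← map_mul]
    congr 1
    apply Subtype.ext
    simpa using hab a ha b hb
  · intro u hu
    obtain ⟨a, ha, rfl⟩ := exists_of_mem_imgN hu
    rw [← map_pow, piN_eq_one_iff]
    simpa using hd a ha a.2

theorem conclusion_of_x1 [Finite G] {N : Subgroup G} [hN : N.Normal] (h : RelMaxCent N) {x : G}
    (hx : x ∈ N) (hxz : x ∉ zN N) (hI : ∀ c ∈ N, c ∈ cen x → cen x ≤ cen c)
    (hnorm : ∀ n ∈ N, ∀ c ∈ N ⊓ cen x, n * c * n⁻¹ ∈ N ⊓ cen x) : RelConclusion N := by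
  by_cases hcl : ∃ g₀ ∈ N, g₀ ∉ cen x ∧ ∀ a ∈ N ⊓ cen x, a * g₀ * a⁻¹ * g₀⁻¹ ∈ zN N
  · left
    obtain ⟨p, hp, hcomm, hpow⟩ := x1a h hx hxz hI hnorm hcl
    exact ⟨p, hp, elemAb_of_E hcomm hpow⟩
  · right
    obtain ⟨g₀, r, p, hg₀N, hg₀x, hr, hp, hg₀r, hdec, hCA, hc, hab, hAG, hd⟩ :=
      x1b h hx hxz hI hnorm hcl
    set A : Subgroup G := N ⊓ cen x with hA
    have hZA : zN N ≤ A := le_inf (zN_le N) (zN_le_cen hx)
    set K := imgN N A with hK
    haveI hKn : K.Normal := imgN_normal A hAG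
    let g₀' : ↥N := ⟨g₀, hg₀N⟩
    let x' : ↥N := ⟨x, hx⟩
    set T := Subgroup.zpowers (piN N g₀') with hT
    have hg₀z : g₀ ∉ zN N := fun hc => hg₀x (zN_le_cen hx hc)
    have hg1 : piN N g₀' ≠ 1 := by
      intro h1
      rw [piN_eq_one_iff] at h1
      exact hg₀z h1
    have hTbot : T ≠ ⊥ := by
      rw [hT, Ne, Subgroup.zpowers_eq_bot]
      exact hg1
    have hdisj : ∀ y, y ∈ K → y ∈ T → y = 1 := by
      intro y hyK hyT
      obtain ⟨j, rfl⟩ := Subgroup.mem_zpowers_iff.1 hyT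
      rw [← map_zpow] at hyK ⊢
      rw [mem_imgN hZA] at hyK
      rw [piN_eq_one_iff]
      apply hCA _ hyK
      have : ((g₀' ^ j : ↥N) : G) = g₀ ^ j := by simp [g₀']
      rw [this]
      exact ((Commute.refl g₀).zpow_left j).eq
    have hxK : piN N x' ∈ K := (mem_imgN hZA x').2 ⟨hx, self_mem_cen x⟩
    have hx1 : piN N x' ≠ 1 := by
      intro h1
      rw [piN_eq_one_iff] at h1
      exact hxz h1
    have hTtop : T ≠ ⊤ := by
      intro htop
      apply hx1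
      apply hdisj _ hxK
      rw [htop]
      exact Subgroup.mem_top _
    have hdecomp : ∀ y : ↥N ⧸ Subgroup.center ↥N, ∃ n ∈ K, ∃ t ∈ T, y = n * t := by
      intro y
      obtain ⟨n, rfl⟩ := piN_surj N y
      obtain ⟨a, ha, j, hnj⟩ := hdec n n.2
      let a' : ↥N := ⟨a, ha.1⟩
      refine ⟨piN N a', (mem_imgN hZA a').2 ha, (piN N g₀') ^ j,
        Subgroup.zpow_mem _ (Subgroup.mem_zpowers _) j, ?_⟩
      rw [← map_zpow, ← map_mul]
      congr 1
      apply Subtype.ext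
      simpa [a', g₀'] using hnj
    have hF : ∀ n ∈ K, n ≠ 1 → ∀ y : ↥N ⧸ Subgroup.center ↥N, n * y = y * n → y ∈ K := by
      intro k hk hk1 y hky
      obtain ⟨a, ha, rfl⟩ := exists_of_mem_imgN hk
      obtain ⟨n, rfl⟩ := piN_surj N y
      rw [mem_imgN hZA]
      by_contra hnA
      have hnx : (n : G) ∉ cen x := fun hc => hnA ⟨n.2, hc⟩
      have h1 : piN N (a * n * a⁻¹ * n⁻¹) = 1 := by
        rw [map_mul, map_mul, map_mul, map_inv, map_inv, hky]; group
      rw [piN_eq_one_iff] at h1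
      have h2 : (a : G) * n * (a : G)⁻¹ * (n : G)⁻¹ ∈ zN N := by simpa using h1
      have := hc a ha n n.2 hnx h2
      apply hk1
      rw [piN_eq_one_iff]
      exact this
    obtain ⟨hfrob, hker⟩ :=
      Cfsg.Agent.Lib.Helper73.frobenius_of_normal_complement K T hTbot hTtop hdisj hdecomp hF
    refine ⟨T, K, p, hp, hfrob, ?_, hKn, hker.symm, ?_⟩
    · haveI : Fact r.Prime := ⟨hr⟩
      have ho : orderOf (piN N g₀') = r := by
        apply orderOf_eq_prime _ hg1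
        rw [← map_pow, piN_eq_one_iff]
        simpa [g₀'] using hg₀r
      rw [hT, Nat.card_zpowers, ho]
      exact hr
    · exact elemAb_imgN A hab (fun a ha _ => hd a ha)

end Cfsg.Agent.Lib.Helper65
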