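import Mathlib
import Cfsg.Agent.Lib.Helper65.RelMaxCentQ1
import Cfsg.Agent.Lib.Helper65.FrobCrit
import Cfsg.Agent.S0035

/-!
# Relative maximal centralizers: case X2 (helper65)

`A = C_N(x)` centralized by `C_G(x)` but not normal in `N`: `A / Z(N)` is a Frobenius complement of
`N / Z(N)` of prime order, with elementary abelian kernel.
-/

set_option autoImplicit false

universe u

namespace Cfsg.Agent.Lib.Helper65

open scoped Pointwise

/-- in a Frobenius group, an element commuting with a nonidentity kernel element is in the kernel -/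
theorem frob_kernel_commute {X : Type*} [Group X] (H Kb : Subgroup X)
    (hH : Cfsg.IsFrobeniusComplement H) (hK : (Kb : Set X) = Cfsg.frobeniusKernel H)
    [hKn : Kb.Normal] (hdisj : ∀ y, y ∈ Kb → y ∈ H → y = 1)
    {k c : X} (hk : k ∈ Kb) (hk1 : k ≠ 1) (hc : c * k = k * c) : c ∈ Kb := by
  have hmem : ∀ y, y ∈ Kb ↔ (y = 1 ∨ ∀ g : X, y ∉ MulAut.conj g • H) := by
    intro y
    rw [← SetLike.mem_coe, hK]
    rfl
  by_contra hcK
  rw [hmem] at hcK
  push_neg at hcK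
  obtain ⟨hc1, g, hg⟩ := hcK
  rw [mem_conj_smul] at hg
  have hx₁K : g⁻¹ * k * g ∈ Kb := by
    have := hKn.conj_mem k hk g⁻¹
    simpa using this
  have hx₁1 : g⁻¹ * k * g ≠ 1 := by
    intro h1
    apply hk1
    have : k = g * (g⁻¹ * k * g) * g⁻¹ := by group
    rw [this, h1]; group
  have hcomm : (g⁻¹ * k * g)⁻¹ * (g⁻¹ * c * g) * (g⁻¹ * k * g) = g⁻¹ * c * g := by
    have : c = k⁻¹ * c * k := by rw [mul_assoc, hc]; group
    calc (g⁻¹ * k * g)⁻¹ * (g⁻¹ * c * g) * (g⁻¹ * k * g) = g⁻¹ * (k⁻¹ * c * k) * g := by group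
      _ = g⁻¹ * c * g := by rw [← this]
  by_cases hx₁H : g⁻¹ * k * g ∈ H
  · exact hx₁1 (hdisj _ hx₁K hx₁H)
  · have hTI := hH.2.2 _ hx₁H
    have h2 : g⁻¹ * c * g ∈ H ⊓ MulAut.conj (g⁻¹ * k * g) • H := by
      refine Subgroup.mem_inf.2 ⟨hg, ?_⟩
      rw [mem_conj_smul, hcomm]
      exact hg
    rw [hTI, Subgroup.mem_bot] at h2
    apply hc1
    have : c = g * (g⁻¹ * c * g) * g⁻¹ := by group
    rw [this, h2]; group

/-- a nontrivial finite subgroup in which every nonidentity element generates has prime order -/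
theorem prime_card_of_all_generate {X : Type*} [Group X] [Finite X] (Q : Subgroup X)
    (hne : Q ≠ ⊥) (h : ∀ a ∈ Q, a ≠ 1 → ∀ b ∈ Q, b ∈ Subgroup.zpowers a) :
    (Nat.card ↥Q).Prime := by
  obtain ⟨a, haQ, ha1⟩ : ∃ a ∈ Q, a ≠ 1 := by
    by_contra hcon
    push_neg at hcon
    apply hne
    rw [eq_bot_iff]
    intro b hb
    rw [Subgroup.mem_bot]
    exact hcon b hb
  have hQ : Q = Subgroup.zpowers a := by
    apply le_antisymm
    · intro b hb; exact h a haQ ha1 b hb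
    · exact (Subgroup.zpowers_le).2 haQ
  have hn1 : orderOf a ≠ 1 := by
    intro h1
    exact ha1 (orderOf_eq_one_iff.1 h1)
  have hn0 : orderOf a ≠ 0 := (orderOf_pos a).ne'
  set p := Nat.minFac (orderOf a) with hp
  have hpp : p.Prime := Nat.minFac_prime hn1
  have hpd : p ∣ orderOf a := Nat.minFac_dvd _
  have ho : orderOf (a ^ (orderOf a / p)) = p := orderOf_pow_orderOf_div hn0 hpd
  have ha'Q : a ^ (orderOf a / p) ∈ Q := Q.pow_mem haQ _
  have ha'1 : a ^ (orderOf a / p) ≠ 1 := by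
    intro h1
    rw [h1, orderOf_one] at ho
    exact hpp.one_lt.ne ho
  have hmem := h _ ha'Q ha'1 a haQ
  obtain ⟨j, hj⟩ := Subgroup.mem_zpowers_iff.1 hmem
  have hbp : (a ^ (orderOf a / p)) ^ p = 1 := by
    have := pow_orderOf_eq_one (a ^ (orderOf a / p))
    rw [ho] at this
    exact this
  have hdvd : orderOf a ∣ p := by
    apply orderOf_dvd_of_pow_eq_one
    calc a ^ p = ((a ^ (orderOf a / p)) ^ j) ^ p := by rw [hj]
      _ = ((a ^ (orderOf a / p)) ^ p) ^ j := by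
        rw [← zpow_natCast, ← zpow_mul, mul_comm, zpow_mul, zpow_natCast]
      _ = 1 := by rw [hbp, one_zpow]
  have : orderOf a = p := by
    rcases (Nat.dvd_prime hpp).1 hdvd with h1 | h1
    · exact absurd h1 hn1
    · exact h1
  rw [hQ, Nat.card_zpowers, this]
  exact hpp

variable {G : Type u} [Group G]

theorem conclusion_of_x2 [Finite G] {N : Subgroup G} [hN : N.Normal] (h : RelMaxCent N) {x : G}
    (hx : x ∈ N) (hxz : x ∉ zN N) (hI : ∀ c ∈ N, c ∈ cen x → cen x ≤ cen c)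
    (hnn : ¬ ∀ n ∈ N, ∀ c ∈ N ⊓ cen x, n * c * n⁻¹ ∈ N ⊓ cen x) : RelConclusion N := by
  right
  set A : Subgroup G := N ⊓ cen x with hA
  have hZA : zN N ≤ A := le_inf (zN_le N) (zN_le_cen hx)
  have hxA : x ∈ A := ⟨hx, self_mem_cen x⟩
  have hab : ∀ a ∈ A, ∀ b ∈ A, a * b = b * a := by
    rintro a ⟨_, ha2⟩ b ⟨hb1, hb2⟩
    exact mem_cen_iff.1 (hI b hb1 hb2 ha2)
  -- `A` is self-normalizing in `N`
  have hsn : ∀ n ∈ N, (∀ c ∈ A, n * c * n⁻¹ ∈ A) → n ∈ cen x := by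
    intro n hn hnorm
    by_contra hnx
    apply hnn
    intro n' _ c hc
    exact rel_normal_of_normalizer_grows h hx hxz n hn hnx hnorm n' hc
  have hcenA : ∀ c ∈ A, c ∉ zN N → cen c = cen x := fun c hc hcz =>
    rel_cen_eq_of_le h hx hxz hc.1 hcz (hI c hc.1 hc.2)
  -- `A` is a TI subgroup modulo `Z`
  have hTI : ∀ n ∈ N, n ∉ cen x → ∀ c ∈ A, n * c * n⁻¹ ∈ A → c ∈ zN N := by
    intro n hn hnx c hc hc'
    by_contra hcz
    apply hnx
    apply hsn n hn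
    intro a ha
    have hc'z : n * c * n⁻¹ ∉ zN N := by
      intro hz
      apply hcz
      have := zN_conj_mem n⁻¹ hz
      have e : n⁻¹ * (n * c * n⁻¹) * n⁻¹⁻¹ = c := by group
      rw [e] at this
      exact this
    have h1 : cen c = cen x := hcenA c hc hcz
    have h2 : cen (n * c * n⁻¹) = cen x := hcenA _ hc' hc'z
    have hac : a * c = c * a := by
      have : a ∈ cen c := by rw [h1]; exact ha.2
      exact mem_cen_iff.1 this
    have h3 : n * a * n⁻¹ ∈ cen (n * c * n⁻¹) := by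
      rw [mem_cen_iff]
      calc n * a * n⁻¹ * (n * c * n⁻¹) = n * (a * c) * n⁻¹ := by group
        _ = n * (c * a) * n⁻¹ := by rw [hac]
        _ = n * c * n⁻¹ * (n * a * n⁻¹) := by group
    rw [h2] at h3
    exact ⟨hN.conj_mem a ha.1 n, h3⟩
  -- the Frobenius complement
  set Ab := imgN N A with hAb
  let x' : ↥N := ⟨x, hx⟩
  have hx1 : piN N x' ≠ 1 := by
    intro h1
    rw [piN_eq_one_iff] at h1
    exact hxz h1
  have hxAb : piN N x' ∈ Ab := (mem_imgN hZA x').2 hxA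
  have hAbot : Ab ≠ ⊥ := by
    intro hbot
    rw [hbot, Subgroup.mem_bot] at hxAb
    exact hx1 hxAb
  obtain ⟨n₀, hn₀N, hn₀x⟩ := cen_ne_top_of_notMem_zN hx hxz
  have hAtop : Ab ≠ ⊤ := by
    intro htop
    have : piN N ⟨n₀, hn₀N⟩ ∈ Ab := by rw [htop]; exact Subgroup.mem_top _
    rw [mem_imgN hZA] at this
    exact hn₀x this.2
  have hfrobA : Cfsg.IsFrobeniusComplement Ab := by
    refine ⟨hAbot, hAtop, ?_⟩
    intro g hg
    rw [eq_bot_iff]
    intro y hy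
    obtain ⟨hy1, hy2⟩ := Subgroup.mem_inf.1 hy
    obtain ⟨n, rfl⟩ := piN_surj N g
    obtain ⟨c, hc, rfl⟩ := exists_of_mem_imgN hy1
    rw [mem_conj_smul, ← map_inv, ← map_mul, ← map_mul, mem_imgN hZA] at hy2
    have hnA : (n : G) ∉ cen x := fun hc' => hg ((mem_imgN hZA n).2 ⟨n.2, hc'⟩)
    have hnA' : (n : G)⁻¹ ∉ cen x := by
      intro hc'
      apply hnA
      have := (cen x).inv_mem hc'
      simpa using this
    have hy2' : (n : G)⁻¹ * c * (n : G)⁻¹⁻¹ ∈ A := by simpa using hy2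
    have := hTI (n : G)⁻¹ (N.inv_mem n.2) hnA' c hc hy2'
    rw [Subgroup.mem_bot, piN_eq_one_iff]
    exact this
  obtain ⟨Kb, hKset, hKn, hKc⟩ := Cfsg.Agent.S0035.result Ab hfrobA
  have hKmem : ∀ y, y ∈ Kb ↔ (y = 1 ∨ ∀ g : ↥N ⧸ Subgroup.center ↥N, y ∉ MulAut.conj g • Ab) := by
    intro y
    rw [← SetLike.mem_coe, hKset]
    rfl
  have hdisjK : ∀ y, y ∈ Kb → y ∈ Ab → y = 1 := by
    intro y h1 h2
    exact (Subgroup.disjoint_def.1 hKc.disjoint) h1 h2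
  -- the preimage of the kernel
  set K : Subgroup G := (Kb.comap (piN N)).map N.subtype with hK
  have hKiff : ∀ n : ↥N, (n : G) ∈ K ↔ piN N n ∈ Kb := by
    intro n
    rw [hK, Subgroup.mem_map]
    constructor
    · rintro ⟨m, hm, hmn⟩
      have : m = n := Subtype.ext hmn
      rw [← this]
      exact hm
    · intro hn
      exact ⟨n, hn, rfl⟩
  have hKN : K ≤ N := by
    intro k hk
    rw [hK] at hk
    obtain ⟨m, _, rfl⟩ := Subgroup.mem_map.1 hk
    exact m.2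
  have hZK : zN N ≤ K := by
    intro z hz
    have : piN N ⟨z, zN_le N hz⟩ = 1 := (piN_eq_one_iff N _).2 hz
    have h2 := (hKiff ⟨z, zN_le N hz⟩).2 (by rw [this]; exact Kb.one_mem)
    exact h2
  have hKA : ∀ k ∈ K, k ∈ A → k ∈ zN N := by
    intro k hk hkA
    have h1 := (hKiff ⟨k, hKN hk⟩).1 hk
    have h2 := (mem_imgN hZA ⟨k, hKN hk⟩).2 hkA
    have := hdisjK _ h1 h2
    rw [piN_eq_one_iff] at this
    exact this
  have hK3N : ∀ n ∈ N, ∀ k ∈ K, n * k * n⁻¹ ∈ K := by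
    intro n hn k hk
    have h1 := (hKiff ⟨k, hKN hk⟩).1 hk
    have h2 := hKn.conj_mem _ h1 (piN N ⟨n, hn⟩)
    rw [← map_inv, ← map_mul, ← map_mul] at h2
    exact (hKiff _).2 h2
  have hK3M : ∀ m ∈ cen x, ∀ k ∈ K, m * k * m⁻¹ ∈ K := by
    intro m hm k hk
    have hkN := hKN hk
    have hkkN : m * k * m⁻¹ ∈ N := hN.conj_mem k hkN m
    have h1 := (hKiff ⟨k, hkN⟩).1 hk
    suffices hs : piN N ⟨m * k * m⁻¹, hkkN⟩ ∈ Kb from (hKiff ⟨m * k * m⁻¹, hkkN⟩).2 hs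
    rw [hKmem]
    by_cases h1' : piN N ⟨m * k * m⁻¹, hkkN⟩ = 1
    · left; exact h1'
    · right
      intro g hg
      apply h1'
      obtain ⟨n, rfl⟩ := piN_surj N g
      rw [mem_conj_smul, ← map_inv, ← map_mul, ← map_mul, mem_imgN hZA] at hg
      have hg' : (n : G)⁻¹ * (m * k * m⁻¹) * (n : G) ∈ A := by simpa using hg
      have hn₁N : m⁻¹ * (n : G) * m ∈ N := by
        have := hN.conj_mem (n : G) n.2 m⁻¹
        simpa using this
      -- `m` commutes with the element of `A`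
      have hma : m * ((n : G)⁻¹ * (m * k * m⁻¹) * (n : G)) =
          ((n : G)⁻¹ * (m * k * m⁻¹) * (n : G)) * m :=
        mem_cen_iff.1 (hI _ hg'.1 hg'.2 hm)
      have hconj : (m⁻¹ * (n : G) * m)⁻¹ * k * (m⁻¹ * (n : G) * m) ∈ A := by
        have e : (m⁻¹ * (n : G) * m)⁻¹ * k * (m⁻¹ * (n : G) * m) =
            m⁻¹ * (((n : G)⁻¹ * (m * k * m⁻¹) * (n : G)) * m) := by group
        rw [e, ← hma]
        have e2 : m⁻¹ * (m * ((n : G)⁻¹ * (m * k * m⁻¹) * (n : G))) =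
            (n : G)⁻¹ * (m * k * m⁻¹) * (n : G) := by group
        rw [e2]
        exact hg'
      have hmemc : piN N ⟨k, hkN⟩ ∈ MulAut.conj (piN N ⟨m⁻¹ * (n : G) * m, hn₁N⟩) • Ab := by
        rw [mem_conj_smul, ← map_inv, ← map_mul, ← map_mul, mem_imgN hZA]
        simpa using hconj
      have hk1 : piN N ⟨k, hkN⟩ = 1 := by
        rcases (hKmem _).1 h1 with h3 | h3
        · exact h3
        · exact absurd hmemc (h3 _)
      rw [piN_eq_one_iff] at hk1 ⊢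
      exact zN_conj_mem m hk1
  have hKG : ∀ g : G, ∀ k ∈ K, g * k * g⁻¹ ∈ K := fun g k hk =>
    conj_mem_of_N_of_cen h hx hxz K hK3N hK3M g hk
  -- a noncentral element of `K`
  obtain ⟨k₀, hk₀K, hk₀z⟩ : ∃ k₀ ∈ K, k₀ ∉ zN N := by
    by_contra hcon
    push_neg at hcon
    apply hAtop
    have hKbot : Kb = ⊥ := by
      rw [eq_bot_iff]
      intro y hy
      obtain ⟨n, rfl⟩ := piN_surj N y
      rw [Subgroup.mem_bot, piN_eq_one_iff]
      exact hcon _ ((hKiff n).2 hy)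
    rw [hKbot] at hKc
    exact Subgroup.isComplement'_bot_left.1 hKc
  have hk₀N := hKN hk₀K
  -- decomposition `N = K A`
  have hdecK : ∀ n ∈ N, ∃ k ∈ K, ∃ a ∈ A, n = k * a := by
    intro n hn
    obtain ⟨⟨⟨kb, hkb⟩, ⟨ab, hab'⟩⟩, hka⟩ := hKc.2 (piN N ⟨n, hn⟩)
    have hka' : kb * ab = piN N ⟨n, hn⟩ := hka
    obtain ⟨k₁, rfl⟩ := piN_surj N kb
    obtain ⟨a₁, ha₁, rfl⟩ := exists_of_mem_imgN hab'
    have hz : piN N ((k₁ * a₁)⁻¹ * ⟨n, hn⟩) = 1 := by
      rw [map_mul, map_inv, map_mul, hka']; group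
    rw [piN_eq_one_iff] at hz
    refine ⟨k₁, (hKiff k₁).2 hkb, (a₁ : G) * (((k₁ * a₁)⁻¹ * ⟨n, hn⟩ : ↥N) : G),
      A.mul_mem ha₁ (hZA hz), ?_⟩
    have e : (((k₁ * a₁)⁻¹ * ⟨n, hn⟩ : ↥N) : G) = ((k₁ : G) * (a₁ : G))⁻¹ * n := by simp
    rw [e]
    group
  -- centralizers of noncentral kernel elements lie in the kernel
  have hcenK : ∀ k ∈ K, k ∉ zN N → ∀ n ∈ N, n * k = k * n → n ∈ K := by
    intro k hk hkz n hn hnk
    have h1 := (hKiff ⟨k, hKN hk⟩).1 hk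
    have hk1 : piN N ⟨k, hKN hk⟩ ≠ 1 := by
      intro h2
      rw [piN_eq_one_iff] at h2
      exact hkz h2
    have hc : piN N ⟨n, hn⟩ * piN N ⟨k, hKN hk⟩ = piN N ⟨k, hKN hk⟩ * piN N ⟨n, hn⟩ := by
      rw [← map_mul, ← map_mul]
      congr 1
      apply Subtype.ext
      simpa using hnk
    haveI := hKn
    have := frob_kernel_commute Ab Kb hfrobA hKset hdisjK h1 hk1 hc
    exact (hKiff ⟨n, hn⟩).2 this
  have hKcen : ∀ k ∈ K, k ∉ zN N → K ≤ cen k := by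
    intro k hk hkz
    rcases rel_inv_dichotomy h (hKN hk) hkz K hKN (fun m _ k' hk' => hKG m k' hk') with h1 | h1
    · exact h1
    · exfalso
      apply hxz
      apply hKA x _ hxA
      obtain ⟨k', hk', c, hc, hcN, hxe⟩ := h1 x hx
      rw [hxe]
      exact K.mul_mem hk' (hcenK k hk hkz c hcN (mem_cen_iff.1 hc))
  have hKab : ∀ a ∈ K, ∀ b ∈ K, a * b = b * a := by
    intro a ha b hb
    by_cases hbz : b ∈ zN N
    · exact zN_comm hbz (hKN ha)
    · exact mem_cen_iff.1 (hKcen b hb hbz ha)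
  -- `A / Z` has prime order
  have hgen : ∀ a ∈ A, a ∉ zN N → ∀ b ∈ A, ∃ j : ℤ, ∃ z ∈ zN N, b = z * a ^ j := by
    intro a ha haz b hb
    set Ha : Subgroup G := K ⊔ Subgroup.zpowers a with hHa
    have hzK : ∀ m ∈ Subgroup.zpowers a, ∀ k ∈ K, m * k * m⁻¹ ∈ K := fun m _ k hk => hKG m k hk
    have hHaN : Ha ≤ N := sup_le hKN ((Subgroup.zpowers_le).2 ha.1)
    have haHa : a ∈ Ha := (le_sup_right : Subgroup.zpowers a ≤ Ha) (Subgroup.mem_zpowers a)
    have hKHa : K ≤ Ha := le_sup_left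
    have hconj : ∀ g : G, g * a * g⁻¹ ∈ Ha → ∀ k ∈ Ha, g * k * g⁻¹ ∈ Ha := by
      intro g hga k hk
      obtain ⟨k₁, hk₁, b₁, hb₁, rfl⟩ := exists_mul_of_mem_sup (H := K)
        (M := Subgroup.zpowers a) hzK hk
      obtain ⟨j, rfl⟩ := Subgroup.mem_zpowers_iff.1 hb₁
      have e : g * (k₁ * a ^ j) * g⁻¹ = (g * k₁ * g⁻¹) * (g * a * g⁻¹) ^ j := by
        rw [conj_zpow]; group
      rw [e]
      exact Ha.mul_mem (hKHa (hKG g k₁ hk₁)) (Ha.zpow_mem hga j)
    have hHaG : ∀ g : G, ∀ k ∈ Ha, g * k * g⁻¹ ∈ Ha := by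
      intro g k hk
      refine conj_mem_of_N_of_cen h hx hxz Ha ?_ ?_ g hk
      · intro n hn k hk
        apply hconj n _ k hk
        obtain ⟨k₂, hk₂, a₂, ha₂, rfl⟩ := hdecK n hn
        have e : k₂ * a₂ * a * (k₂ * a₂)⁻¹ = (k₂ * (a * k₂⁻¹ * a⁻¹)) * a := by
          calc k₂ * a₂ * a * (k₂ * a₂)⁻¹ = k₂ * (a₂ * a) * a₂⁻¹ * k₂⁻¹ := by group
            _ = k₂ * (a * a₂) * a₂⁻¹ * k₂⁻¹ := by rw [hab a₂ ha₂ a ha]
            _ = (k₂ * (a * k₂⁻¹ * a⁻¹)) * a := by group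
        rw [e]
        exact Ha.mul_mem (hKHa (K.mul_mem hk₂ (hKG a _ (K.inv_mem hk₂)))) haHa
      · intro m hm k hk
        apply hconj m _ k hk
        have hma : m * a = a * m := mem_cen_iff.1 (hI a ha.1 ha.2 hm)
        have e : m * a * m⁻¹ = a := by rw [hma]; group
        rw [e]
        exact haHa
    rcases rel_inv_dichotomy h hk₀N hk₀z Ha hHaN (fun m _ k hk => hHaG m k hk) with h1 | h1
    · exfalso
      apply haz
      apply hKA a _ ha
      exact hcenK k₀ hk₀K hk₀z a ha.1 (mem_cen_iff.1 (h1 haHa))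
    · obtain ⟨k', hk', c, hc, hcN, hbe⟩ := h1 b hb.1
      have hbHa : b ∈ Ha := by
        rw [hbe]
        exact Ha.mul_mem hk' (hKHa (hcenK k₀ hk₀K hk₀z c hcN (mem_cen_iff.1 hc)))
      obtain ⟨k₁, hk₁, b₁, hb₁, hbe'⟩ := exists_mul_of_mem_sup (H := K)
        (M := Subgroup.zpowers a) hzK hbHa
      obtain ⟨j, rfl⟩ := Subgroup.mem_zpowers_iff.1 hb₁
      refine ⟨j, k₁, ?_, hbe'⟩
      apply hKA k₁ hk₁
      have : k₁ = b * (a ^ j)⁻¹ := by rw [hbe']; group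
      rw [this]
      exact A.mul_mem hb (A.inv_mem (A.zpow_mem ha j))
  have hAprime : (Nat.card ↥Ab).Prime := by
    apply prime_card_of_all_generate Ab hAbot
    intro ya hya hya1 yb hyb
    obtain ⟨a₁, ha₁, rfl⟩ := exists_of_mem_imgN hya
    obtain ⟨b₁, hb₁, rfl⟩ := exists_of_mem_imgN hyb
    have ha₁z : (a₁ : G) ∉ zN N := by
      intro hz
      apply hya1
      rw [piN_eq_one_iff]
      exact hz
    obtain ⟨j, z, hz, hbe⟩ := hgen a₁ ha₁ ha₁z b₁ hb₁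
    rw [Subgroup.mem_zpowers_iff]
    refine ⟨j, ?_⟩
    have hzz : piN N ⟨z, zN_le N hz⟩ = 1 := (piN_eq_one_iff N _).2 hz
    have : b₁ = ⟨z, zN_le N hz⟩ * a₁ ^ j := by
      apply Subtype.ext
      simpa using hbe
    rw [this, map_mul, map_zpow, hzz, one_mul]
  -- the kernel is elementary abelian
  obtain ⟨p, hp, k', hk'P, hk'Z, hk'p⟩ := exists_prime_pow_mem (zN N) k₀ hk₀z
  have hk'K : k' ∈ K := (Subgroup.zpowers_le.2 hk₀K) hk'P
  have hKexp : ∀ k ∈ K, k ^ p ∈ zN N := by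
    let L : Subgroup G :=
      { carrier := {a | a ∈ K ∧ a ^ p ∈ zN N}
        one_mem' := ⟨Subgroup.one_mem _, by simp [Subgroup.one_mem]⟩
        mul_mem' := by
          rintro a b ⟨ha, ha'⟩ ⟨hb, hb'⟩
          refine ⟨Subgroup.mul_mem _ ha hb, ?_⟩
          rw [(show Commute a b from hKab a ha b hb).mul_pow]
          exact (zN N).mul_mem ha' hb'
        inv_mem' := by
          rintro a ⟨ha, ha'⟩
          refine ⟨Subgroup.inv_mem _ ha, ?_⟩
          rw [inv_pow]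
          exact (zN N).inv_mem ha' }
    have hL : ∀ a : G, a ∈ L ↔ a ∈ K ∧ a ^ p ∈ zN N := fun a => Iff.rfl
    have hLN : L ≤ N := fun a ha => hKN ((hL a).1 ha).1
    have hinv : ∀ m ∈ cen x, ∀ k ∈ L, m * k * m⁻¹ ∈ L := by
      intro m _ k hk
      obtain ⟨hk1, hk2⟩ := (hL k).1 hk
      rw [hL]
      refine ⟨hKG m k hk1, ?_⟩
      rw [conj_pow]
      exact zN_conj_mem m hk2
    rcases rel_inv_dichotomy h hx hxz L hLN hinv with h1 | h1
    · exfalso
      apply hk'Z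
      apply hKA k' hk'K
      exact ⟨hKN hk'K, h1 ((hL k').2 ⟨hk'K, hk'p⟩)⟩
    · intro k hk
      obtain ⟨l, hl, c, hc, hcN, rfl⟩ := h1 k (hKN hk)
      obtain ⟨hl1, hl2⟩ := (hL l).1 hl
      have hcK : c ∈ K := by
        have : c = l⁻¹ * (l * c) := by group
        rw [this]
        exact K.mul_mem (K.inv_mem hl1) hk
      have hcZ : c ∈ zN N := hKA c hcK ⟨hcN, hc⟩
      rw [(show Commute l c from hKab l hl1 c hcK).mul_pow]
      exact (zN N).mul_mem hl2 ((zN N).pow_mem hcZ p)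
  refine ⟨Ab, Kb, p, hp, hfrobA, hAprime, hKn, hKset, ?_, ?_⟩
  · rw [isMulCommutative_iff]
    rintro ⟨u, hu⟩ ⟨v, hv⟩
    obtain ⟨n, rfl⟩ := piN_surj N u
    obtain ⟨m, rfl⟩ := piN_surj N v
    apply Subtype.ext
    show piN N n * piN N m = piN N m * piN N n
    rw [← map_mul, ← map_mul]
    congr 1
    apply Subtype.ext
    simpa using hKab n ((hKiff n).2 hu) m ((hKiff m).2 hv)
  · intro u hu
    obtain ⟨n, rfl⟩ := piN_surj N u
    rw [← map_pow, piN_eq_one_iff]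
    simpa using hKexp n ((hKiff n).2 hu)

end Cfsg.Agent.Lib.Helper65
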