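import Mathlib
import Cfsg.Agent.Lib.Helper65.RelMaxCentX1

/-!
# Relative maximal centralizers: the case `N / Z(N)` a `p`-group (helper65)

If `N / Z(N)` is a `p`-group then it is elementary abelian.
-/

set_option autoImplicit false

universe u

namespace Cfsg.Agent.Lib.Helper65

variable {G : Type u} [Group G]

/-- the general form of `rel_normal_of_normalizer_grows`: any element of `G` outside `C_G(x)`
normalizing `C_N(x)` forces `C_N(x) ⊴ G` -/
theorem rel_normal_of_normalizer_grows' [Finite G] {N : Subgroup G} [hN : N.Normal]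
    (h : RelMaxCent N) {x : G}
    (hx : x ∈ N) (hxz : x ∉ zN N) (n : G) (hnx : n ∉ cen x)
    (hnorm : ∀ c ∈ N ⊓ cen x, n * c * n⁻¹ ∈ N ⊓ cen x) (g : G) {c : G} (hc : c ∈ N ⊓ cen x) :
    g * c * g⁻¹ ∈ N ⊓ cen x := by
  have hle : cen x ≤ Subgroup.normalizer ((N ⊓ cen x : Subgroup G) : Set G) := by
    intro m hm
    apply mem_normalizer_of_conj_le
    rintro c ⟨hc1, hc2⟩
    refine ⟨hN.conj_mem c hc1 m, ?_⟩
    exact (cen x).mul_mem ((cen x).mul_mem hm hc2) ((cen x).inv_mem hm)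
  have hn' : n ∈ Subgroup.normalizer ((N ⊓ cen x : Subgroup G) : Set G) :=
    mem_normalizer_of_conj_le _ n hnorm
  rcases (h x hx hxz).le_iff.1 hle with h1 | h1
  · have hg : g ∈ Subgroup.normalizer ((N ⊓ cen x : Subgroup G) : Set G) := by
      rw [h1]; exact Subgroup.mem_top _
    rw [Subgroup.mem_normalizer_iff] at hg
    exact (hg c).1 hc
  · exfalso
    rw [h1] at hn'
    exact hnx hn'

/-- If `N / Z(N)` is a `p`-group, then for `x ∈ N ∖ Z(N)` the quotient `N / C_N(x)` is elementary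
abelian. -/
theorem rel_pgroup_cen [Finite G] {N : Subgroup G} [hN : N.Normal] (h : RelMaxCent N) {p : ℕ}
    (hp : p.Prime) (hpg : ∀ n ∈ N, ∃ k : ℕ, n ^ (p ^ k) ∈ zN N) {x : G} (hx : x ∈ N)
    (hxz : x ∉ zN N) :
    (∀ a ∈ N, ∀ b ∈ N, a * b * a⁻¹ * b⁻¹ ∈ cen x) ∧ ∀ a ∈ N, a ^ p ∈ cen x := by
  haveI : Fact p.Prime := ⟨hp⟩
  have hnil : Group.IsNilpotent ↥N := by
    apply Group.of_quotient_center_nilpotent
    have hP : IsPGroup p (↥N ⧸ Subgroup.center ↥N) := by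
      intro q
      obtain ⟨m, rfl⟩ := QuotientGroup.mk'_surjective _ q
      obtain ⟨k, hk⟩ := hpg m m.2
      refine ⟨k, ?_⟩
      rw [← map_pow, QuotientGroup.mk'_apply, QuotientGroup.eq_one_iff, Subgroup.mem_center_iff]
      intro t
      apply Subtype.ext
      have := zN_comm hk t.2
      simpa using this
    exact hP.isNilpotent
  set A : Subgroup G := N ⊓ cen x with hA
  obtain ⟨n₀, hn₀N, hn₀x⟩ := cen_ne_top_of_notMem_zN hx hxz
  -- an element of `N ∖ A` whose commutators with `N` lie in `A`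
  obtain ⟨n₁, hn₁N, hn₁x, hn₁c⟩ : ∃ n₁ ∈ N, n₁ ∉ cen x ∧ ∀ m ∈ N, n₁ * m * n₁⁻¹ * m⁻¹ ∈ cen x := by
    classical
    set Cx : Subgroup ↥N := (cen x).subgroupOf N with hCx
    obtain ⟨c, hc⟩ := Group.IsNilpotent.nilpotent ↥N
    have hex : ∃ i : ℕ, ¬ (Subgroup.upperCentralSeries ↥N i ≤ Cx) := by
      refine ⟨c, ?_⟩
      rw [hc]
      intro hle
      have : (⟨n₀, hn₀N⟩ : ↥N) ∈ Cx := hle (Subgroup.mem_top _)
      rw [hCx, Subgroup.mem_subgroupOf] at this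
      exact hn₀x this
    set i := Nat.find hex with hi
    have hi0 : i ≠ 0 := by
      intro h0
      have := Nat.find_spec hex
      rw [← hi, h0, Subgroup.upperCentralSeries_zero] at this
      exact this bot_le
    obtain ⟨j, hj⟩ := Nat.exists_eq_succ_of_ne_zero hi0
    have hjle : Subgroup.upperCentralSeries ↥N j ≤ Cx := by
      by_contra hcon
      have := Nat.find_min hex (m := j) (by omega)
      exact this hcon
    have hnot := Nat.find_spec hex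
    rw [← hi, hj] at hnot
    obtain ⟨t, ht, htC⟩ := SetLike.not_le_iff_exists.1 hnot
    refine ⟨(t : G), t.2, ?_, ?_⟩
    · intro hc'
      apply htC
      rw [hCx, Subgroup.mem_subgroupOf]
      exact hc'
    · intro m hm
      have := (Subgroup.mem_upperCentralSeries_succ_iff.1 ht) ⟨m, hm⟩
      have h2 := hjle this
      rw [hCx, Subgroup.mem_subgroupOf, commutatorElement_def] at h2
      simpa using h2
  -- `A` is normal in `G`
  have hAG : ∀ g : G, ∀ c ∈ A, g * c * g⁻¹ ∈ A := by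
    intro g c hc
    refine rel_normal_of_normalizer_grows' h hx hxz n₁ hn₁x ?_ g hc
    rintro c ⟨hc1, hc2⟩
    refine ⟨hN.conj_mem c hc1 n₁, ?_⟩
    have e : n₁ * c * n₁⁻¹ = (n₁ * c * n₁⁻¹ * c⁻¹) * c := by group
    rw [e]
    exact (cen x).mul_mem (hn₁c c hc1) hc2
  -- commutators
  have hcomm : ∀ a ∈ N, ∀ b ∈ N, a * b * a⁻¹ * b⁻¹ ∈ A := by
    let Y : Subgroup G :=
      { carrier := {n | n ∈ N ∧ ∀ m ∈ N, n * m * n⁻¹ * m⁻¹ ∈ A}
        one_mem' := ⟨N.one_mem, fun m _ => by simp [Subgroup.one_mem]⟩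
        mul_mem' := by
          rintro a b ⟨ha, ha'⟩ ⟨hb, hb'⟩
          refine ⟨N.mul_mem ha hb, fun m hm => ?_⟩
          have e : a * b * m * (a * b)⁻¹ * m⁻¹ =
              (a * (b * m * b⁻¹ * m⁻¹) * a⁻¹) * (a * m * a⁻¹ * m⁻¹) := by group
          rw [e]
          exact A.mul_mem (hAG a _ (hb' m hm)) (ha' m hm)
        inv_mem' := by
          rintro a ⟨ha, ha'⟩
          refine ⟨N.inv_mem ha, fun m hm => ?_⟩
          have e : a⁻¹ * m * a⁻¹⁻¹ * m⁻¹ = a⁻¹ * (a * m * a⁻¹ * m⁻¹)⁻¹ * a⁻¹⁻¹ := by group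
          rw [e]
          exact hAG a⁻¹ _ (A.inv_mem (ha' m hm)) }
    have hY : ∀ n : G, n ∈ Y ↔ n ∈ N ∧ ∀ m ∈ N, n * m * n⁻¹ * m⁻¹ ∈ A := fun n => Iff.rfl
    have hYN : Y ≤ N := fun a ha => ((hY a).1 ha).1
    have hinv : ∀ m ∈ cen x, ∀ k ∈ Y, m * k * m⁻¹ ∈ Y := by
      intro m _ k hk
      obtain ⟨hk1, hk2⟩ := (hY k).1 hk
      rw [hY]
      refine ⟨hN.conj_mem k hk1 m, fun m' hm' => ?_⟩
      have hm'' : m⁻¹ * m' * m ∈ N := by
        have := hN.conj_mem m' hm' m⁻¹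
        simpa using this
      have e : m * k * m⁻¹ * m' * (m * k * m⁻¹)⁻¹ * m'⁻¹ =
          m * (k * (m⁻¹ * m' * m) * k⁻¹ * (m⁻¹ * m' * m)⁻¹) * m⁻¹ := by group
      rw [e]
      exact hAG m _ (hk2 _ hm'')
    have hn₁Y : n₁ ∈ Y := (hY n₁).2 ⟨hn₁N, fun m hm => ⟨by
      exact N.mul_mem (N.mul_mem (N.mul_mem hn₁N hm) (N.inv_mem hn₁N)) (N.inv_mem hm), hn₁c m hm⟩⟩
    have hAY : A ≤ Y := by
      intro a ha
      rw [hY]
      refine ⟨ha.1, fun m hm => ?_⟩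
      have e : a * m * a⁻¹ * m⁻¹ = a * (m * a⁻¹ * m⁻¹) := by group
      rw [e]
      exact A.mul_mem ha (hAG m _ (A.inv_mem ha))
    rcases rel_inv_dichotomy h hx hxz Y hYN hinv with h1 | h1
    · exact absurd (h1 hn₁Y) hn₁x
    · intro a ha b hb
      obtain ⟨k, hk, c, hc, hcN, rfl⟩ := h1 a ha
      have : k * c ∈ Y := Y.mul_mem hk (hAY ⟨hcN, hc⟩)
      exact ((hY _).1 this).2 b hb
  refine ⟨fun a ha b hb => (hcomm a ha b hb).2, ?_⟩
  -- `p`-th powers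
  let T : Subgroup G :=
    { carrier := {n | n ∈ N ∧ n ^ p ∈ A}
      one_mem' := ⟨N.one_mem, by simp [Subgroup.one_mem]⟩
      mul_mem' := by
        rintro a b ⟨ha, ha'⟩ ⟨hb, hb'⟩
        refine ⟨N.mul_mem ha hb, ?_⟩
        obtain ⟨c, hc, hk⟩ := pow_mul_mod (N := N) (C := A)
          (fun n _ c hc => hAG n c hc) hcomm ha hb p
        rw [hk]
        exact A.mul_mem (A.mul_mem ha' hb') hc
      inv_mem' := by
        rintro a ⟨ha, ha'⟩
        refine ⟨N.inv_mem ha, ?_⟩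
        rw [inv_pow]
        exact A.inv_mem ha' }
  have hT : ∀ n : G, n ∈ T ↔ n ∈ N ∧ n ^ p ∈ A := fun n => Iff.rfl
  have hTN : T ≤ N := fun a ha => ((hT a).1 ha).1
  have hinvT : ∀ m ∈ cen x, ∀ k ∈ T, m * k * m⁻¹ ∈ T := by
    intro m _ k hk
    obtain ⟨hk1, hk2⟩ := (hT k).1 hk
    rw [hT]
    refine ⟨hN.conj_mem k hk1 m, ?_⟩
    rw [conj_pow]
    exact hAG m _ hk2
  have hAT : A ≤ T := fun a ha => (hT a).2 ⟨ha.1, A.pow_mem ha p⟩
  -- an element of `T ∖ A`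
  obtain ⟨n₂, hn₂T, hn₂x⟩ : ∃ n₂ ∈ T, n₂ ∉ cen x := by
    classical
    have hex : ∃ k : ℕ, n₀ ^ (p ^ k) ∈ cen x := by
      obtain ⟨k, hk⟩ := hpg n₀ hn₀N
      exact ⟨k, zN_le_cen hx hk⟩
    set k := Nat.find hex with hk
    have hk0 : k ≠ 0 := by
      intro h0
      have := Nat.find_spec hex
      rw [← hk, h0, pow_zero, pow_one] at this
      exact hn₀x this
    obtain ⟨j, hj⟩ := Nat.exists_eq_succ_of_ne_zero hk0
    have hjn : n₀ ^ (p ^ j) ∉ cen x := Nat.find_min hex (m := j) (by omega)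
    refine ⟨n₀ ^ (p ^ j), ?_, hjn⟩
    rw [hT]
    refine ⟨N.pow_mem hn₀N _, N.pow_mem (N.pow_mem hn₀N _) _, ?_⟩
    have := Nat.find_spec hex
    rw [← hk, hj, pow_succ, pow_mul] at this
    exact this
  rcases rel_inv_dichotomy h hx hxz T hTN hinvT with h1 | h1
  · exact absurd (h1 hn₂T) hn₂x
  · intro a ha
    obtain ⟨k, hk, c, hc, hcN, rfl⟩ := h1 a ha
    have : k * c ∈ T := T.mul_mem hk (hAT ⟨hcN, hc⟩)
    exact ((hT _).1 this).2.2

/-- If `N / Z(N)` is a `p`-group, it is elementary abelian. -/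
theorem rel_E_of_pgroup [Finite G] {N : Subgroup G} [hN : N.Normal] (h : RelMaxCent N) {p : ℕ}
    (hp : p.Prime) (hpg : ∀ n ∈ N, ∃ k : ℕ, n ^ (p ^ k) ∈ zN N) :
    (∀ a ∈ N, ∀ b ∈ N, a * b * a⁻¹ * b⁻¹ ∈ zN N) ∧ ∀ a ∈ N, a ^ p ∈ zN N := by
  have key : ∀ w ∈ N, (∀ n ∈ N, n ∉ zN N → w ∈ cen n) → w ∈ zN N := by
    intro w hw hall
    rw [mem_zN]
    refine ⟨hw, fun n hn => ?_⟩
    by_cases hnz : n ∈ zN N
    · exact (zN_comm hnz hw).symm
    · exact (mem_cen_iff.1 (hall n hn hnz)).symm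
  refine ⟨fun a ha b hb => ?_, fun a ha => ?_⟩
  · apply key _ (N.mul_mem (N.mul_mem (N.mul_mem ha hb) (N.inv_mem ha)) (N.inv_mem hb))
    intro n hn hnz
    exact (rel_pgroup_cen h hp hpg hn hnz).1 a ha b hb
  · apply key _ (N.pow_mem ha p)
    intro n hn hnz
    exact (rel_pgroup_cen h hp hpg hn hnz).2 a ha

end Cfsg.Agent.Lib.Helper65
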