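import Mathlib
import Cfsg.Agent.Lib.Helper65.RelMaxCentYB

/-!
# Relative maximal centralizers: no element of type (I), a normal `C_N(x₀)` (helper65)

If no `x ∈ N ∖ Z(N)` has `C_N(x)` centralized by `C_G(x)`, and some `C_N(x₀)` is normal in `N`
(a `p`-group modulo `Z(N)`), then no element of `N` has a centralizer which is a `q`-group modulo
`Z(N)` for a prime `q ≠ p`.
-/

set_option autoImplicit false

universe u

namespace Cfsg.Agent.Lib.Helper65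

variable {G : Type u} [Group G]

/-- a central commutator of elements of coprime orders modulo the center is trivial -/
theorem central_comm_eq_one {N : Subgroup G} {u v : G} (hu : u ∈ N) (hv : v ∈ N)
    (hz : u * v * u⁻¹ * v⁻¹ ∈ zN N) {m n : ℕ} (hm : u ^ m ∈ zN N) (hn : v ^ n ∈ zN N)
    (hcop : m.Coprime n) : u * v = v * u := by
  set z := u * v * u⁻¹ * v⁻¹ with hzdef
  have hzv : Commute z v := (zN_comm hz hv).symm
  have hzu : Commute z⁻¹ u := (zN_comm ((zN N).inv_mem hz) hu).symm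
  have e1 : u * v * u⁻¹ = z * v := by rw [hzdef]; group
  have e2 : v * u * v⁻¹ = z⁻¹ * u := by rw [hzdef]; group
  have hzn : z ^ n = 1 := by
    have h1 : (u * v * u⁻¹) ^ n = v ^ n := by
      rw [conj_pow]
      have := zN_comm hn hu
      rw [this]; group
    rw [e1, hzv.mul_pow] at h1
    exact mul_eq_right.1 h1
  have hzm : z ^ m = 1 := by
    have h1 : (v * u * v⁻¹) ^ m = u ^ m := by
      rw [conj_pow]
      have := zN_comm hm hv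
      rw [this]; group
    rw [e2, hzu.mul_pow] at h1
    have h2 : z⁻¹ ^ m = 1 := mul_eq_right.1 h1
    rw [inv_pow, inv_eq_one] at h2
    exact h2
  have hd : orderOf z ∣ Nat.gcd m n :=
    Nat.dvd_gcd (orderOf_dvd_of_pow_eq_one hzm) (orderOf_dvd_of_pow_eq_one hzn)
  rw [hcop.gcd_eq_one, Nat.dvd_one, orderOf_eq_one_iff] at hd
  have : u * v = z * (v * u) := by rw [hzdef]; group
  rw [this, hd, one_mul]

theorem y1_contra [Finite G] {N : Subgroup G} [hN : N.Normal] (h : RelMaxCent N)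
    (hnoI : ∀ y ∈ N, y ∉ zN N → ¬ (∀ c ∈ N, c ∈ cen y → cen y ≤ cen c))
    {x₀ : G} (hx₀ : x₀ ∈ N) (hx₀z : x₀ ∉ zN N)
    (hnorm : ∀ n ∈ N, ∀ c ∈ N ⊓ cen x₀, n * c * n⁻¹ ∈ N ⊓ cen x₀)
    {p : ℕ} (hp : p.Prime) (hpx : ∀ c ∈ N, c ∈ cen x₀ → ∃ k : ℕ, c ^ (p ^ k) ∈ zN N)
    {y : G} (hy : y ∈ N) (hyz : y ∉ zN N) {q : ℕ} (hq : q.Prime) (hqp : q ≠ p)
    (hqy : ∀ c ∈ N, c ∈ cen y → ∃ k : ℕ, c ^ (q ^ k) ∈ zN N) : False := by
  set C : Subgroup G := N ⊓ cen x₀ with hC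
  have hCG : ∀ g : G, ∀ c ∈ C, g * c * g⁻¹ ∈ C := by
    intro g c hc
    refine conj_mem_of_N_of_cen h hx₀ hx₀z C hnorm ?_ g hc
    rintro m hm c ⟨hc1, hc2⟩
    exact ⟨hN.conj_mem c hc1 m, (cen x₀).mul_mem ((cen x₀).mul_mem hm hc2) ((cen x₀).inv_mem hm)⟩
  have hcop : ∀ i j : ℕ, (p ^ i).Coprime (q ^ j) := fun i j =>
    Nat.Coprime.pow i j ((Nat.coprime_primes hp hq).2 (Ne.symm hqp))
  have hCint : ∀ d ∈ C, (∃ k : ℕ, d ^ (q ^ k) ∈ zN N) → d ∈ zN N := by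
    rintro d hd ⟨j, hj⟩
    obtain ⟨i, hi⟩ := hpx d hd.1 hd.2
    exact mem_of_pow_mem_of_coprime (zN N) d (hcop i j) hi hj
  have hx₀C : x₀ ∈ C := ⟨hx₀, self_mem_cen x₀⟩
  -- propagation of the prime `q`
  have hqtype : ∀ c ∈ N, c ∉ zN N → (∃ k : ℕ, c ^ (q ^ k) ∈ zN N) →
      ∀ c' ∈ N, c' ∈ cen c → ∃ k : ℕ, c' ^ (q ^ k) ∈ zN N := by
    rintro c hc hcz ⟨j, hj⟩
    rcases rel_dichotomy h hc hcz with hI | ⟨r, hr, hrc⟩
    · exact absurd hI (hnoI c hc hcz)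
    · obtain ⟨i, hi⟩ := hrc c hc (self_mem_cen c)
      have hrq : r = q := by
        by_contra hne
        apply hcz
        have hc' : (r ^ i).Coprime (q ^ j) :=
          Nat.Coprime.pow i j ((Nat.coprime_primes hr hq).2 hne)
        exact mem_of_pow_mem_of_coprime (zN N) c hc' hi hj
      rw [← hrq]
      exact hrc
  have hdecq : ∀ c ∈ N, c ∉ zN N → (∃ k : ℕ, c ^ (q ^ k) ∈ zN N) →
      ∀ n ∈ N, ∃ a ∈ C, ∃ e ∈ cen c, e ∈ N ∧ n = a * e := by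
    intro c hc hcz hcq
    rcases rel_inv_dichotomy h hc hcz C inf_le_left (fun m _ k hk => hCG m k hk) with h1 | h1
    · exfalso
      apply hcz
      apply hCint c ⟨hc, ?_⟩ hcq
      have := mem_cen_iff.1 (h1 hx₀C)
      exact mem_cen_iff.2 this.symm
    · exact h1
  have habq : ∀ c ∈ N, c ∉ zN N → (∃ k : ℕ, c ^ (q ^ k) ∈ zN N) →
      ∀ c₁ ∈ N, c₁ ∈ cen c → ∀ d ∈ N, d ∈ cen c → c₁ * d = d * c₁ := by
    intro c hc hcz hcq c₁ hc₁N hc₁ d hdN hd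
    by_cases hc₁z : c₁ ∈ zN N
    · exact (zN_comm hc₁z hdN).symm
    have hqc := hqtype c hc hcz hcq
    have hc₁q := hqc c₁ hc₁N hc₁
    have hc₁q' := hqtype c₁ hc₁N hc₁z hc₁q
    obtain ⟨a, ha, e, he, heN, rfl⟩ := hdecq c₁ hc₁N hc₁z hc₁q d hdN
    have hec : e * c₁ = c₁ * e := mem_cen_iff.1 he
    have e0 : e * c₁⁻¹ * e⁻¹ = c₁⁻¹ := by
      have : e * c₁⁻¹ = c₁⁻¹ * e := by
        calc e * c₁⁻¹ = c₁⁻¹ * (c₁ * e) * c₁⁻¹ := by group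
          _ = c₁⁻¹ * (e * c₁) * c₁⁻¹ := by rw [hec]
          _ = c₁⁻¹ * e := by group
      rw [this]; group
    have e1 : c₁ * (a * e) * c₁⁻¹ * (a * e)⁻¹ = c₁ * a * c₁⁻¹ * a⁻¹ := by
      calc c₁ * (a * e) * c₁⁻¹ * (a * e)⁻¹ = c₁ * a * (e * c₁⁻¹ * e⁻¹) * a⁻¹ := by group
        _ = c₁ * a * c₁⁻¹ * a⁻¹ := by rw [e0]
    have h1 : c₁ * a * c₁⁻¹ * a⁻¹ ∈ C := C.mul_mem (hCG c₁ a ha) (C.inv_mem ha)
    have h2 : c₁ * (a * e) * c₁⁻¹ * (a * e)⁻¹ ∈ cen c :=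
      (cen c).mul_mem ((cen c).mul_mem ((cen c).mul_mem hc₁ hd) ((cen c).inv_mem hc₁))
        ((cen c).inv_mem hd)
    have h2N : c₁ * (a * e) * c₁⁻¹ * (a * e)⁻¹ ∈ N :=
      N.mul_mem (N.mul_mem (N.mul_mem hc₁N hdN) (N.inv_mem hc₁N)) (N.inv_mem hdN)
    have hz : c₁ * a * c₁⁻¹ * a⁻¹ ∈ zN N := by
      apply hCint _ h1
      rw [← e1]
      exact hqc _ h2N h2
    obtain ⟨j, hj⟩ := hc₁q
    obtain ⟨i, hi⟩ := hpx a ha.1 ha.2
    have hca : c₁ * a = a * c₁ := central_comm_eq_one hc₁N ha.1 hz hj hi (hcop i j).symm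
    calc c₁ * (a * e) = (c₁ * a) * e := by group
      _ = a * c₁ * e := by rw [hca]
      _ = a * (c₁ * e) := by group
      _ = a * (e * c₁) := by rw [hec]
      _ = a * e * c₁ := by group
  have hyq : ∃ k : ℕ, y ^ (q ^ k) ∈ zN N := hqy y hy (self_mem_cen y)
  have hsame : ∀ c₁ ∈ N, c₁ ∈ cen y → c₁ ∉ zN N → ∀ e ∈ N, (e ∈ cen c₁ ↔ e ∈ cen y) := by
    intro c₁ hc₁N hc₁ hc₁z e heN
    have hc₁q := hqy c₁ hc₁N hc₁
    have hyc₁ : y ∈ cen c₁ := mem_cen_iff.2 (mem_cen_iff.1 hc₁).symm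
    constructor
    · intro he
      exact mem_cen_iff.2 (habq c₁ hc₁N hc₁z hc₁q e heN he y hy hyc₁)
    · intro he
      exact mem_cen_iff.2 (habq y hy hyz hyq e heN he c₁ hc₁N hc₁)
  by_cases hny : ∀ n ∈ N, ∀ c ∈ N ⊓ cen y, n * c * n⁻¹ ∈ N ⊓ cen y
  · have hyA : y ∈ N ⊓ cen y := ⟨hy, self_mem_cen y⟩
    have h1 : x₀ * y * x₀⁻¹ * y⁻¹ ∈ C := by
      have e : x₀ * y * x₀⁻¹ * y⁻¹ = x₀ * (y * x₀⁻¹ * y⁻¹) := by group
      rw [e]
      exact C.mul_mem hx₀C (hCG y _ (C.inv_mem hx₀C))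
    have h2 : x₀ * y * x₀⁻¹ * y⁻¹ ∈ N ⊓ cen y :=
      Subgroup.mul_mem _ (hny x₀ hx₀ y hyA) (Subgroup.inv_mem _ hyA)
    have hz : x₀ * y * x₀⁻¹ * y⁻¹ ∈ zN N := hCint _ h1 (hqy _ h2.1 h2.2)
    obtain ⟨i, hi⟩ := hpx x₀ hx₀ (self_mem_cen x₀)
    obtain ⟨j, hj⟩ := hyq
    have hcomm : x₀ * y = y * x₀ := central_comm_eq_one hx₀ hy hz hi hj (hcop i j)
    exact hyz (hCint y ⟨hy, mem_cen_iff.2 hcomm.symm⟩ ⟨j, hj⟩)
  · apply hnoI y hy hyz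
    have hmain : ∀ c₁ ∈ N, c₁ ∈ cen y → c₁ ∉ zN N → cen y ≤ cen c₁ := by
      intro c₁ hc₁N hc₁ hc₁z
      have hle : cen c₁ ≤ cen y := by
        intro m hm
        by_contra hmy
        apply hny
        intro n _ c hc
        refine rel_normal_of_normalizer_grows' h hy hyz m hmy ?_ n hc
        rintro c ⟨hcN, hcy⟩
        have hcc₁ : c ∈ cen c₁ := (hsame c₁ hc₁N hc₁ hc₁z c hcN).2 hcy
        have h3 : m * c * m⁻¹ ∈ cen c₁ :=
          (cen c₁).mul_mem ((cen c₁).mul_mem hm hcc₁) ((cen c₁).inv_mem hm)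
        exact ⟨hN.conj_mem c hcN m, (hsame c₁ hc₁N hc₁ hc₁z _ (hN.conj_mem c hcN m)).1 h3⟩
      have := rel_cen_eq_of_le h hc₁N hc₁z hy hyz hle
      rw [this]
    intro c₁ hc₁N hc₁
    by_cases hc₁z : c₁ ∈ zN N
    · have h4 : c₁ * y ∉ zN N := by
        intro hc
        apply hyz
        have := (zN N).mul_mem ((zN N).inv_mem hc₁z) hc
        simpa using this
      have h5 := hmain (c₁ * y) (N.mul_mem hc₁N hy) ((cen y).mul_mem hc₁ (self_mem_cen y)) h4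
      intro m hm
      have h6 := h5 hm
      rw [mem_cen_iff] at h6 hm ⊢
      calc m * c₁ = (m * (c₁ * y)) * y⁻¹ := by group
        _ = (c₁ * y * m) * y⁻¹ := by rw [h6]
        _ = c₁ * (y * m) * y⁻¹ := by group
        _ = c₁ * (m * y) * y⁻¹ := by rw [hm]
        _ = c₁ * m := by group
    · exact hmain c₁ hc₁N hc₁ hc₁z

end Cfsg.Agent.Lib.Helper65
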