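import Mathlib
import Cfsg.Agent.S1992
import Cfsg.Agent.Lib.Helper65.RelMaxCentQ
import Cfsg.Agent.Lib.Helper65.RelMaxCentY1
import Cfsg.Agent.Lib.Helper65.FrobCrit

/-!
# Relative maximal centralizers: no element of type (I) (helper65)

If no `x ∈ N ∖ Z(N)` has `C_N(x)` centralized by `C_G(x)`, then `N / Z(N)` is a `p`-group.
-/

set_option autoImplicit false

universe u

namespace Cfsg.Agent.Lib.Helper65

open scoped Pointwise

variable {G : Type u} [Group G]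

/-- the type (II) prime of an element with a `q`-power in `Z(N)` -/
theorem rel_typeII_prime [Finite G] {N : Subgroup G} (h : RelMaxCent N)
    (hnoI : ∀ y ∈ N, y ∉ zN N → ¬ (∀ c ∈ N, c ∈ cen y → cen y ≤ cen c))
    {y : G} (hy : y ∈ N) (hyz : y ∉ zN N) {q : ℕ} (hq : q.Prime) {j : ℕ}
    (hj : y ^ (q ^ j) ∈ zN N) :
    ∀ c ∈ N, c ∈ cen y → ∃ k : ℕ, c ^ (q ^ k) ∈ zN N := by
  rcases rel_dichotomy h hy hyz with hI | ⟨r, hr, hrc⟩
  · exact absurd hI (hnoI y hy hyz)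
  · obtain ⟨i, hi⟩ := hrc y hy (self_mem_cen y)
    have hrq : r = q := by
      by_contra hne
      apply hyz
      have hc' : (r ^ i).Coprime (q ^ j) :=
        Nat.Coprime.pow i j ((Nat.coprime_primes hr hq).2 hne)
      exact mem_of_pow_mem_of_coprime (zN N) y hc' hi hj
    rw [← hrq]
    exact hrc

/-- conjugates of self-normalizing subgroups are self-normalizing -/
theorem normalizer_conj_smul_eq {X : Type u} [Group X] [Finite X] (P : Subgroup X)
    (hP : Subgroup.normalizer (P : Set X) = P) (g : X) :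
    Subgroup.normalizer ((MulAut.conj g • P : Subgroup X) : Set X) = MulAut.conj g • P := by
  apply le_antisymm
  · intro t ht
    rw [Subgroup.mem_normalizer_iff] at ht
    rw [mem_conj_smul]
    have h1 : g⁻¹ * t * g ∈ Subgroup.normalizer (P : Set X) := by
      apply mem_normalizer_of_conj_le
      intro e he
      have h2 : g * e * g⁻¹ ∈ MulAut.conj g • P := by
        rw [mem_conj_smul]
        have : g⁻¹ * (g * e * g⁻¹) * g = e := by group
        rw [this]; exact he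
      have h3 := (ht _).1 h2
      rw [mem_conj_smul] at h3
      have : g⁻¹ * t * g * e * (g⁻¹ * t * g)⁻¹ = g⁻¹ * (t * (g * e * g⁻¹) * t⁻¹) * g := by group
      rw [this]; exact h3
    rw [hP] at h1
    exact h1
  · exact Subgroup.le_normalizer

theorem y2_sylow [Finite G] {N : Subgroup G} [hN : N.Normal] (h : RelMaxCent N)
    (hnoI : ∀ y ∈ N, y ∉ zN N → ¬ (∀ c ∈ N, c ∈ cen y → cen y ≤ cen c))
    (hnn : ∀ x ∈ N, x ∉ zN N → ¬ ∀ n ∈ N, ∀ c ∈ N ⊓ cen x, n * c * n⁻¹ ∈ N ⊓ cen x)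
    {q : ℕ} (hq : q.Prime) (hqd : q ∣ Nat.card (↥N ⧸ Subgroup.center ↥N))
    (Q : Sylow q (↥N ⧸ Subgroup.center ↥N)) :
    Subgroup.normalizer (((Q : Subgroup (↥N ⧸ Subgroup.center ↥N))) :
      Set (↥N ⧸ Subgroup.center ↥N)) = Q := by
  haveI : Fact q.Prime := ⟨hq⟩
  obtain ⟨ybar, hybar⟩ := exists_prime_orderOf_dvd_card' q hqd
  obtain ⟨y, rfl⟩ := piN_surj N ybar
  have hyz : (y : G) ∉ zN N := by
    intro hc
    rw [← piN_eq_one_iff] at hc
    rw [hc, orderOf_one] at hybar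
    exact hq.one_lt.ne hybar
  have hyq : (y : G) ^ (q ^ 1) ∈ zN N := by
    have h1 : (piN N y) ^ q = 1 := by rw [← hybar]; exact pow_orderOf_eq_one _
    rw [← map_pow, piN_eq_one_iff] at h1
    simpa using h1
  have hqy := rel_typeII_prime h hnoI y.2 hyz hq hyq
  have hZ : zN N ≤ cen (y : G) := zN_le_cen y.2
  set D : Subgroup (↥N ⧸ Subgroup.center ↥N) := imgN N (cen (y : G)) with hDdef
  have hD : IsPGroup q D := by
    rintro ⟨d, hd⟩
    obtain ⟨n, hn, rfl⟩ := exists_of_mem_imgN hd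
    obtain ⟨k, hk⟩ := hqy n n.2 hn
    refine ⟨k, ?_⟩
    apply Subtype.ext
    show (piN N n) ^ (q ^ k) = 1
    rw [← map_pow, piN_eq_one_iff]
    simpa using hk
  have hself : ∀ t : ↥N ⧸ Subgroup.center ↥N, (∀ d ∈ D, t * d * t⁻¹ ∈ D) → t ∈ D := by
    intro t ht
    obtain ⟨m, rfl⟩ := piN_surj N t
    rw [hDdef, mem_imgN hZ]
    by_contra hm
    apply hnn y y.2 hyz
    intro n _ c hc
    refine rel_normal_of_normalizer_grows' h y.2 hyz (m : G) hm ?_ n hc
    rintro c ⟨hcN, hcy⟩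
    refine ⟨hN.conj_mem c hcN m, ?_⟩
    have h1 := ht (piN N ⟨c, hcN⟩) ((mem_imgN hZ _).2 hcy)
    rw [← map_inv, ← map_mul, ← map_mul, hDdef, mem_imgN hZ] at h1
    simpa using h1
  obtain ⟨P, hDP⟩ := hD.exists_le_sylow
  have hPD : (P : Subgroup (↥N ⧸ Subgroup.center ↥N)) = D := by
    by_contra hne
    have hlt : D.subgroupOf (P : Subgroup (↥N ⧸ Subgroup.center ↥N)) < ⊤ := by
      rw [lt_top_iff_ne_top]
      intro htop
      apply hne
      apply le_antisymm _ hDP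
      rw [Subgroup.subgroupOf_eq_top] at htop
      exact htop
    haveI : Group.IsNilpotent ↥(P : Subgroup (↥N ⧸ Subgroup.center ↥N)) := P.isPGroup'.isNilpotent
    have hnc := Group.normalizerCondition_of_isNilpotent
      (G := ↥(P : Subgroup (↥N ⧸ Subgroup.center ↥N))) _ hlt
    obtain ⟨t', ht'n, ht'D⟩ := SetLike.exists_of_lt hnc
    apply ht'D
    rw [Subgroup.mem_subgroupOf]
    apply hself
    intro d hd
    rw [Subgroup.mem_normalizer_iff] at ht'n
    have h1 := (ht'n ⟨d, hDP hd⟩).1 (Subgroup.mem_subgroupOf.2 hd)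
    rw [Subgroup.mem_subgroupOf] at h1
    simpa using h1
  have hPn : Subgroup.normalizer (((P : Subgroup (↥N ⧸ Subgroup.center ↥N))) :
      Set (↥N ⧸ Subgroup.center ↥N)) = P := by
    apply le_antisymm
    · intro t ht
      rw [Subgroup.mem_normalizer_iff] at ht
      rw [hPD]
      apply hself
      intro d hd
      rw [← hPD] at hd ⊢
      exact (ht d).1 hd
    · exact Subgroup.le_normalizer
  obtain ⟨g, rfl⟩ := MulAction.exists_smul_eq (↥N ⧸ Subgroup.center ↥N) P Q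
  rw [Sylow.coe_subgroup_smul]
  exact normalizer_conj_smul_eq _ hPn g

/-- **Case Y**: without elements of type (I), `N / Z(N)` is a `p`-group. -/
theorem rel_pgroup_of_noI [Finite G] {N : Subgroup G} [hN : N.Normal] (h : RelMaxCent N)
    (hnoI : ∀ y ∈ N, y ∉ zN N → ¬ (∀ c ∈ N, c ∈ cen y → cen y ≤ cen c)) :
    ∃ p : ℕ, p.Prime ∧ ∀ n ∈ N, ∃ k : ℕ, n ^ (p ^ k) ∈ zN N := by
  by_cases hY1 : ∃ x₀ ∈ N, x₀ ∉ zN N ∧ ∀ n ∈ N, ∀ c ∈ N ⊓ cen x₀, n * c * n⁻¹ ∈ N ⊓ cen x₀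
  · obtain ⟨x₀, hx₀, hx₀z, hnorm⟩ := hY1
    rcases rel_dichotomy h hx₀ hx₀z with hI | ⟨p, hp, hpx⟩
    · exact absurd hI (hnoI x₀ hx₀ hx₀z)
    refine ⟨p, hp, fun n hn => ?_⟩
    by_contra hcon
    push_neg at hcon
    have hnz : n ∉ zN N := by
      have := hcon 0
      simpa using this
    rcases rel_dichotomy h hn hnz with hI | ⟨q, hq, hqy⟩
    · exact absurd hI (hnoI n hn hnz)
    have hqp : q ≠ p := by
      rintro rfl
      obtain ⟨k, hk⟩ := hqy n hn (self_mem_cen n)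
      exact hcon k hk
    exact y1_contra h hnoI hx₀ hx₀z hnorm hp hpx hn hnz hq hqp hqy
  · push_neg at hY1
    have hnn : ∀ x ∈ N, x ∉ zN N →
        ¬ ∀ n ∈ N, ∀ c ∈ N ⊓ cen x, n * c * n⁻¹ ∈ N ⊓ cen x := by
      intro x hx hxz hc
      obtain ⟨n, hn, c, hc1, hc2⟩ := hY1 x hx hxz
      exact hc2 (hc n hn c hc1)
    obtain ⟨q, hq, hpg⟩ := Cfsg.Agent.S1992.result (G := ↥N ⧸ Subgroup.center ↥N)
      (fun q hq hqd Q => y2_sylow h hnoI hnn hq hqd Q)
    refine ⟨q, hq, fun n hn => ?_⟩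
    obtain ⟨k, hk⟩ := hpg (piN N ⟨n, hn⟩)
    refine ⟨k, ?_⟩
    rw [← map_pow, piN_eq_one_iff] at hk
    simpa using hk

end Cfsg.Agent.Lib.Helper65
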