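import Cfsg.Agent.Lib.Helper07.OrthTf
import Cfsg.Agent.Lib.Helper49.PrimeOrderOrth
import Cfsg.Agent.Lib.Helper50.SpinorCrit

/-!
# K-S2721-B (keystone 272106, architect helper7): a class-preserving similarity with prescribed
multiplier in the centraliser of an isometry of odd order.  (Parallel hand by helper65.)
-/

set_option autoImplicit false

namespace Cfsg.Agent.Lib.Helper65.S2721K

open Module Matrix Cfsg.Agent.Lib.Helper08 Cfsg.Agent.Lib.Helper07.OG

universe u

variable {F : Type u} [Field F] [Fintype F] [DecidableEq F] {ι : Type} [Fintype ι] [DecidableEq ι]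
variable {Q : QuadraticForm F (ι → F)}

theorem exists_comm_sim (C : OC Q) (p : ℕ) [Fact p.Prime] [CharP F p] (h2 : (2 : F) ≠ 0)
    {u0 : ι → F} (hu0 : Q u0 = 1) (n : ℕ) (hcard : Fintype.card ι = 2 * n)
    {r : ℕ} (hro : Odd r) (hrF : (r : F) ≠ 0)
    (hB1 : ∀ (G S c : Matrix ι ι F) (ν : F), Gᵀ = G → IsUnit G.det → Sᵀ * G * S = G →
      cᵀ * G * c = ν • G → c * S = S * c → S ^ r = 1 → (∀ v : ι → F, S *ᵥ v = v → v = 0) →
      c.det = ν ^ n)
    (hB2 : ∀ (S : Matrix ι ι F), (∀ v, Q (S *ᵥ v) = Q v) → S ^ r = 1 → ∀ w : ι → F, S *ᵥ w = w →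
      w ≠ 0 → ∃ u : ι → F, S *ᵥ u = u ∧ Q u ≠ 0)
    (s : ↥(Cfsg.isometryGroup F ⇑Q)) (hs : s ^ r = 1)
    (g₀ : ↥(Cfsg.Geo.quadSimilarityGroup (F := F) ⇑Q)) (hg₀ : delta Q hu0 n g₀ = 1) :
    ∃ c : ↥(Cfsg.Geo.quadSimilarityGroup (F := F) ⇑Q),
      (c : GL ι F) * ((s : ↥(Cfsg.isometryGroup F ⇑Q)) : GL ι F) =
        ((s : ↥(Cfsg.isometryGroup F ⇑Q)) : GL ι F) * (c : GL ι F) ∧
      multFun Q c = multFun Q g₀ ∧ delta Q hu0 n c = 1 := by
  classical
  have hQ := C.hQ
  set S : Matrix ι ι F := ((s : GL ι F) : Matrix ι ι F) with hSdef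
  set G0 : Matrix ι ι F := ((g₀ : GL ι F) : Matrix ι ι F) with hG0def
  set G0i : Matrix ι ι F := (((g₀ : GL ι F)⁻¹ : GL ι F) : Matrix ι ι F) with hG0idef
  have hG0G0i : G0 * G0i = 1 := by
    rw [hG0def, hG0idef, ← Units.val_mul, mul_inv_cancel, Units.val_one]
  have hG0iG0 : G0i * G0 = 1 := by
    rw [hG0def, hG0idef, ← Units.val_mul, inv_mul_cancel, Units.val_one]
  set μ : Fˣ := multFun Q g₀ with hμ
  have hμ0 : (μ : F) ≠ 0 := Units.ne_zero _
  have hG0Q : ∀ v, Q (G0 *ᵥ v) = (μ : F) * Q v := multFun_spec Q g₀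
  have hSQ : ∀ v, Q (S *ᵥ v) = Q v := Cfsg.Agent.Lib.Helper50.O_isometry (⇑Q) s
  have hSr : S ^ r = 1 := by
    have := congrArg (Cfsg.Agent.Lib.Helper49.omat Q) hs
    rw [Cfsg.Agent.Lib.Helper49.omat_pow, Cfsg.Agent.Lib.Helper49.omat_one] at this
    exact this
  -- the conjugate isometry
  set b' : Matrix ι ι F := G0 * S * G0i with hb'
  have hb'Q : ∀ v, Q (b' *ᵥ v) = Q v := by
    intro v
    have h1 : b' *ᵥ v = G0 *ᵥ (S *ᵥ (G0i *ᵥ v)) := by
      rw [hb', Matrix.mulVec_mulVec, Matrix.mulVec_mulVec, mul_assoc]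
    have h3 : Q v = (μ : F) * Q (G0i *ᵥ v) := by
      rw [← hG0Q, Matrix.mulVec_mulVec, hG0G0i, Matrix.one_mulVec]
    rw [h1, hG0Q, hSQ, ← h3]
  let x : (ι → F) ≃ₗ[F] (ι → F) :=
    LinearEquiv.ofLinearMap (Matrix.toLin' G0) (Matrix.toLin' G0i)
      (by rw [← Matrix.toLin'_mul, hG0G0i, Matrix.toLin'_one])
      (by rw [← Matrix.toLin'_mul, hG0iG0, Matrix.toLin'_one])
  have hxv : ∀ v, x v = G0 *ᵥ v := fun v => Matrix.toLin'_apply G0 v
  have hak : Matrix.toLin' S ^ r = 1 := by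
    rw [← Matrix.toLin'_pow, hSr, Matrix.toLin'_one]; rfl
  have hx : ∀ v, x (Matrix.toLin' S v) = Matrix.toLin' b' (x v) := by
    intro v
    rw [hxv, hxv, Matrix.toLin'_apply, Matrix.toLin'_apply, hb', Matrix.mulVec_mulVec,
      Matrix.mulVec_mulVec, mul_assoc, mul_assoc, hG0iG0, mul_one]
  obtain ⟨g, hgQ, hg⟩ := Cfsg.Agent.Lib.Helper49.exists_orth_conj r hrF hro (Matrix.toLin' S)
    (Matrix.toLin' b') hak Q hQ
    (fun v => by rw [Matrix.toLin'_apply]; exact hSQ v)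
    (fun v => by rw [Matrix.toLin'_apply]; exact hb'Q v) x hx
  obtain ⟨ciso, hciso⟩ := Cfsg.Agent.Lib.Helper49.exists_isometryGroup_of_equiv Q g hgQ
  set Ci : Matrix ι ι F := ((ciso : GL ι F) : Matrix ι ι F) with hCi
  have hCiv : ∀ v, g v = Ci *ᵥ v := by
    intro v
    have := congrArg (fun f : (ι → F) →ₗ[F] (ι → F) => f v) hciso
    simp only [Matrix.toLin'_apply] at this
    exact this.symm
  -- `Ci * b' = S * Ci`
  have hCib : Ci * b' = S * Ci := by
    apply Matrix.toLin'.injective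
    apply LinearMap.ext
    intro v
    have e1 : Matrix.toLin' (Ci * b') v = Ci *ᵥ (b' *ᵥ v) := by
      rw [Matrix.toLin'_apply, Matrix.mulVec_mulVec]
    have e2 : Matrix.toLin' (S * Ci) v = S *ᵥ (Ci *ᵥ v) := by
      rw [Matrix.toLin'_apply, Matrix.mulVec_mulVec]
    have e3 := hg v
    rw [Matrix.toLin'_apply, Matrix.toLin'_apply, hCiv, hCiv] at e3
    rw [e1, e2, e3]
  have hCiG0S : (Ci * G0) * S = S * (Ci * G0) := by
    calc (Ci * G0) * S = Ci * (G0 * S * (G0i * G0)) := by rw [hG0iG0, mul_one, mul_assoc]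
      _ = (Ci * b') * G0 := by rw [hb']; simp only [mul_assoc]
      _ = S * (Ci * G0) := by rw [hCib, mul_assoc]
  set c' : ↥(Cfsg.Geo.quadSimilarityGroup (F := F) ⇑Q) := inclGO Q ciso * g₀ with hc'
  have hc'mat : (((c' : GL ι F)) : Matrix ι ι F) = Ci * G0 := rfl
  have hc'comm : (c' : GL ι F) * ((s : ↥(Cfsg.isometryGroup F ⇑Q)) : GL ι F) =
      ((s : ↥(Cfsg.isometryGroup F ⇑Q)) : GL ι F) * (c' : GL ι F) := by
    apply Units.ext
    rw [Units.val_mul, Units.val_mul, hc'mat]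
    exact hCiG0S
  have hmult_incl : ∀ h : ↥(Cfsg.isometryGroup F ⇑Q), multFun Q (inclGO Q h) = 1 :=
    fun h => multFun_inclGO Q hu0 h
  have hc'mult : multFun Q c' = μ := by
    rw [← mult_apply Q hu0, hc', map_mul, mult_apply, mult_apply, hmult_incl, one_mul]
  by_cases hfix : ∀ v : ι → F, S *ᵥ v = v → v = 0
  · -- no nonzero fixed vector: `hB1`
    refine ⟨c', hc'comm, hc'mult, ?_⟩
    set M := LinearMap.BilinForm.toMatrix' (QuadraticMap.polarBilin Q) with hM
    have hMB : Matrix.toBilin' M = QuadraticMap.polarBilin Q := Matrix.toBilin'_toMatrix' _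
    have hMdet : M.det ≠ 0 := by
      rw [← Matrix.nondegenerate_iff_det_ne_zero, ← Matrix.nondegenerate_toBilin'_iff, hMB]
      exact hQ
    have hMs : Mᵀ = M := by
      ext i j
      rw [Matrix.transpose_apply, hM, LinearMap.BilinForm.toMatrix'_apply,
        LinearMap.BilinForm.toMatrix'_apply, QuadraticMap.polarBilin_apply_apply,
        QuadraticMap.polarBilin_apply_apply, QuadraticMap.polar_comm]
    have hsim : ∀ (A : Matrix ι ι F) (ν : F), (∀ v, Q (A *ᵥ v) = ν * Q v) →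
        Aᵀ * M * A = ν • M := by
      intro A ν hA
      apply Matrix.toBilin'.injective
      rw [← Matrix.toBilin'_comp, hMB, map_smul, hMB]
      apply LinearMap.ext₂
      intro y z
      rw [LinearMap.BilinForm.comp_apply, Matrix.toLin'_apply, Matrix.toLin'_apply,
        QuadraticMap.polarBilin_apply_apply, LinearMap.smul_apply, LinearMap.smul_apply,
        QuadraticMap.polarBilin_apply_apply]
      unfold QuadraticMap.polar
      rw [← Matrix.mulVec_add, hA, hA, hA, smul_eq_mul]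
      ring
    have hSM : Sᵀ * M * S = M := by
      have := hsim S 1 (fun v => by rw [hSQ, one_mul])
      rw [one_smul] at this
      exact this
    have hc'Q : ∀ v, Q ((Ci * G0) *ᵥ v) = (μ : F) * Q v := by
      intro v
      have := multFun_spec Q c' v
      rw [hc'mult, hc'mat] at this
      exact this
    have hc'M : (Ci * G0)ᵀ * M * (Ci * G0) = (μ : F) • M := hsim _ _ hc'Q
    have hdet := hB1 M S (Ci * G0) (μ : F) hMs (Ne.isUnit hMdet) hSM hc'M hCiG0S hSr hfix
    apply Units.ext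
    rw [delta_apply, hc'mult, Units.val_mul, detGO_val, hc'mat, hdet, Units.val_pow_eq_pow_val,
      Units.val_inv_eq_inv_val, Units.val_one, inv_pow, mul_inv_cancel₀ (pow_ne_zero _ hμ0)]
  · -- a nonzero fixed vector: `hB2` and a reflection
    push Not at hfix
    obtain ⟨w, hw, hw0⟩ := hfix
    obtain ⟨u, hu, hQu⟩ := hB2 S hSQ hSr w hw hw0
    rcases delta_cases Q hu0 n hQ hcard c' with h1 | h1
    · exact ⟨c', hc'comm, hc'mult, h1⟩
    · set ρ : ↥(Cfsg.isometryGroup F ⇑Q) := Cfsg.Agent.Lib.Helper50.reflO Q u with hρ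
      have hρs : s * ρ = ρ * s := by
        have := Cfsg.Agent.Lib.Helper50.conj_reflO Q s u hQu
        rw [← hSdef, hu] at this
        exact this
      have hρs' : ((s : ↥(Cfsg.isometryGroup F ⇑Q)) : GL ι F) * (ρ : GL ι F) =
          (ρ : GL ι F) * ((s : ↥(Cfsg.isometryGroup F ⇑Q)) : GL ι F) := by
        have := congrArg (fun t : ↥(Cfsg.isometryGroup F ⇑Q) => (t : GL ι F)) hρs
        simpa using this
      refine ⟨inclGO Q ρ * c', ?_, ?_, ?_⟩
      · have hval : ((inclGO Q ρ * c' : ↥(Cfsg.Geo.quadSimilarityGroup (F := F) ⇑Q)) : GL ι F) =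
            (ρ : GL ι F) * (c' : GL ι F) := rfl
        rw [hval, mul_assoc, hc'comm, ← mul_assoc, ← hρs', mul_assoc]
      · rw [← mult_apply Q hu0, map_mul, mult_apply, mult_apply, hmult_incl, one_mul, hc'mult]
      · rw [map_mul, h1]
        have hdρ : delta Q hu0 n (inclGO Q ρ) = -1 := by
          apply Units.ext
          rw [delta_apply, hmult_incl, inv_one, one_pow, mul_one, detGO_val, inclGO_val, hρ,
            Cfsg.Agent.Lib.Helper50.reflO_val Q u hQu,
            Cfsg.Agent.Lib.Helper19.reflectionMatrix_det Q u hQu]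
          simp
        rw [hdρ]
        simp

end Cfsg.Agent.Lib.Helper65.S2721K
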