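import Mathlib
import Cfsg.Agent.Lib.Helper20.SympEmbed

/-!
# K-S2721-B1 (keystone 272104, architect helper7): determinant of a similarity commuting with a
fixed-point-free isometry of odd order.  (Parallel hand by helper65.)
-/

set_option autoImplicit false

namespace Cfsg.Agent.Lib.Helper65.S2721K

open Module Matrix

universe u

variable {F : Type u} [Field F]

/-- a similarity of the standard symplectic form with multiplier `ν ≠ 0` has determinant `ν ^ n` -/
theorem det_of_J_sim {n : ℕ} (c : Matrix (Fin n ⊕ Fin n) (Fin n ⊕ Fin n) F) (ν : F) (hν : ν ≠ 0)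
    (hc : cᵀ * Matrix.J (Fin n) F * c = ν • Matrix.J (Fin n) F) : c.det = ν ^ n := by
  classical
  set D : Matrix (Fin n ⊕ Fin n) (Fin n ⊕ Fin n) F :=
    Matrix.fromBlocks (ν⁻¹ • (1 : Matrix (Fin n) (Fin n) F)) 0 0 1 with hD
  have hDT : Dᵀ = D := by
    rw [hD, Matrix.fromBlocks_transpose]
    simp
  have hDJD : Dᵀ * Matrix.J (Fin n) F * D = ν⁻¹ • Matrix.J (Fin n) F := by
    rw [hDT, hD, Matrix.J, Matrix.fromBlocks_multiply, Matrix.fromBlocks_multiply, Matrix.fromBlocks_smul]
    congr 1 <;> simp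
  have hmem : c * D ∈ Matrix.symplecticGroup (Fin n) F := by
    rw [SymplecticGroup.mem_iff']
    rw [Matrix.transpose_mul]
    calc Dᵀ * cᵀ * Matrix.J (Fin n) F * (c * D)
        = Dᵀ * (cᵀ * Matrix.J (Fin n) F * c) * D := by simp only [mul_assoc]
      _ = ν • (Dᵀ * Matrix.J (Fin n) F * D) := by
          rw [hc, Matrix.mul_smul, Matrix.smul_mul]
      _ = Matrix.J (Fin n) F := by rw [hDJD, smul_smul, mul_inv_cancel₀ hν, one_smul]
  have hdet := SymplecticGroup.det_eq_one hmem
  rw [Matrix.det_mul] at hdet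
  have hdetD : D.det = (ν⁻¹) ^ n := by
    rw [hD, Matrix.det_fromBlocks_zero₂₁, Matrix.det_one, mul_one, Matrix.det_smul, Matrix.det_one, mul_one,
      Fintype.card_fin]
  rw [hdetD, inv_pow] at hdet
  have hνn : ν ^ n ≠ 0 := pow_ne_zero _ hν
  field_simp at hdet
  exact hdet

variable {ι : Type} [Fintype ι] [DecidableEq ι]

/-- a similarity of an invertible skew-symmetric matrix (char ≠ 2) with multiplier `ν ≠ 0` has
determinant `ν ^ n` -/
theorem det_of_skew_sim (h2 : (2 : F) ≠ 0) (n : ℕ) (hcard : Fintype.card ι = 2 * n)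
    (N c : Matrix ι ι F) (ν : F) (hν : ν ≠ 0) (hNs : Nᵀ = -N) (hN : N.det ≠ 0)
    (hc : cᵀ * N * c = ν • N) : c.det = ν ^ n := by
  classical
  set B : LinearMap.BilinForm F (ι → F) := Matrix.toBilin' N with hB
  have hAlt : B.IsAlt := by
    intro v
    have h0 : v ⬝ᵥ N *ᵥ v = -(v ⬝ᵥ N *ᵥ v) := by
      calc v ⬝ᵥ N *ᵥ v = (Nᵀ *ᵥ v) ⬝ᵥ v := by
            rw [Matrix.mulVec_transpose, Matrix.dotProduct_mulVec]
        _ = -((N *ᵥ v) ⬝ᵥ v) := by rw [hNs, Matrix.neg_mulVec, neg_dotProduct]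
        _ = -(v ⬝ᵥ N *ᵥ v) := by rw [dotProduct_comm]
    have h1 : B v v = -B v v := by
      rw [hB, Matrix.toBilin'_apply']
      exact h0
    have h3 : (2 : F) * B v v = 0 := by linear_combination h1
    rcases mul_eq_zero.1 h3 with h | h
    · exact absurd h h2
    · exact h
  have hNd : B.Nondegenerate := LinearMap.BilinForm.nondegenerate_toBilin'_of_det_ne_zero' N hN
  have hfin : Module.finrank F (ι → F) = 2 * n := by
    rw [Module.finrank_fintype_fun_eq_card, hcard]
  obtain ⟨b, hb⟩ := Cfsg.Agent.Lib.Helper20.exists_symplectic_basis B hAlt hNd n hfin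
  set f : (ι → F) →ₗ[F] (ι → F) := Matrix.toLin' c with hf
  have hcomp : B.comp f f = ν • B := by
    rw [hB, hf, Matrix.toBilin'_comp, hc, map_smul]
  set c' : Matrix (Fin n ⊕ Fin n) (Fin n ⊕ Fin n) F := LinearMap.toMatrix b b f with hc'
  have hc'J : c'ᵀ * Matrix.J (Fin n) F * c' = ν • Matrix.J (Fin n) F := by
    have h1 := LinearMap.BilinForm.toMatrix_comp b b B f f
    rw [hcomp, map_smul, hb] at h1
    exact h1.symm
  have hdet' : c'.det = c.det := by
    rw [hc', LinearMap.det_toMatrix, hf, LinearMap.det_toLin']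
  rw [← hdet']
  exact det_of_J_sim c' ν hν hc'J

/-- K-S2721-B1 (272104).  `G` symmetric invertible Gram matrix, `S` an isometry of odd order `r` without
nonzero fixed vectors, `c` a similarity with multiplier `ν` commuting with `S`.  Then `det c = ν^n`. -/
theorem det_of_comm_sim (h2 : (2 : F) ≠ 0) (n : ℕ) (hcard : Fintype.card ι = 2 * n)
    (G S c : Matrix ι ι F) (ν : F) (hGs : Gᵀ = G) (hG : IsUnit G.det)
    (hS : Sᵀ * G * S = G) (hc : cᵀ * G * c = ν • G) (hcS : c * S = S * c)
    {r : ℕ} (hro : Odd r) (hSr : S ^ r = 1) (hfix : ∀ v : ι → F, S *ᵥ v = v → v = 0) :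
    c.det = ν ^ n := by
  classical
  have hGdet : G.det ≠ 0 := hG.ne_zero
  -- the case `ν = 0`
  by_cases hν : ν = 0
  · subst hν
    rcases Nat.eq_zero_or_pos n with hn | hn
    · subst hn
      have : IsEmpty ι := Fintype.card_eq_zero_iff.1 (by simpa using hcard)
      simp
    · have h1 := congrArg Matrix.det hc
      rw [zero_smul, Matrix.det_mul, Matrix.det_mul, Matrix.det_transpose] at h1
      have hpos : 0 < Fintype.card ι := by omega
      have : Nonempty ι := Fintype.card_pos_iff.1 hpos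
      rw [Matrix.det_zero] at h1
      have hc0 : c.det = 0 := by
        rcases mul_eq_zero.1 h1 with h | h
        · rcases mul_eq_zero.1 h with h' | h'
          · exact h'
          · exact absurd h' hGdet
        · exact h
      rw [hc0, zero_pow (by omega)]
  -- the inverse of `S`
  obtain ⟨k, hk⟩ := hro
  set Si : Matrix ι ι F := S ^ (2 * k) with hSi
  have hSSi : S * Si = 1 := by rw [hSi, ← pow_succ', ← hk, hSr]
  have hSiS : Si * S = 1 := by rw [hSi, ← pow_succ, ← hk, hSr]
  have hcSi : c * Si = Si * c := by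
    rw [hSi]
    exact ((Commute.pow_right (show Commute c S from hcS) (2 * k)).eq)
  have hST : Sᵀ * G = G * Si := by
    calc Sᵀ * G = Sᵀ * G * (S * Si) := by rw [hSSi, mul_one]
      _ = (Sᵀ * G * S) * Si := by simp only [mul_assoc]
      _ = G * Si := by rw [hS]
  have hSiT_mul : Siᵀ * Sᵀ = 1 := by rw [← Matrix.transpose_mul, hSSi, Matrix.transpose_one]
  have hSiT : Siᵀ * G = G * S := by
    calc Siᵀ * G = Siᵀ * (Sᵀ * G * S) := by rw [hS]
      _ = (Siᵀ * Sᵀ) * G * S := by simp only [mul_assoc]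
      _ = G * S := by rw [hSiT_mul, one_mul]
  set N : Matrix ι ι F := G * (S - Si) with hN
  have hNs : Nᵀ = -N := by
    rw [hN, Matrix.transpose_mul, Matrix.transpose_sub, hGs, Matrix.sub_mul, hST, hSiT, Matrix.mul_sub]
    abel
  -- `S - Si` is injective
  have hinj : ∀ v : ι → F, (S - Si) *ᵥ v = 0 → v = 0 := by
    intro v hv
    rw [Matrix.sub_mulVec, sub_eq_zero] at hv
    -- `S² v = v`
    have h2v : (S * S) *ᵥ v = v := by
      rw [← Matrix.mulVec_mulVec, hv, Matrix.mulVec_mulVec, hSSi, Matrix.one_mulVec]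
    have hpow : ∀ j : ℕ, (S ^ (2 * j)) *ᵥ v = v := by
      intro j
      induction j with
      | zero => simp
      | succ j ih =>
        rw [show 2 * (j + 1) = 2 * j + 2 by ring, pow_add, pow_two, ← Matrix.mulVec_mulVec, h2v, ih]
    apply hfix
    have h3 : (S ^ (2 * k + 1)) *ᵥ v = v := by rw [← hk, hSr, Matrix.one_mulVec]
    rw [pow_succ', ← Matrix.mulVec_mulVec, hpow k] at h3
    exact h3
  have hdetSS : (S - Si).det ≠ 0 := by
    intro h0
    obtain ⟨v, hv0, hv⟩ := Matrix.exists_mulVec_eq_zero_iff.2 h0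
    exact hv0 (hinj v hv)
  have hNdet : N.det ≠ 0 := by
    rw [hN, Matrix.det_mul]
    exact mul_ne_zero hGdet hdetSS
  have hcomm : (S - Si) * c = c * (S - Si) := by
    rw [Matrix.sub_mul, Matrix.mul_sub, hcS, hcSi]
  have hcN : cᵀ * N * c = ν • N := by
    rw [hN]
    calc cᵀ * (G * (S - Si)) * c = cᵀ * G * ((S - Si) * c) := by simp only [mul_assoc]
      _ = cᵀ * G * (c * (S - Si)) := by rw [hcomm]
      _ = (cᵀ * G * c) * (S - Si) := by simp only [mul_assoc]
      _ = ν • (G * (S - Si)) := by rw [hc, Matrix.smul_mul]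
  exact det_of_skew_sim h2 n hcard N c ν hν hNs hNdet hcN

end Cfsg.Agent.Lib.Helper65.S2721K
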