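import Cfsg.Agent.Lib.Helper20.SQ.OmDefs

/-!
# Keystone 462521 (K-SQ-Ominus-SUB1): the Siegel transformations `ρ_{e_k, v}` lie in `Ω` (char 2).
-/

set_option autoImplicit false

namespace Cfsg.Agent.Lib.Helper65.SQ

open Matrix Module QuadraticMap Cfsg.Agent.Lib.Helper19 Cfsg.Agent.Lib.Helper08
  Cfsg.Agent.Lib.Helper38.SQ Cfsg.Agent.Lib.Helper20.SQ

variable {F : Type} [Field F] [Fintype F]

theorem card_OmI (r : ℕ) : Fintype.card (OmI r) = 2 * r + 2 := by
  simp [OmI, Fintype.card_sum]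
  omega

/-- 462521 SUB1 -/
theorem rhoO_mem_Omega [CharP F 2] (r : ℕ) (hr : 3 ≤ r) (a b : F)
    (hab : ∀ z₁ z₂ : F, z₁ ^ 2 + a * z₁ * z₂ + b * z₂ ^ 2 = 0 → z₁ = 0 ∧ z₂ = 0)
    (k : Fin r) (v : OmI r → F) (hv : v (Sum.inl (Sum.inr k)) = 0) :
    rhoO r a b hab k v hv ∈ Cfsg.Omega F (⇑(omQ r a b hab)) := by
  classical
  set Q := omQ r a b hab with hQdef
  set p : OmI r → F := omE r k with hpdef
  have hQ : (QuadraticMap.polarBilin Q).Nondegenerate := omQ_nondeg r a b hab
  have hp : Q p = 0 := omQ_E r a b hab k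
  have hpv : QuadraticMap.polarBilin Q p v = 0 := by
    rw [hpdef, hQdef, polarBilin_E', hv]
  have hpv' : polar (⇑Q) p v = 0 := by
    rw [← QuadraticMap.polarBilin_apply_apply]; exact hpv
  have hvp : polar (⇑Q) v p = 0 := by rw [polar_comm]; exact hpv'
  have hcard : Fintype.card (OmI r) = 2 * r + 2 := card_OmI r
  by_cases hQv : Q v = 0
  · -- long root element
    have hn : 5 ≤ Fintype.card (OmI r) := by rw [hcard]; omega
    have heq : rhoO r a b hab k v hv =
        Cfsg.Agent.Lib.Helper50.siegelO Q p v hp hQv hpv' (-1) := by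
      apply Subtype.ext
      apply Units.ext
      show LinearMap.toMatrix' (rhoLin r a b hab k v) = Cfsg.siegelMatrix (⇑Q) p v (-1)
      apply Matrix.toLin'.injective
      rw [Matrix.toLin'_toMatrix', Cfsg.Agent.Lib.Helper50.toLin'_siegelMatrix Q p v hQv (-1)]
      simp [rhoLin, hQdef, hpdef]
    rw [heq]
    exact Cfsg.Agent.Lib.Helper50.siegelO_mem_Omega Q hQ hn p v hp hQv hpv' (-1)
  · -- product of two reflections
    have h24 : Fintype.card F ≠ 2 ∨ Fintype.card (OmI r) ≠ 4 := Or.inr (by rw [hcard]; omega)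
    have hQ1 : Q (v - Q v • p) = Q v := by
      have h := QuadraticMap.map_add (⇑Q) v (-(Q v • p))
      rw [← sub_eq_add_neg] at h
      rw [h, QuadraticMap.map_neg, QuadraticMap.map_smul, hp, polar_neg_right, polar_smul_right,
        hvp]
      simp
    set l : List (OmI r → F) := [v, v - Q v • p] with hl
    have hl0 : ∀ w ∈ l, Q w ≠ 0 := by
      intro w hw
      rw [hl] at hw
      simp only [List.mem_cons, List.not_mem_nil, or_false] at hw
      rcases hw with rfl | rfl
      · exact hQv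
      · rw [hQ1]; exact hQv
    have hmat : (((rhoO r a b hab k v hv : ↥(Cfsg.isometryGroup F (⇑Q))) : GL (OmI r) F) :
        Matrix (OmI r) (OmI r) F) = (l.map (fun w => Cfsg.reflectionMatrix (⇑Q) w)).prod := by
      apply Matrix.toLin'.injective
      rw [rhoO_val, Matrix.toLin'_toMatrix',
        Cfsg.Agent.Lib.Helper43.toLin'_prod_reflectionMatrix, hl]
      simp only [List.map_cons, List.map_nil, List.prod_cons, List.prod_nil, mul_one]
      have h := Cfsg.Agent.Lib.Helper43.refl_comp_refl_eq_siegel Q p v hp hpv hQv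
      unfold rhoLin
      rw [← h]
      rfl
    rw [Cfsg.Agent.Lib.Helper50.omega_criterion Q hQ h24 _ l hl0 hmat]
    refine ⟨by rw [hl]; exact ⟨1, rfl⟩, fun h2 => ?_⟩
    exact absurd (CharTwo.two_eq_zero (R := F)) h2

end Cfsg.Agent.Lib.Helper65.SQ
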