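import Mathlib
import Cfsg.Agent.Lib.Helper69.StNDefs

/-!
# K-StN pack (S2401), leaf D3 (240112, helper65): the torus `Htor X` maps injectively to `SL_n(K)`.

Normal form: with a fixed index `i0`, every `h ∈ Htor X` is `∏_{j ≠ i0} hh X i0 j (u j)`; the image under `φ` is
the diagonal matrix with entry `(u j)⁻¹` at `j ≠ i0`, so `φ h = 1` forces all `u j = 1`.
-/

set_option autoImplicit false

namespace Cfsg.Agent.Lib.Helper65.StN

open Cfsg.Agent.Lib.Helper69.StN Matrix

variable {n : ℕ} {K : Type*} [Field K] {S : Type*} [Group S] {X : Fin n → Fin n → K → S}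

/-- **K-StN leaf D3** -/
theorem Htor_inj (hX : IsSt X) (hn : 2 ≤ n) (hM : HasHhMul X)
    (hcomm : ∀ a ∈ Htor X, ∀ b ∈ Htor X, a * b = b * a)
    (hswap : ∀ {i j : Fin n}, i ≠ j → ∀ {u : K}, u ≠ 0 → hh X j i u = (hh X i j u)⁻¹)
    (heq : ∀ {i0 i j : Fin n}, i0 ≠ i → i0 ≠ j → i ≠ j → ∀ {u : K}, u ≠ 0 →
      hh X i j u = (hh X i0 i u)⁻¹ * hh X i0 j u)
    {φ : S →* SpecialLinearGroup (Fin n) K}
    (hphi : ∀ {i j : Fin n}, i ≠ j → ∀ {u : K}, u ≠ 0 →
      ((φ (hh X i j u) : SpecialLinearGroup (Fin n) K) : Matrix (Fin n) (Fin n) K) =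
        Matrix.diagonal (fun m => if m = i then u else if m = j then u⁻¹ else 1)) :
    ∀ h ∈ Htor X, φ h = 1 → h = 1 := by
  classical
  have i0 : Fin n := ⟨0, by omega⟩
  have coe_one' : ((1 : SpecialLinearGroup (Fin n) K) : Matrix (Fin n) (Fin n) K) = 1 := rfl
  have coe_mul' : ∀ A B : SpecialLinearGroup (Fin n) K,
      ((A * B : SpecialLinearGroup (Fin n) K) : Matrix (Fin n) (Fin n) K) =
        (A : Matrix (Fin n) (Fin n) K) * (B : Matrix (Fin n) (Fin n) K) := fun _ _ => rfl
  let _ : CommGroup ↥(Htor X) :=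
    { (inferInstance : Group ↥(Htor X)) with
      mul_comm := fun a b => Subtype.ext (hcomm a a.2 b b.2) }
  -- the generators `hh X i0 j v` as elements of the torus
  let gen : Fin n → Kˣ → ↥(Htor X) := fun j v =>
    if h : i0 = j then 1 else ⟨hh X i0 j (v : K), hh_mem_Htor X h v.ne_zero⟩
  have gen_same : ∀ j v, i0 = j → gen j v = 1 := by
    intro j v h
    simp only [gen, dif_pos h]
  have gen_ne : ∀ j v, i0 ≠ j → ((gen j v : ↥(Htor X)) : S) = hh X i0 j (v : K) := by
    intro j v h
    simp only [gen, dif_neg h]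
  have gen_mul : ∀ j v v', gen j (v * v') = gen j v * gen j v' := by
    intro j v v'
    by_cases h : i0 = j
    · rw [gen_same _ _ h, gen_same _ _ h, gen_same _ _ h, mul_one]
    · apply Subtype.ext
      rw [Subgroup.coe_mul, gen_ne _ _ h, gen_ne _ _ h, gen_ne _ _ h, Units.val_mul]
      exact hM i0 j h _ _ v.ne_zero v'.ne_zero
  have gen_one : ∀ j, gen j 1 = 1 := by
    intro j
    by_cases h : i0 = j
    · exact gen_same _ _ h
    · apply Subtype.ext
      rw [gen_ne _ _ h, Units.val_one, Subgroup.coe_one]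
      exact hX.hh_one h
  have gen_inv : ∀ j v, gen j v⁻¹ = (gen j v)⁻¹ := by
    intro j v
    rw [eq_inv_iff_mul_eq_one, ← gen_mul, inv_mul_cancel, gen_one]
  -- the normal form
  let Ψ : (Fin n → Kˣ) → ↥(Htor X) := fun u => ∏ j, gen j (u j)
  have Ψ_mul : ∀ u u', Ψ (u * u') = Ψ u * Ψ u' := by
    intro u u'
    simp only [Ψ, Pi.mul_apply, gen_mul, Finset.prod_mul_distrib]
  have Ψ_one : Ψ 1 = 1 := by
    simp only [Ψ, Pi.one_apply, gen_one, Finset.prod_const_one]
  have Ψ_inv : ∀ u, Ψ u⁻¹ = (Ψ u)⁻¹ := by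
    intro u
    simp only [Ψ, Pi.inv_apply, gen_inv, Finset.prod_inv_distrib]
  have Ψ_single : ∀ j v, Ψ (Pi.mulSingle j v) = gen j v := by
    intro j v
    simp only [Ψ]
    rw [Finset.prod_eq_single j]
    · rw [Pi.mulSingle_eq_same]
    · intro b _ hb
      rw [Pi.mulSingle_eq_of_ne hb, gen_one]
    · intro h
      exact absurd (Finset.mem_univ _) h
  -- every element of the torus has a normal form
  have surj : ∀ h ∈ Htor X, ∃ u, h = ((Ψ u : ↥(Htor X)) : S) := by
    intro h hh'
    refine Subgroup.closure_induction (p := fun h _ => ∃ u, h = ((Ψ u : ↥(Htor X)) : S))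
      ?_ ?_ ?_ ?_ hh'
    · rintro g ⟨i, j, v, hij, hv, rfl⟩
      by_cases hi : i0 = i
      · refine ⟨Pi.mulSingle j (Units.mk0 v hv), ?_⟩
        have hj : i0 ≠ j := fun e => hij (hi.symm.trans e)
        rw [Ψ_single, gen_ne _ _ hj, ← hi, Units.val_mk0]
      · by_cases hj : i0 = j
        · refine ⟨(Pi.mulSingle i (Units.mk0 v hv))⁻¹, ?_⟩
          rw [Ψ_inv, Ψ_single, Subgroup.coe_inv, gen_ne _ _ hi, ← hj, Units.val_mk0]
          exact hswap hi hv
        · refine ⟨(Pi.mulSingle i (Units.mk0 v hv))⁻¹ * Pi.mulSingle j (Units.mk0 v hv), ?_⟩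
          rw [Ψ_mul, Ψ_inv, Ψ_single, Ψ_single, Subgroup.coe_mul, Subgroup.coe_inv, gen_ne _ _ hi,
            gen_ne _ _ hj, Units.val_mk0]
          exact heq hi hj hij hv
    · exact ⟨1, by rw [Ψ_one, Subgroup.coe_one]⟩
    · rintro a b _ _ ⟨u, rfl⟩ ⟨u', rfl⟩
      exact ⟨u * u', by rw [Ψ_mul, Subgroup.coe_mul]⟩
    · rintro a _ ⟨u, rfl⟩
      exact ⟨u⁻¹, by rw [Ψ_inv, Subgroup.coe_inv]⟩
  -- the image of a normal form under `φ`
  have Fdiag : ∀ (u : Fin n → Kˣ) (T : Finset (Fin n)),
      ((φ (((∏ j ∈ T, gen j (u j) : ↥(Htor X))) : S) : SpecialLinearGroup (Fin n) K) :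
          Matrix (Fin n) (Fin n) K) =
        Matrix.diagonal (fun m => if m = i0 then ∏ j ∈ T, (if i0 = j then (1 : K) else (u j : K))
          else if m ∈ T then ((u m : K))⁻¹ else 1) := by
    intro u T
    induction T using Finset.induction_on with
    | empty =>
      rw [Finset.prod_empty, Subgroup.coe_one, map_one, coe_one']
      ext r c
      by_cases hrc : r = c
      · subst hrc
        simp
      · simp [Matrix.diagonal_apply_ne _ hrc, Matrix.one_apply_ne hrc]
    | insert a T ha ih =>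
      rw [Finset.prod_insert ha, Subgroup.coe_mul, map_mul, coe_mul', ih]
      by_cases h0 : i0 = a
      · rw [gen_same _ _ h0, Subgroup.coe_one, map_one, coe_one', Matrix.one_mul]
        congr 1
        funext m
        by_cases hm : m = i0
        · rw [if_pos hm, if_pos hm, Finset.prod_insert ha, if_pos h0, one_mul]
        · rw [if_neg hm, if_neg hm]
          have hma : m ≠ a := fun e => hm (e.trans h0.symm)
          by_cases hmT : m ∈ T
          · rw [if_pos hmT, if_pos (Finset.mem_insert_of_mem hmT)]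
          · rw [if_neg hmT, if_neg]
            intro h
            rcases Finset.mem_insert.mp h with h | h
            · exact hma h
            · exact hmT h
      · rw [gen_ne _ _ h0, hphi h0 (u a).ne_zero, Matrix.diagonal_mul_diagonal]
        congr 1
        funext m
        by_cases hm : m = i0
        · rw [if_pos hm, if_pos hm, if_pos hm, Finset.prod_insert ha, if_neg h0]
        · rw [if_neg hm, if_neg hm, if_neg hm]
          by_cases hma : m = a
          · have hmT : m ∉ T := fun h => ha (hma ▸ h)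
            rw [if_pos hma, if_neg hmT, if_pos (hma ▸ Finset.mem_insert_self a T), mul_one, hma]
          · rw [if_neg hma, one_mul]
            by_cases hmT : m ∈ T
            · rw [if_pos hmT, if_pos (Finset.mem_insert_of_mem hmT)]
            · rw [if_neg hmT, if_neg]
              intro h
              rcases Finset.mem_insert.mp h with h | h
              · exact hma h
              · exact hmT h
  -- conclusion
  intro h hh' hφ
  obtain ⟨u, rfl⟩ := surj h hh'
  have hmat := Fdiag u Finset.univ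
  rw [show (∏ j ∈ Finset.univ, gen j (u j) : ↥(Htor X)) = Ψ u from rfl, hφ,
    coe_one'] at hmat
  have hu : ∀ j, i0 ≠ j → u j = 1 := by
    intro j hj
    have e := congrFun (congrFun hmat j) j
    rw [Matrix.one_apply_eq, Matrix.diagonal_apply_eq, if_neg (Ne.symm hj),
      if_pos (Finset.mem_univ j)] at e
    have e' : ((u j : Kˣ) : K) = 1 := by
      rw [← inv_inv ((u j : Kˣ) : K), ← e, inv_one]
    exact Units.ext e'
  have hΨ : Ψ u = 1 := by
    simp only [Ψ]
    apply Finset.prod_eq_one
    intro j _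
    by_cases hj : i0 = j
    · exact gen_same _ _ hj
    · rw [hu j hj, gen_one]
  rw [hΨ, Subgroup.coe_one]

end Cfsg.Agent.Lib.Helper65.StN
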