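import Cfsg.Agent.Lib.Helper73.UNdDefs
import Cfsg.Agent.Lib.Helper79.UNdBA3
import Cfsg.Agent.Lib.Helper49.UPairIndex
import Cfsg.Agent.Lib.Helper65.UNdBA1
import Cfsg.Agent.Lib.Helper77.UNdAR1
import Cfsg.Agent.Lib.Helper10.UNdAR2
import Cfsg.Agent.Lib.Helper08.UNdSCD0

set_option autoImplicit false
set_option linter.unusedSimpArgs false
set_option linter.unusedSectionVars false
set_option linter.unusedVariables false
set_option maxHeartbeats 1000000

/-!
# K-UNd-SE (595428), core: an isometry of order `r` of the standard hermitian space of dimension `c`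
without fixed vectors, from Cauchy in `GU c F q`.  The arithmetic leaves (AR1, AR2) and S-C enter as hypotheses.
-/

namespace Cfsg.Agent.Lib.Helper65.UNd

open Module Cfsg.Agent.Lib.Helper99.HermONB Cfsg.Agent.Lib.Helper98.Elus Cfsg.Agent.Lib.Helper73.UNd

universe u
variable {F : Type u} [Field F] {q : ℕ}

/-- elements of `GU n F q` are isometries of the standard hermitian form -/
theorem isom_of_mem_GU (n : ℕ) (g : Matrix.GeneralLinearGroup (Fin n) F) (hg : g ∈ Cfsg.GU n F q) :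
    Isom (Cfsg.hermForm n F q) (Matrix.toLin' (g : Matrix (Fin n) (Fin n) F)) := by
  intro u v
  have := hg u v
  simpa [Matrix.toLin'_apply] using this

/-- core of `exists_block_u`: the arithmetic (`r ∣ GUf q c`) and the divisibility leaf S-C are hypotheses -/
theorem exists_block_u_core [Fintype F] (hF : Fintype.card F = q ^ 2) (r : ℕ) [Fact r.Prime]
    (hrF : (r : F) ≠ 0) (c : ℕ) (hc1 : 1 ≤ c)
    (hdvd : r ∣ Cfsg.Agent.Lib.Helper51.UPar.GUf q c)
    (hSC : ∀ y : (Fin c → F) →ₗ[F] (Fin c → F), y ^ r = 1 → Isom (Cfsg.hermForm c F q) y →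
      ∀ U : Submodule F (Fin c → F), U ≤ V1 r y → Inv y U → ND (Cfsg.hermForm c F q) U →
        c ∣ finrank F U) :
    ∃ y0 : (Fin c → F) →ₗ[F] (Fin c → F), Isom (Cfsg.hermForm c F q) y0 ∧ y0 ^ r = 1 ∧ y0 ≠ 1 ∧
      ∀ w, gsum r y0 w = 0 := by
  classical
  have hr : r.Prime := Fact.out
  have hcard := Cfsg.Agent.Lib.Helper49.card_GU_eq (F := F) hF c
  have hdvd' : r ∣ Nat.card (Cfsg.GU c F q) := by rw [hcard]; exact hdvd
  obtain ⟨g, hg⟩ := exists_prime_orderOf_dvd_card' r hdvd'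
  have hgmem : (g : Matrix.GeneralLinearGroup (Fin c) F) ∈ Cfsg.GU c F q := g.2
  set y0 : (Fin c → F) →ₗ[F] (Fin c → F) :=
    Matrix.toLin' ((g : Matrix.GeneralLinearGroup (Fin c) F) : Matrix (Fin c) (Fin c) F) with hy0
  have hiso : Isom (Cfsg.hermForm c F q) y0 := isom_of_mem_GU c _ hgmem
  have hy : y0 ^ r = 1 := by
    have h1 : g ^ r = 1 := by rw [← hg]; exact pow_orderOf_eq_one g
    have h2 : ((g : Matrix.GeneralLinearGroup (Fin c) F) : Matrix (Fin c) (Fin c) F) ^ r = 1 := by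
      have := congrArg (fun x : ↥(Cfsg.GU c F q) =>
        ((x : Matrix.GeneralLinearGroup (Fin c) F) : Matrix (Fin c) (Fin c) F)) h1
      simpa using this
    rw [hy0, ← Matrix.toLin'_pow, h2, Matrix.toLin'_one]
    rfl
  have hne : y0 ≠ 1 := by
    intro h
    have h1 : ((g : Matrix.GeneralLinearGroup (Fin c) F) : Matrix (Fin c) (Fin c) F) = 1 := by
      apply Matrix.toLin'.injective
      rw [← hy0, h, Matrix.toLin'_one]
      rfl
    have h2 : g = 1 := Subtype.ext (Units.ext h1)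
    rw [h2, orderOf_one] at hg
    have := hr.two_le
    omega
  refine ⟨y0, hiso, hy, hne, ?_⟩
  have hh := stdH_hform (F := F) hF c
  have hnd1 : ND (Cfsg.hermForm c F q) (V1 r y0) := by
    have := (Cfsg.Agent.Lib.Helper79.UNd.nd_inf_parts hF hh r hrF y0 hy hiso ⊤
      (Cfsg.Agent.Lib.Helper65.UNd.nd_top hh) (fun _ _ => Submodule.mem_top)).2
    rwa [top_inf_eq] at this
  obtain ⟨k, hk⟩ := hSC y0 hy hiso (V1 r y0) le_rfl (inv_V1 r y0) hnd1
  have hfin : finrank F (Fin c → F) = c := by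
    rw [Module.finrank_pi, Fintype.card_fin]
  have hle : finrank F (V1 r y0) ≤ c := by
    conv_rhs => rw [← hfin]
    exact Submodule.finrank_le _
  have hk0 : k ≠ 0 := by
    rintro rfl
    rw [mul_zero] at hk
    have hbot : V1 r y0 = ⊥ := Submodule.finrank_eq_zero.mp hk
    have htop := V0_sup_V1 r hrF y0 hy
    rw [hbot, sup_bot_eq] at htop
    apply hne
    apply LinearMap.ext
    intro w
    have : w ∈ V0 y0 := by rw [htop]; exact Submodule.mem_top
    rw [(mem_V0 y0 w).mp this]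
    rfl
  have hk1 : k = 1 := by
    by_contra h
    have : 2 ≤ k := by omega
    have : c * 2 ≤ c * k := Nat.mul_le_mul_left _ this
    omega
  have htop : V1 r y0 = ⊤ := by
    apply Submodule.eq_top_of_finrank_eq
    rw [hk, hk1, mul_one, hfin]
  intro w
  have : w ∈ V1 r y0 := by rw [htop]; exact Submodule.mem_top
  exact (mem_V1 r y0 w).mp this

/-- `exists_block_u` with the leaf S-C (`cU_dvd_finrank_u`, for the standard form of dimension `c`) as hypothesis;
AR1 (`Helper77`) and AR2 (`Helper10`) are plugged in. -/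
theorem exists_block_u_of [Fintype F] (hF : Fintype.card F = q ^ 2) (p f : ℕ) [Fact p.Prime]
    (hFp : Fintype.card F = p ^ f) (r : ℕ) [Fact r.Prime] (hpr : p ≠ r) (hr2 : r ≠ 2)
    (hrF : (r : F) ≠ 0) (c : ℕ) (hc : c = cU (orderOf (q : ZMod r)))
    (hSC : ∀ y : (Fin c → F) →ₗ[F] (Fin c → F), y ^ r = 1 → Isom (Cfsg.hermForm c F q) y →
      ∀ U : Submodule F (Fin c → F), U ≤ V1 r y → Inv y U → ND (Cfsg.hermForm c F q) U →
        cU (orderOf (q : ZMod r)) ∣ finrank F U) :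
    ∃ y0 : (Fin c → F) →ₗ[F] (Fin c → F), Isom (Cfsg.hermForm c F q) y0 ∧ y0 ^ r = 1 ∧ y0 ≠ 1 ∧
      ∀ w, gsum r y0 w = 0 := by
  have hr : r.Prime := Fact.out
  have hp : p.Prime := Fact.out
  have hrq : ¬ r ∣ q := by
    intro hd
    have h2 : r ∣ p ^ f := by
      rw [← hFp, hF]
      exact dvd_pow hd two_ne_zero
    have := hr.dvd_of_dvd_pow h2
    rw [Nat.prime_dvd_prime_iff_eq hr hp] at this
    exact hpr this.symm
  have hq1 : 1 ≤ q := Cfsg.Agent.Lib.Helper19.q_pos hF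
  have hc1 : 1 ≤ c := by
    rw [hc]
    exact Cfsg.Agent.Lib.Helper08.UNd.cU_orderOf_pos hF p f hFp r hpr
  have hd : (r : ℤ) ∣ (q : ℤ) ^ c - (-1) ^ c :=
    (Cfsg.Agent.Lib.Helper77.UNd.cU_dvd_iff r hr2 hrq c).mpr (by rw [← hc])
  have hdvd := Cfsg.Agent.Lib.Helper10.UNd.dvd_GUf_of hq1 r c hc1 hd
  refine exists_block_u_core hF r hrF c hc1 hdvd ?_
  intro y hy hiso U hUV1 hU hUnd
  have := hSC y hy hiso U hUV1 hU hUnd
  rwa [← hc] at this

end Cfsg.Agent.Lib.Helper65.UNd
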